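import Cfsg.Agent.D4F.Defs2

/-! Chain stabilisers are `p`-groups; extension along a chain. -/

set_option autoImplicit false

namespace Cfsg.Lib.D4F

open Cfsg Cfsg.FusionSystem Subgroup Equiv Cfsg.Lib.Fus Cfsg.Lib.Fus.Ess

variable {p : ℕ} [Fact p.Prime]

namespace SEa

theorem inv_maps {α : Type*} [Finite α] {f : Perm α} {s : Set α} (h : ∀ x ∈ s, f x ∈ s) {x : α}
    (hx : x ∈ s) : f⁻¹ x ∈ s := by
  obtain ⟨y, hy, rfl⟩ := (((Set.toFinite s).injOn_iff_bijOn_of_mapsTo h).1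
    f.injective.injOn).surjOn hx
  rwa [perm_inv_apply]

variable {E : Type*} [Group E] [Finite E]

/-- `R` preserves `X` and its `p'`-elements are trivial on `X`. -/
def Ok (p : ℕ) (R : Subgroup (MulAut E)) (X : Subgroup E) : Prop :=
  AInv R X ∧ ∀ γ ∈ R, (orderOf γ).Coprime p → Triv γ X ⊥

theorem Ok_eq_1' : type_of% @Ok.eq_1 := @Ok.eq_1

omit [Finite E] [Fact p.Prime] in
theorem ok_bot {X : Subgroup E} (h : X = ⊥) : Ok p ⊤ X :=
  h ▸ ⟨aInv_bot, fun γ _ _ => triv_self (aInv_bot γ (mem_top γ))⟩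

theorem Ok.step (hE : IsPGroup p E) {R : Subgroup (MulAut E)} {X Y : Subgroup E} (h : Ok p R Y)
    (hY : Y ≤ X) : ∃ R' : Subgroup (MulAut E), (∀ γ, γ ∈ R' ↔ γ ∈ R ∧ Triv γ X Y) ∧ Ok p R' X :=
  ⟨subgroupOfFinite {γ | γ ∈ R ∧ Triv γ X Y} ⟨one_mem _, triv_one _ _⟩ fun _ _ ha hb =>
    ⟨mul_mem ha.1 hb.1, ha.2.mul hb.2 fun _ hx => hb.2.maps hY hx⟩, fun _ => Iff.rfl,
    fun _ ha _ hx => ha.2.maps hY hx, fun γ ha hc =>
      ha.2.trans hE hc (h.2 γ ha.1 hc) (aInv_bot γ (mem_top γ))⟩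

theorem Ok.pgroup {R : Subgroup (MulAut E)} {X : Subgroup E} (h : Ok p R X) (hX : X = ⊤) :
    IsPGroup p R :=
  isPGroup_iff_resIn_eq_bot.2 (le_bot_iff.1 (resIn_le_iff.2 fun γ ha hc =>
    mem_bot.2 (triv_top_bot_iff.1 (hX ▸ h.2 γ ha hc))))

end SEa

open SEa

variable {G : Type*} [Group G] [Finite G]

theorem Ch.pgroup {E : Subgroup G} (hE : IsPGroup p E) {α β : MulAut E} {f₁ f₂ : G → G}
    (e₁ : ∀ x : E, (α x : G) = f₁ x) (e₂ : ∀ x : E, (β x : G) = f₂ x) (h : Ch f₁ f₂ E) :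
    IsPGroup p (closure {α, β} : Subgroup (MulAut E)) := by
  have key : ∀ X, Ch f₁ f₂ X → ∃ R, α ∈ R ∧ β ∈ R ∧ Ok p R (X.subgroupOf E) := fun X h => by
    induction h with
    | bot => exact ⟨⊤, trivial, trivial, ok_bot (bot_subgroupOf E)⟩
    | step hY h1 h2 _ ih =>
      obtain ⟨R, ha, hb, k⟩ := ih
      obtain ⟨R', m, k'⟩ := k.step hE (comap_mono hY)
      exact ⟨R', (m _).2 ⟨ha, fun x hx => by have := h1 x hx; rwa [← e₁] at this⟩,
        (m _).2 ⟨hb, fun x hx => by have := h2 x hx; rwa [← e₂] at this⟩, k'⟩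
  obtain ⟨R, ha, hb, k⟩ := key E h
  exact (k.pgroup (subgroupOf_self E)).to_le ((closure_le _).2 (Set.pair_subset ha hb))

theorem ext_of_ca {F : FusionSystem (⊤ : Subgroup G)} (hS : IsPGroup p (⊤ : Subgroup G))
    (hF : F.IsSaturated p) {P : Subgroup G} (hP : ∀ x, ∀ g ∈ P, x * g * x⁻¹ ∈ P) {f : Perm G}
    (hf : PIso F f P P) (h : Ca f P) : ∃ f' : Perm G, Mor F ⊤ f' ∧ ∀ g ∈ P, f' g = f g := by
  have key : ∀ X, Ca f X → (∀ g ∈ X, f g ∈ X) → ∃ R, autInducedBy ⊤ P ≤ R ∧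
      (∀ γ ∈ R, hf.aut * γ * hf.aut⁻¹ ∈ R) ∧ Ok p R (X.subgroupOf P) := fun X h => by
    induction h with
    | bot => exact fun _ => ⟨⊤, le_top, fun _ _ => trivial, ok_bot (bot_subgroupOf P)⟩
    | step hY h1 h2 _ ih =>
      intro hX
      obtain ⟨R, ha, hb, k⟩ := ih h1
      obtain ⟨R', m, k'⟩ := k.step (hS.to_le le_top) (comap_mono hY)
      refine ⟨R', fun t ht => (m _).2 ⟨ha ht, ?_⟩, fun γ hγ => (m _).2 ⟨hb γ ((m _).1 hγ).1,
        ((m _).1 hγ).2.conj (fun x hx => inv_maps hX hx) fun y hy => h1 _ hy⟩, k'⟩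
      obtain ⟨x, -, hx, rfl⟩ := mem_autInducedBy'.1 ht
      exact fun g hg => h2 x g hg
  obtain ⟨R, h1, h2, k⟩ := key P h fun _ => hf.maps
  have hN : ⊤ ≤ normalizer (P : Set G) := fun x _ => mem_normalizer_of_finite (hP x)
  have hn := isFullyNormalized_of_le_normalizer (F := F) le_top hN
  have hT := sat_sylIn hS hF hn
  obtain ⟨g, hg, e⟩ := exists_ext_aut (sat_receptive hS hF hn) hf.aut_mem (U := ⊤) (le_inf le_rfl hN)
    fun x hx => by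
      have hx := conjAut_mem_autInducedBy hx (hN hx)
      exact (hT.max _ (le_inf h1 hT.le) inf_le_right
        ((k.pgroup (subgroupOf_self P)).to_le inf_le_left)).le ⟨h2 _ (h1 hx),
          (F.autGroup P).mul_mem (mul_mem hf.aut_mem (hT.le hx)) (Subgroup.inv_mem _ hf.aut_mem)⟩
  exact ⟨g, hg, fun x hx => (e x hx).trans (hf.pext_aut hx)⟩

end Cfsg.Lib.D4F
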