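import Cfsg.Agent.D4F.F4
import Cfsg.Agent.D4F.SEa

/-! Fusion systems over a Sylow subgroup of `³D₄(q)`: automorphisms preserve the layers. -/

set_option autoImplicit false
set_option linter.unusedSectionVars false

namespace Cfsg.Lib.D4F

open Cfsg Cfsg.FusionSystem Subgroup Equiv Cfsg.Lib.Fus

variable {K : Type*} [Field K] [Cub K] [Finite K] {p : ℕ} [Fact p.Prime]
  {F F' : FusionSystem (⊤ : Subgroup (M K))} {E : Subgroup (M K)} {O : Perm (M K) → Prop}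
  {H : Subgroup (Gm K)} {X : Subgroup (Perm (V K))}

section Char

variable {g : M K}

theorem mem_ZZ_of_comm (h : ∀ x, x * g = g * x) : g ∈ ZZ K := by
  have hU := mem_UU_of_comm fun d _ => (h d).symm
  have hr : g.r = 0 := eq_zero_of_tr fun s => by
    rw [mul_comm]; exact ((comm_UU_iff hU).1 (h (ea s))).1
  exact ⟨hU.1, hU.2.1, hU.2.2, hr, by
    simpa [eb, hr] using ((comm_UU_iff hU).1 (h (eb 1 (map_one _)))).2⟩

theorem mem_Q12_of_cm (h : ∀ x, cm g x ∈ UU K) : g ∈ Q12 K :=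
  ⟨by simpa [cm_s, eb] using (h (eb 1 (map_one _))).2.2, by simpa [cm_s, ea] using (h (ea 1)).2.2⟩

theorem mem_UU_of_cm (h : ∀ x, cm g x ∈ Z2 K) : g ∈ UU K :=
  have h1 := mem_Q12_of_cm fun x => Z2_le_UU (h x)
  ⟨h1.1, h1.2, eq_zero_of_cr fun s => (cm_r_left (x := ea s) h1).symm.trans (h _).2.2.2⟩

theorem mem_Z2_of_cm (h : ∀ x, cm g x ∈ ZZ K) : g ∈ Z2 K :=
  have h1 := mem_UU_of_cm fun x => ZZ_le_Z2 (h x)
  ⟨h1.1, h1.2.1, h1.2.2, eq_zero_of_tr fun s => by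
    rw [mul_comm]; exact (cm_v_left (x := ea s) h1).symm.trans (h _).2.2.2.2⟩

theorem mem_Q1_of_cm (h : ∀ d ∈ UU K, cm d g ∈ ZZ K) : g ∈ Q1 K :=
  eq_zero_of_tr fun r => (cm_v_left (g := ed r) ⟨rfl, rfl, rfl⟩).symm.trans
    (h _ ⟨rfl, rfl, rfl⟩).2.2.2.2

theorem mem_Q2_of_comm' (h : ∀ d ∈ Z2 K, g * d = d * g) : g ∈ Q2 K :=
  mem_Q2_of_comm (g := ee 1 (map_one _)) ⟨rfl, rfl, rfl, rfl⟩ one_ne_zero (h _ ⟨rfl, rfl, rfl, rfl⟩)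

end Char

theorem aut_cm (f : MulAut (M K)) (g x : M K) : f (cm g x) = cm (f g) (f x) := by simp [cm]

theorem aut_layers (f : MulAut (M K)) : (∀ g ∈ ZZ K, f g ∈ ZZ K) ∧ (∀ g ∈ Z2 K, f g ∈ Z2 K) ∧
    (∀ g ∈ UU K, f g ∈ UU K) ∧ (∀ g ∈ Q12 K, f g ∈ Q12 K) ∧ (∀ g ∈ Q1 K, f g ∈ Q1 K) ∧
    ∀ g ∈ Q2 K, f g ∈ Q2 K := by
  have h1 : ∀ f : MulAut (M K), ∀ g ∈ ZZ K, f g ∈ ZZ K := fun f g hg => mem_ZZ_of_comm fun x => by
    obtain ⟨x, rfl⟩ := f.surjective x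
    rw [← map_mul, comm_ZZ hg, map_mul]
  have h2 : ∀ f : MulAut (M K), ∀ g ∈ Z2 K, f g ∈ Z2 K := fun f g hg => mem_Z2_of_cm fun x => by
    obtain ⟨x, rfl⟩ := f.surjective x
    exact aut_cm f g x ▸ h1 f _ (cm_ZZ_left hg x)
  have h3 : ∀ f : MulAut (M K), ∀ g ∈ UU K, f g ∈ UU K := fun f g hg => mem_UU_of_cm fun x => by
    obtain ⟨x, rfl⟩ := f.surjective x
    exact aut_cm f g x ▸ h2 f _ (cm_Z2_left hg x)
  refine ⟨h1 f, h2 f, h3 f, fun g hg => mem_Q12_of_cm fun x => ?_,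
    fun g hg => mem_Q1_of_cm fun d hd => ?_, fun g hg => mem_Q2_of_comm' fun d hd => ?_⟩
  · obtain ⟨x, rfl⟩ := f.surjective x
    exact aut_cm f g x ▸ h3 f _ (cm_UU_left hg x)
  · have := h1 f _ (cm_ZZ (Q12_le_Q1 (UU_le_Q12 (h3 f⁻¹ d hd))) hg)
    rwa [aut_cm, MulAut.apply_inv_self] at this
  · have := congrArg f (comm_Z2 (h2 f⁻¹ d hd) hg)
    rwa [map_mul, map_mul, MulAut.apply_inv_self] at this

theorem KL_lay {f : MulAut (M K)} (hf : f ∈ KL K) : (∀ g ∈ Q12 K, (f g).s = g.s) ∧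
    (∀ g ∈ UU K, (f g).r = g.r) ∧ (∀ g ∈ Z2 K, (f g).v = g.v) ∧ ∀ g ∈ ZZ K, f g = g := by
  obtain ⟨l1, l2, l3, l4, -, -⟩ := aut_layers f
  have e : ∀ c g, f g = f c * f (c⁻¹ * g) := fun c g => by rw [← map_mul, mul_inv_cancel_left]
  have h1 : ∀ g ∈ Q12 K, (f g).s = g.s := fun g hg => by
    obtain ⟨c, hc, c1, c2⟩ : ∃ c ∈ Q12 K, c.s = g.s ∧ (f c).s = g.s :=
      ⟨cm (eb 1 (map_one _)) (ea g.s), cm_Q12 _ _, by simp [cm_s, ea, eb], by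
        simp [aut_cm, cm_s, (hf _).1, (hf _).2, ea, eb]⟩
    have := l3 (c⁻¹ * g) ⟨by mdl [hc.1, hg.1], by mdl [hc.2, hg.2], by mdl [hc.2, hg.2, c1]⟩
    rw [e c]; generalize f (c⁻¹ * g) = w at this; mdl [this.2.1, this.2.2, c2]
  have h2 : ∀ g ∈ UU K, (f g).r = g.r := fun g hg => by
    have k : ∀ a b : K, ∃ c ∈ UU K, c.r = cr a b ∧ (f c).r = cr a b := fun a b =>
      ⟨cm (ec b) (ea a), cm_UU_left ⟨rfl, rfl⟩ _, cm_r_left ⟨rfl, rfl⟩, by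
        rw [aut_cm, cm_r_left (l4 _ ⟨rfl, rfl⟩), (hf _).1, h1 _ ⟨rfl, rfl⟩]; rfl⟩
    obtain ⟨a, b, a', b', er⟩ := exists_cr_add g.r
    obtain ⟨c, hc, c1, c2⟩ := k a b
    obtain ⟨d, hd, d1, d2⟩ := k a' b'
    have := l2 ((c * d)⁻¹ * g) ⟨by mdl [hc.1, hd.1, hg.1], by mdl [hc.2.1, hd.2.1, hg.2.1],
      by mdl [hc.2.1, hd.2.1, hg.2.1, hc.2.2, hd.2.2, hg.2.2],
      by mdl [hc.1, hd.1, hc.2.1, hd.2.1, hg.2.1, er, c1, d1]⟩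
    rw [e (c * d), map_mul]
    generalize f ((c * d)⁻¹ * g) = w at this
    mdl [(l3 c hc).1, (l3 d hd).1, (l3 d hd).2.1, this.2.1, this.2.2.2, c2, d2, er]
  have h3 : ∀ g ∈ Z2 K, (f g).v = g.v := fun g hg => by
    obtain ⟨r, hr⟩ := exists_tr one_ne_zero g.hv
    obtain ⟨c, hc, c1, c2⟩ : ∃ c ∈ Z2 K, c.v = g.v ∧ (f c).v = g.v :=
      ⟨cm (ed r) (ea 1), cm_Z2_left ⟨rfl, rfl, rfl⟩ _, (cm_v_left ⟨rfl, rfl, rfl⟩).trans hr, by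
        rw [aut_cm, cm_v_left (l3 _ ⟨rfl, rfl, rfl⟩), (hf _).1, h2 _ ⟨rfl, rfl, rfl⟩]; exact hr⟩
    have h0 := mul_mem (inv_mem hc) hg
    have := l1 (c⁻¹ * g) ⟨h0.1, h0.2.1, h0.2.2.1, h0.2.2.2, by mdl [hc.1, hc.2.1, hg.2.1, c1]⟩
    rw [e c]; generalize f (c⁻¹ * g) = w at this; mdl [(l2 c hc).1, this.2.1, this.2.2.2.2, c2]
  refine ⟨h1, h2, h3, fun g hg => Z2_ext (ZZ_le_Z2 (l1 g hg)) (ZZ_le_Z2 hg)
    (h3 g (ZZ_le_Z2 hg)) ?_⟩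
  have hd : ee g.z g.hz ∈ Z2 K := ⟨rfl, rfl, rfl, rfl⟩
  have : g = cm (ee g.z g.hz) (eb 1 (map_one _)) :=
    Z2_ext (ZZ_le_Z2 hg) (ZZ_le_Z2 (cm_ZZ_left hd _)) (hg.2.2.2.2.trans (cm_ZZ_left hd _).2.2.2.2.symm)
      (by rw [cm_z_left (Z2_le_UU hd)]; simp [ee, eb])
  conv_lhs => rw [this, aut_cm, cm_z_left (Z2_le_UU (l2 _ hd)), (l2 _ hd).2.2.2, h3 _ hd, (hf _).2]
  simp [ee, eb]

theorem lay_of_tu (f : MulAut (M K)) (γ : Gm K) (ht : ∀ g, (f g).t = (Gm.aut γ g).t)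
    (hu : ∀ g, (f g).u = (Gm.aut γ g).u) : Lay f γ := by
  have e : ∀ g, f g = Gm.aut γ (((Gm.aut γ)⁻¹ * f) g) := fun g => by simp
  obtain ⟨h1, h2, h3, h4⟩ := KL_lay (f := (Gm.aut γ)⁻¹ * f) fun g => by
    have a := ht g
    have b := hu g
    rw [e, Gm.aut_t, Gm.aut_t] at a
    rw [e, Gm.aut_u, Gm.aut_u] at b
    exact ⟨γ.φ.injective (mul_left_cancel₀ γ.ha a), γ.φ.injective (mul_left_cancel₀ γ.hc b)⟩
  exact ⟨ht, hu, fun g hg => by rw [e, Gm.aut_s, h1 g hg, Gm.aut_s],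
    fun g hg => by rw [e, Gm.aut_r, h2 g hg, Gm.aut_r],
    fun g hg => by rw [e, Gm.aut_v, h3 g hg, Gm.aut_v], fun g hg => by rw [e, h4 g hg]⟩

theorem mem_KL_iff {f : MulAut (M K)} : f ∈ KL K ↔ ∀ g, g⁻¹ * f g ∈ Q12 K :=
  forall_congr' fun g => and_congr (by rw [M.mul_t, M.inv_t, neg_add_eq_zero, eq_comm])
    (by rw [M.mul_u, M.inv_u, neg_add_eq_zero, eq_comm])

theorem KL_normal : (KL K).Normal := ⟨fun f hf θ => mem_KL_iff.2 fun g => by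
  simpa using (aut_layers θ).2.2.2.1 _ (mem_KL_iff.1 hf (θ⁻¹ g))⟩

theorem aut_mem_KL {γ : Gm K} (h : Gm.aut γ ∈ KL K) : γ = 1 := by
  have ha : γ.a = 1 := by simpa [Gm.aut_t, ea] using (h (ea 1)).1
  exact Gm.ext ha (by simpa [Gm.aut_u, eb, Gm.one_c] using (h (eb 1 (map_one _))).2)
    (RingEquiv.ext fun t => by simpa [Gm.aut_t, ea, ha, Gm.one_φ'] using (h (ea t)).1)

variable [CharP K p]

theorem KL_pgroup : IsPGroup p (KL K) := by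
  rintro ⟨f, hf⟩
  obtain ⟨h1, h2, h3, h4⟩ := KL_lay hf
  obtain ⟨l1, l2, l3, l4, -, -⟩ := aut_layers f
  have s1 : St f ⊤ (Q12 K) := fun g _ => mem_KL_iff.1 hf g
  have s2 : St f (Q12 K) (UU K) := fun g hg => ⟨(s1 g trivial).1, (s1 g trivial).2, by
    mdl [h1 g hg, hg.2, (l4 g hg).2]⟩
  have s3 : St f (UU K) (Z2 K) := fun g hg =>
    have := s2 g (UU_le_Q12 hg)
    ⟨this.1, this.2.1, this.2.2, by mdl [h2 g hg, hg.1]⟩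
  have s4 : St f (Z2 K) (ZZ K) := fun g hg =>
    have := s3 g (Z2_le_UU hg)
    ⟨this.1, this.2.1, this.2.2.1, this.2.2.2, by mdl [h3 g hg, hg.1]⟩
  have s5 : St f (ZZ K) ⊥ := fun g hg => by rw [h4 g hg, inv_mul_cancel]; rfl
  let e := MulAut.congr (topEquiv.symm : M K ≃* (⊤ : Subgroup (M K)))
  obtain ⟨n, hn⟩ := Ch.pgroup (isPGroup_top (p := p)) (α := e f) (β := e f) (fun _ => rfl)
    (fun _ => rfl) (.step le_top s1 s1 (.step UU_le_Q12 s2 s2 (.step Z2_le_UU s3 s3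
      (.step ZZ_le_Z2 s4 s4 (.step bot_le s5 s5 .bot))))) ⟨e f, subset_closure (by simp)⟩
  exact ⟨n, Subtype.ext (e.injective (by simpa using congrArg Subtype.val hn))⟩

end Cfsg.Lib.D4F
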