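import Cfsg.Agent.D4F.F1
import Mathlib.FieldTheory.Finite.Extension
import Mathlib.FieldTheory.Finite.GaloisField

/-! Fusion systems over a Sylow subgroup of `³D₄(q)`: Galois lemmas and norm counts. -/

set_option autoImplicit false

namespace Cfsg.Lib.D4F

open Cfsg Cfsg.FusionSystem Subgroup Equiv Cfsg.Lib.Fus

theorem exists_frob {F : Type*} [Field F] [Finite F] (r : ℕ) [Fact r.Prime] [CharP F r]
    (φ : F ≃+* F) : ∃ s, ∀ t, φ t = t ^ r ^ s := by
  let := ZMod.algebra F r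
  obtain ⟨s, hs⟩ := FiniteField.exists_forall_apply_eq_pow (ZMod r) r F
    (AlgEquiv.ofRingEquiv (f := φ) fun x => by
      obtain ⟨x, rfl⟩ := ZMod.natCast_zmod_surjective x
      rw [map_natCast, map_natCast])
  exact ⟨s, fun t => by simpa using hs t⟩

variable {K : Type*} [Field K] [Cub K] [Finite K]

theorem comm_σ (φ : K ≃+* K) (x : K) : σ (φ x) = φ (σ x) := by
  obtain ⟨r, hr⟩ := CharP.exists K
  have : Fact r.Prime := ⟨CharP.char_is_prime K r⟩
  obtain ⟨a, ha⟩ := exists_frob r φ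
  obtain ⟨b, hb⟩ := exists_frob r (σ : K ≃+* K)
  rw [ha, hb, ha, hb, ← pow_mul, ← pow_mul, mul_comm]

variable (K) in
/-- `σ` as a `k`-automorphism. -/
def σk : K ≃ₐ[kk K] K := AlgEquiv.ofRingEquiv (f := σ) fun x => x.2

theorem σk_eq_1' : type_of% @σk.eq_1 := @σk.eq_1

theorem gal_univ [Fintype (K ≃ₐ[kk K] K)] [DecidableEq (K ≃ₐ[kk K] K)] :
    (1 ∉ ({σk K, σk K * σk K} : Finset (K ≃ₐ[kk K] K)) ∧ σk K ≠ σk K * σk K) ∧
    ({1, σk K, σk K * σk K} : Finset (K ≃ₐ[kk K] K)) = Finset.univ := by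
  obtain ⟨y, hy⟩ := Cub.ne (K := K)
  have h1 : σk K ≠ 1 := fun e => hy (congrArg (fun f : K ≃ₐ[kk K] K => f y) e)
  have h2 : σk K * σk K ≠ 1 := fun e => hy (by
    have := congrArg (fun f : K ≃ₐ[kk K] K => f (σ y)) e
    exact (show σ (σ (σ y)) = σ y from this).symm.trans (σ3 y))
  have h3 : σk K ≠ σk K * σk K := fun e => h1 (by simpa using e)
  have h4 : (1 : K ≃ₐ[kk K] K) ∉ ({σk K, σk K * σk K} : Finset _) := by
    simp [h1.symm, h2.symm]
  refine ⟨⟨h4, h3⟩, Finset.eq_univ_of_card _ ?_⟩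
  rw [Finset.card_insert_of_notMem h4, Finset.card_pair h3, ← Nat.card_eq_fintype_card,
    IsGalois.card_aut_eq_finrank, finrank_K]

theorem lin_aut {φ : K ≃+* K} (h : ∀ x, σ x = x → φ x = x) :
    (∀ x, φ x = x) ∨ (∀ x, φ x = σ x) ∨ ∀ x, φ x = σ (σ x) := by
  classical
  let := Fintype.ofFinite (K ≃ₐ[kk K] K)
  have := (gal_univ (K := K)).2 ▸ Finset.mem_univ
    (AlgEquiv.ofRingEquiv (f := φ) fun x : kk K => h x x.2)
  simp only [Finset.mem_insert, Finset.mem_singleton] at this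
  rcases this with e | e | e
  · exact Or.inl fun x => congrArg (fun f : K ≃ₐ[kk K] K => f x) e
  · exact Or.inr (Or.inl fun x => congrArg (fun f : K ≃ₐ[kk K] K => f x) e)
  · exact Or.inr (Or.inr fun x => congrArg (fun f : K ≃ₐ[kk K] K => f x) e)

theorem exists_ext (θ : kk K ≃+* kk K) : ∃ φ : K ≃+* K, ∀ c : kk K, φ c = θ c := by
  obtain ⟨r, hr⟩ := CharP.exists K
  have : Fact r.Prime := ⟨CharP.char_is_prime K r⟩
  obtain ⟨a, ha⟩ := exists_frob r θ
  exact ⟨iterateFrobeniusEquiv K r a, fun c => by rw [ha]; simp [iterateFrobenius_def]⟩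

theorem coe_norm (a : K) : ((Algebra.norm (kk K) a : kk K) : K) = nm a := by
  classical
  have := Algebra.norm_eq_prod_automorphisms (kk K) a
  rw [← (gal_univ (K := K)).2, Finset.prod_insert gal_univ.1.1, Finset.prod_pair gal_univ.1.2] at this
  exact this.trans (by rw [nm, mul_assoc]; rfl)

theorem exists_nm {c : K} (hc : σ c = c) : ∃ a, nm a = c := by
  obtain ⟨a, ha⟩ := FiniteField.norm_surjective (kk K) K ⟨c, hc⟩
  exact ⟨a, by rw [← coe_norm, ha]⟩

theorem one_lt_card_kk : 1 < Nat.card (kk K) := Finite.one_lt_card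

theorem card_nm_one :
    Nat.card {a : K // nm a = 1} = Nat.card (kk K) ^ 2 + Nat.card (kk K) + 1 := by
  let f : Kˣ →* (kk K)ˣ := Units.map (Algebra.norm (kk K))
  have hf : Function.Surjective f := fun c => by
    obtain ⟨a, ha⟩ := exists_nm (c.1.2 : σ (c.1 : K) = c.1)
    have h0 : a ≠ 0 := fun e => c.ne_zero (Subtype.ext (by rw [← ha, e, nm_zero]; rfl))
    exact ⟨Units.mk0 a h0, Units.ext (Subtype.ext (by rw [← ha, ← coe_norm]; rfl))⟩
  have e : Nat.card f.ker = Nat.card {a : K // nm a = 1} :=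
    Nat.card_congr ⟨fun x => ⟨x.1.1, by
      rw [← coe_norm]; exact congrArg (fun u : (kk K)ˣ => ((u : kk K) : K)) x.2⟩,
      fun a => ⟨Units.mk0 a.1 fun e => by simpa [e] using a.2, Units.ext (Subtype.ext (by
        exact (coe_norm a.1).trans a.2))⟩, fun x => Subtype.ext (Units.ext rfl), fun a => rfl⟩
  have h1 := f.ker.card_mul_index
  rw [index_ker, MonoidHom.range_eq_top.2 hf, card_top, Nat.card_units, Nat.card_units, e,
    card_K (K := K)] at h1
  obtain ⟨n, hn⟩ : ∃ n, Nat.card (kk K) = n + 1 + 1 :=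
    ⟨Nat.card (kk K) - 2, by have := one_lt_card_kk (K := K); omega⟩
  rw [hn] at h1 ⊢
  refine Nat.eq_of_mul_eq_mul_right n.succ_pos ?_
  have : (n + 1 + 1) ^ 3 = ((n + 1 + 1) ^ 2 + (n + 1 + 1) + 1) * (n + 1) + 1 := by ring
  rw [this] at h1
  simpa using h1

theorem card_nm_sq :
    Nat.card {a : K // nm a ^ 2 = 1} ≤ 2 * (Nat.card (kk K) ^ 2 + Nat.card (kk K) + 1) := by
  rw [← card_nm_one, two_mul, ← Nat.card_sum]
  refine Nat.card_le_card_of_surjective
    (Sum.elim (fun a => ⟨a.1, by rw [a.2, one_pow]⟩) fun a => ⟨-a.1, by rw [nm_neg, a.2]; ring⟩) ?_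
  rintro ⟨a, ha⟩
  rcases sq_eq_one_iff.1 ha with h | h
  · exact ⟨.inl ⟨a, h⟩, rfl⟩
  · exact ⟨.inr ⟨-a, by rw [nm_neg, h, neg_neg]⟩, Subtype.ext (neg_neg a)⟩

theorem exists_nm_one : ∃ b : K, nm b = 1 ∧ σ b ≠ b := by
  by_contra! h
  have := Nat.card_le_card_of_injective (fun a : {a : K // nm a = 1} => (⟨a.1, h _ a.2⟩ : kk K))
    fun a b e => Subtype.ext (congrArg (fun c : kk K => (c : K)) e)
  rw [card_nm_one] at this
  omega

theorem card_torus :
    Nat.card {γ : Gm K // γ.φ = 1} = (Nat.card K - 1) * (Nat.card (kk K) - 1) := by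
  rw [← Nat.card_units, ← Nat.card_units, ← Nat.card_prod]
  exact Nat.card_congr ⟨fun γ => (Units.mk0 γ.1.a γ.1.ha, Units.mk0 ⟨γ.1.c, γ.1.σc⟩
    fun e => γ.1.hc (congrArg Subtype.val e)), fun x => ⟨⟨x.1, x.2.1, 1, x.1.ne_zero,
      fun e => x.2.ne_zero (Subtype.ext e), x.2.1.2, fun _ => rfl⟩, rfl⟩,
    fun γ => Subtype.ext (Gm.ext rfl rfl γ.2.symm), fun x => Prod.ext (Units.ext rfl) (Units.ext rfl)⟩

end Cfsg.Lib.D4F
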