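import Cfsg.Agent.D4F.A1
import Cfsg.Agent.D4F.F2

/-! Fusion systems over a Sylow subgroup of `³D₄(q)`: semilinearity on `S / Q1`. -/

set_option autoImplicit false
set_option linter.unusedSectionVars false

namespace Cfsg.Lib.D4F

open Cfsg Cfsg.FusionSystem Subgroup Equiv Cfsg.Lib.Fus

variable {K : Type*} [Field K] [Cub K] [Finite K] {p : ℕ} [Fact p.Prime]
  {F F' : FusionSystem (⊤ : Subgroup (M K))} {E : Subgroup (M K)} {O : Perm (M K) → Prop}
  {H : Subgroup (Gm K)} {X : Subgroup (Perm (V K))}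

namespace A2

variable (f : MulAut (M K)) {g g' : M K}

theorem split (g g' : M K) : f g' = f g * f (g⁻¹ * g') := by rw [← map_mul, mul_inv_cancel_left]

theorem t_eq (e : g.t = g'.t) : (f g).t = (f g').t := by
  rw [split f g g', M.mul_t, mem_Q1.1 ((aut_layers f).2.2.2.2.1 (g⁻¹ * g') (show _ = _ by mdl [e])),
    add_zero]

theorem u_eq (e : g.u = g'.u) : (f g).u = (f g').u := by
  rw [split f g g', M.mul_u, mem_Q2.1 ((aut_layers f).2.2.2.2.2 (g⁻¹ * g') (show _ = _ by mdl [e])),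
    add_zero]

theorem s_eq (hg : g ∈ Q12 K) (hg' : g' ∈ Q12 K) (e : g.s = g'.s) : (f g).s = (f g').s := by
  have := (aut_layers f).2.2.1 (g⁻¹ * g') ⟨by mdl [hg.1, hg'.1], by mdl [hg.2, hg'.2],
    by mdl [hg.2, hg'.2, e]⟩
  rw [split f g g', M.mul_s, this.2.1, this.2.2]; ring

theorem r_eq (hg : g ∈ UU K) (hg' : g' ∈ UU K) (e : g.r = g'.r) : (f g).r = (f g').r := by
  have h := mul_mem (inv_mem hg) hg'
  have := (aut_layers f).2.1 (g⁻¹ * g') ⟨h.1, h.2.1, h.2.2, by mdl [hg.1, e]⟩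
  rw [split f g g', M.mul_r, this.2.1, this.2.2.1, this.2.2.2, cr_zero]; ring

theorem cm_ab (u : K) (hu : σ u = u) (t : K) :
    (f (cm (eb u hu) (ea t))).s = (f (ea t)).t * (f (eb u hu)).u := by
  rw [aut_cm, cm_s, mem_Q1.1 ((aut_layers f).2.2.2.2.1 (eb u hu) rfl)]; ring

theorem t_ne {t : K} (ht : t ≠ 0) : (f (ea t)).t ≠ 0 := fun e =>
  ht (by simpa [mem_Q1, ea] using (aut_layers f⁻¹).2.2.2.2.1 _ e)

end A2

open A2

theorem a2a (f : MulAut (M K)) : ∃ γ : Gm K, (∀ g, (Gm.aut γ (f g)).u = g.u) ∧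
    ∀ l g g', σ l = l → g'.t = l * g.t → (Gm.aut γ (f g')).t = l * (Gm.aut γ (f g)).t := by
  obtain ⟨b, hb⟩ : ∃ b, b = (f (eb 1 (map_one _))).u := ⟨_, rfl⟩
  have b0 : b ≠ 0 := fun e => one_ne_zero (α := K) (by
    simpa [mem_Q2, eb] using (aut_layers f⁻¹).2.2.2.2.2 _ (hb ▸ e : (f (eb 1 (map_one _))).u = 0))
  have σb : σ b = b := hb ▸ M.hu _
  have key : ∀ (c : kk K) t, (f (ea (c * t))).t = (f (eb c (σ_coe c))).u / b * (f (ea t)).t :=
    fun c t => by
      have := s_eq f (cm_Q12 (eb 1 (map_one _)) (ea (c * t))) (cm_Q12 (eb (c : K) (σ_coe c)) (ea t))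
        (by simp [cm_s, ea, eb, mul_comm])
      rw [cm_ab, cm_ab, ← hb] at this
      field_simp
      linear_combination this
  let θ : kk K →+* kk K :=
    { toFun := fun c => ⟨(f (eb c (σ_coe c))).u / b, σ_div_fix (M.hu _) σb⟩
      map_one' := Subtype.ext (hb ▸ div_self (hb ▸ b0))
      map_mul' := fun c d => Subtype.ext (mul_right_cancel₀ (t_ne f one_ne_zero) (by
        refine (key (c * d) 1).symm.trans (.trans ?_ (mul_assoc _ _ _).symm)
        rw [Subfield.coe_mul, mul_assoc, key c, key d 1]))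
      map_zero' := Subtype.ext (by
        simp [show (f (eb 0 (map_zero _))).u = 0 from (aut_layers f).2.2.2.2.2 _ rfl])
      map_add' := fun c d => Subtype.ext (by
        simp only [Subfield.coe_add]
        rw [← add_div, ← M.mul_u, ← map_mul]
        exact congrArg (· / b) (u_eq f rfl)) }
  obtain ⟨φ, hφ⟩ := exists_ext (RingEquiv.ofBijective θ (Finite.injective_iff_bijective.1 θ.injective))
  have hφ' : ∀ l (hl : σ l = l), φ l = (f (eb l hl)).u / b := fun l hl => hφ ⟨l, hl⟩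
  refine ⟨(⟨1, b, φ, one_ne_zero, b0, σb, comm_σ φ⟩ : Gm K)⁻¹, fun g => ?_, fun l g g' hl e => ?_⟩
  · show φ.symm b⁻¹ * φ.symm (f g).u = g.u
    rw [← map_mul, RingEquiv.symm_apply_eq, hφ' _ g.hu, u_eq f (g := g) (g' := eb g.u g.hu) rfl,
      div_eq_inv_mul]
  · show φ.symm 1⁻¹ * φ.symm (f g').t = l * (φ.symm 1⁻¹ * φ.symm (f g).t)
    rw [t_eq f (g' := ea (l * g.t)) e, key ⟨l, hl⟩, ← hφ' l hl, t_eq f (g := g) (g' := ea g.t) rfl]
    simp

end Cfsg.Lib.D4F
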