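import Cfsg.Agent.D4F.F2

/-! Fusion systems over a Sylow subgroup of `³D₄(q)`: `k`-linear maps of `K`. -/

set_option autoImplicit false

namespace Cfsg.Lib.D4F

open Cfsg Cfsg.FusionSystem Subgroup Equiv Cfsg.Lib.Fus

variable {K : Type*} [Field K] [Cub K] [Finite K]

theorem lin_repr (A : K → K) (h1 : ∀ x y, A (x + y) = A x + A y)
    (h2 : ∀ l x, σ l = l → A (l * x) = l * A x) :
    ∃ a b c, ∀ x, A x = a * x + b * σ x + c * σ (σ x) := by
  let Φ : K × K × K → (K →ₗ[kk K] K) := fun v =>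
    { toFun := fun x => v.1 * x + v.2.1 * σ x + v.2.2 * σ (σ x)
      map_add' := fun x y => by simp only [map_add]; ring
      map_smul' := fun c x => by
        simp only [Subfield.smul_def, smul_eq_mul, map_mul, σ_coe, RingHom.id_apply]; ring }
  have hi : Function.Injective Φ := fun v w e => by
    obtain ⟨a, b, c⟩ := indep (a := v.1 - w.1) (b := v.2.1 - w.2.1) (c := v.2.2 - w.2.2) fun x => by
      have : v.1 * x + v.2.1 * σ x + v.2.2 * σ (σ x) = w.1 * x + w.2.1 * σ x + w.2.2 * σ (σ x) :=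
        congrArg (fun f : K →ₗ[kk K] K => f x) e
      linear_combination this
    exact Prod.ext (sub_eq_zero.1 a) (Prod.ext (sub_eq_zero.1 b) (sub_eq_zero.1 c))
  have : Finite (K →ₗ[kk K] K) := Finite.of_injective _ DFunLike.coe_injective
  have hb : Function.Bijective Φ := (Nat.bijective_iff_injective_and_card Φ).2 ⟨hi, by
    rw [Module.natCard_eq_pow_finrank (K := kk K) (V := K →ₗ[kk K] K), Module.finrank_linearMap,
      finrank_K, Nat.card_prod, Nat.card_prod, card_K]; ring⟩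
  obtain ⟨v, hv⟩ := hb.2
    { toFun := A
      map_add' := h1
      map_smul' := fun c x => h2 c x c.2 }
  exact ⟨v.1, v.2.1, v.2.2, fun x => (congrArg (fun f : K →ₗ[kk K] K => f x) hv).symm⟩

theorem indep_sq {a b c x y z : K}
    (h : ∀ t, a * t ^ 2 + b * σ t ^ 2 + c * σ (σ t) ^ 2 + x * (σ t * σ (σ t)) +
      y * (t * σ (σ t)) + z * (t * σ t) = 0) : a = 0 ∧ b = 0 ∧ c = 0 := by
  have h1 : ∀ s t : K, (2 * a * t + y * σ (σ t) + z * σ t) * s +
      (2 * b * σ t + x * σ (σ t) + z * t) * σ s + (2 * c * σ (σ t) + x * σ t + y * t) * σ (σ s) = 0 :=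
    fun s t => by
      have := h (s + t)
      simp only [map_add] at this
      linear_combination this - h s - h t
  have h2 := fun t => indep fun s => h1 s t
  obtain ⟨a1, z0, y0⟩ := indep (a := 2 * a) (b := z) (c := y) fun t => by
    linear_combination (h2 t).1
  obtain ⟨-, b1, x0⟩ := indep (a := z) (b := 2 * b) (c := x) fun t => by
    linear_combination (h2 t).2.1
  obtain ⟨-, -, c1⟩ := indep (a := y) (b := x) (c := 2 * c) fun t => by
    linear_combination (h2 t).2.2
  by_cases h2 : (2 : K) = 0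
  · refine indep fun s => ?_
    obtain ⟨t, rfl⟩ := Finite.surjective_of_injective (f := fun t : K => t ^ 2) (fun u v e => by
      have : (u - v) ^ 2 = 0 := by linear_combination e + (v ^ 2 - u * v) * h2
      exact sub_eq_zero.1 (pow_eq_zero_iff two_ne_zero |>.1 this)) s
    have := h t
    rw [x0, y0, z0] at this
    simp only [map_pow]
    linear_combination this
  · exact ⟨by simpa [h2] using a1, by simpa [h2] using b1, by simpa [h2] using c1⟩

theorem mono (A B : K → K) (a1 : ∀ x y, A (x + y) = A x + A y)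
    (a2 : ∀ l x, σ l = l → A (l * x) = l * A x) (b1 : ∀ x y, B (x + y) = B x + B y)
    (b2 : ∀ l x, σ l = l → B (l * x) = l * B x) (hi : ∀ t, A t = 0 → t = 0)
    (h : ∀ t, B (sh t) = sh (A t)) :
    ∃ a, a ≠ 0 ∧ ∃ φ : K ≃+* K, (∀ x, σ x = x → φ x = x) ∧ ∀ t, A t = a * φ t := by
  obtain ⟨a, b, c, e⟩ := lin_repr A a1 a2
  obtain ⟨x, y, z, e'⟩ := lin_repr B b1 b2
  obtain ⟨h1, h2, h3⟩ := indep_sq (a := σ c * σ (σ b)) (b := σ a * σ (σ c)) (c := σ b * σ (σ a))
    (x := σ a * σ (σ a) + σ b * σ (σ c) - x) (y := σ b * σ (σ b) + σ c * σ (σ a) - y)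
    (z := σ c * σ (σ c) + σ a * σ (σ b) - z) fun t => by
      have := h t
      rw [e, e'] at this
      simp only [sh, map_add, map_mul, σ3] at this
      linear_combination -this
  have n : ¬ (a = 0 ∧ b = 0 ∧ c = 0) := fun ⟨ha, hb, hc⟩ =>
    one_ne_zero (hi 1 (by simp [e, ha, hb, hc]))
  simp only [mul_eq_zero, map_eq_zero] at h1 h2 h3
  by_cases ha : a = 0
  · by_cases hb : b = 0
    · exact ⟨c, fun hc => n ⟨ha, hb, hc⟩, σ * σ, fun x hx => show σ (σ x) = x by rw [hx, hx],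
        fun t => by rw [e, ha, hb]; show _ = c * σ (σ t); ring⟩
    · exact ⟨b, hb, σ, fun x hx => hx, fun t => by rw [e, ha, h1.resolve_right hb]; ring⟩
  · exact ⟨a, ha, 1, fun x _ => rfl, fun t => by
      rw [e, h2.resolve_left ha, h3.resolve_right ha]; show _ = a * t; ring⟩

theorem sym_scalar (L : K → K) (a1 : ∀ x y, L (x + y) = L x + L y)
    (a2 : ∀ l x, σ l = l → L (l * x) = l * L x) (h : ∀ t t', cr t (L t') = cr t' (L t)) :
    ∃ l, σ l = l ∧ ∀ t, L t = l * t := by
  obtain ⟨a, b, c, e⟩ := lin_repr L a1 a2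
  have h1 : ∀ t' t : K, (-(σ t' * σ (σ b)) - σ (σ t') * σ c) * t +
      (σ (σ a) * σ (σ t') + σ (σ b) * t' - σ (σ t') * σ a) * σ t +
      (σ a * σ t' + σ c * t' - σ t' * σ (σ a)) * σ (σ t) = 0 := fun t' t => by
    have := h t t'
    rw [e, e] at this
    simp only [cr, map_add, map_mul, σ3] at this
    linear_combination this
  obtain ⟨-, hb, hc⟩ := indep (a := 0) (b := σ (σ b)) (c := σ c) fun t => by
    linear_combination -(indep (h1 t)).1
  simp only [map_eq_zero] at hb hc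
  have h2 := (indep (h1 1)).2.1
  simp only [hb, map_zero, map_one] at h2
  refine ⟨a, σ.injective (by linear_combination h2), fun t => by rw [e, hb, hc]; ring⟩

theorem rank_lem {φ : K ≃+* K} (hφ : ∀ x, σ x = x → φ x = x) {b l r₁ r₂ : K} (hl : l ≠ 0)
    (h : Ind r₁ r₂) (e₁ : b * φ r₁ = l * r₁) (e₂ : b * φ r₂ = l * r₂) :
    (∀ x, φ x = x) ∧ b = l := by
  have h1 := h.ne
  have hb : b ≠ 0 := fun e => mul_ne_zero hl h1 (by rw [← e₁, e, zero_mul])
  obtain ⟨x, rfl⟩ : ∃ x, r₂ = x * r₁ := ⟨r₂ / r₁, by field_simp⟩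
  have hx : φ x = x := by
    rw [map_mul] at e₂
    have : (φ x - x) * (l * r₁) = 0 := by linear_combination e₂ - φ x * e₁
    exact sub_eq_zero.1 ((mul_eq_zero.1 this).resolve_right (mul_ne_zero hl h1))
  rcases lin_aut hφ with e | e | e
  · exact ⟨e, mul_right_cancel₀ h1 (by rw [← e₁, e])⟩
  · exact (h.ne_mul (by rw [← e, hx]) rfl).elim
  · exact (h.ne_mul (by simpa using (congrArg σ ((e x).symm.trans hx)).symm) rfl).elim

theorem add_char {χ : K → K} (hχ : χ = nm ∨ χ = sh ∨ χ = (·⁻¹) ∨ χ = fun a => (nm a)⁻¹)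
    (φ : K → K) (h1 : ∀ x y, φ (x + y) = φ x + φ y)
    (h : ∀ a t, a ≠ 0 → φ (a * t) = χ a * φ t) (t : K) : φ t = 0 := by
  obtain ⟨c, hc, hσ⟩ := exists_nm_one (K := K)
  have c0 : c ≠ 0 := fun e => hσ (by simp [e])
  have c1 : 1 + -c ≠ 0 := fun e => hσ (by rw [show c = 1 by linear_combination -e, map_one])
  have key : ∀ b, b ≠ 0 → 1 + b ≠ 0 → χ (1 + b) ≠ χ 1 + χ b → φ t = 0 := fun b hb hb' hne => by
    have e := h (1 + b) t hb'
    rw [add_mul, h1, h _ _ one_ne_zero, h _ _ hb] at e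
    have : (χ (1 + b) - (χ 1 + χ b)) * φ t = 0 := by linear_combination -e
    exact (mul_eq_zero.1 this).resolve_left (sub_ne_zero.2 hne)
  rcases hχ with rfl | rfl | rfl | rfl
  · exact key (-c) (neg_ne_zero.2 c0) c1 (by simpa [nm_one, nm_neg, hc] using c1)
  · refine key (-c) (neg_ne_zero.2 c0) c1 fun e => ?_
    rw [sh_add, add_eq_left, cr_comm] at e
    obtain ⟨l, hl, -, e'⟩ := eq_of_cr one_ne_zero e
    exact hσ (by rw [show c = -l by linear_combination -e', map_neg, hl])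
  · refine key (-c) (neg_ne_zero.2 c0) c1 fun e => ?_
    have e1 : c ^ 2 - c + 1 = 0 := by
      have e0 : (1 + -c)⁻¹ = 1⁻¹ + (-c)⁻¹ := e
      have e2 := mul_inv_cancel₀ c1
      rw [e0, inv_one, inv_neg] at e2
      linear_combination -c * e2 - (1 - c) * mul_inv_cancel₀ c0
    have e2 := congrArg σ e1
    simp only [map_add, map_sub, map_pow, map_one, map_zero] at e2
    have e3 : σ c = 1 - c := by
      have : (σ c - c) * (σ c - (1 - c)) = 0 := by linear_combination e2 - e1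
      exact sub_eq_zero.1 ((mul_eq_zero.1 this).resolve_left (sub_ne_zero.2 hσ))
    have e4 : σ (σ c) = c := by rw [e3, map_sub, map_one, e3]; ring
    exact hσ (by simpa using (congrArg σ e4).symm)
  · exact key (-c) (neg_ne_zero.2 c0) c1 (by simpa [nm_one, nm_neg, hc] using c1)

end Cfsg.Lib.D4F
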