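import Cfsg.Agent.D4F.A2a
import Cfsg.Agent.D4F.F3

/-! Fusion systems over a Sylow subgroup of `³D₄(q)`: linear automorphisms are monomial. -/

set_option autoImplicit false
set_option linter.unusedSectionVars false

namespace Cfsg.Lib.D4F

open Cfsg Cfsg.FusionSystem Subgroup Equiv Cfsg.Lib.Fus

variable {K : Type*} [Field K] [Cub K] [Finite K] {p : ℕ} [Fact p.Prime]
  {F F' : FusionSystem (⊤ : Subgroup (M K))} {E : Subgroup (M K)} {O : Perm (M K) → Prop}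
  {H : Subgroup (Gm K)} {X : Subgroup (Perm (V K))}

open A2

theorem a2b (hq : ∃ l : K, σ l = l ∧ l ≠ 0 ∧ l ≠ 1) (f : MulAut (M K)) (hu : ∀ g, (f g).u = g.u)
    (hl : ∀ l g g', σ l = l → g'.t = l * g.t → (f g').t = l * (f g).t) :
    ∃ γ : Gm K, (∀ g, (f g).t = (Gm.aut γ g).t) ∧ ∀ g, (f g).u = (Gm.aut γ g).u := by
  obtain ⟨l, hl', l0, l1⟩ := hq
  obtain ⟨-, -, l3, l4, l5, l6⟩ := aut_layers f
  obtain ⟨A, hA⟩ : ∃ A : K → K, ∀ g, (f g).t = A g.t :=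
    ⟨fun t => (f (ea t)).t, fun g => t_eq f rfl⟩
  obtain ⟨B, hB⟩ : ∃ B : K → K, ∀ g ∈ UU K, (f g).r = B g.r :=
    ⟨fun r => (f (ed r)).r, fun g hg => r_eq f hg ⟨rfl, rfl, rfl⟩ rfl⟩
  have a1 : ∀ x y, A (x + y) = A x + A y := fun x y =>
    (hA (ea x * ea y)).symm.trans (by rw [map_mul, M.mul_t, hA, hA]; rfl)
  have a2 : ∀ l x, σ l = l → A (l * x) = l * A x := fun l x h =>
    (hA (ea (l * x))).symm.trans ((hl l (ea x) _ h rfl).trans (by rw [hA]; rfl))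
  have as : ∀ g ∈ Q12 K, (f g).s = A g.s := fun g hg => by
    rw [s_eq f hg (cm_Q12 (eb 1 (map_one _)) (ea g.s)) (by simp [cm_s, ea, eb]), cm_ab, hA, hu]
    simp [ea, eb]
  have b1 : ∀ x y, B (x + y) = B x + B y := fun x y => by
    have h1 := l3 (ed x) ⟨rfl, rfl, rfl⟩
    have h2 := l3 (ed y) ⟨rfl, rfl, rfl⟩
    have := hB (ed x * ed y) (mul_mem ⟨rfl, rfl, rfl⟩ ⟨rfl, rfl, rfl⟩)
    rw [map_mul, M.mul_r, M.mul_r, h1.1, hB _ ⟨rfl, rfl, rfl⟩, hB _ ⟨rfl, rfl, rfl⟩] at this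
    simpa [ed] using this.symm
  have bc : ∀ t s, B (cr t s) = cr (A t) (A s) := fun t s => by
    have := hB _ (cm_UU_left (g := ec s) ⟨rfl, rfl⟩ (ea t))
    rw [aut_cm, cm_r_left (l4 _ ⟨rfl, rfl⟩), cm_r_left ⟨rfl, rfl⟩, hA, as _ ⟨rfl, rfl⟩] at this
    exact this.symm
  have b2 : ∀ l x, σ l = l → B (l * x) = l * B x := fun l x h => by
    obtain ⟨a, b, c, d, rfl⟩ := exists_cr_add x
    rw [mul_add, ← cr_fix_mul h, ← cr_fix_mul h, b1, b1, bc, bc, bc, bc, a2 _ _ h, a2 _ _ h,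
      cr_fix_mul h, cr_fix_mul h, mul_add]
  have key : ∀ u (h : σ u = u) t, (f (ec (u * t))).r + u * (B (sh t) - sh (A t)) =
      cr (A t) (f (eb u h)).s := fun u h t => by
    have h0 : (ec (u * t))⁻¹ * cm (eb u h) (ea t) ∈ UU K :=
      ⟨by mdl [ec, cm_t], by mdl [ec, cm_u], by mdl [ec, cm_s, cm_u, ea, eb]⟩
    have h1 := congrArg M.r (split f (ec (u * t)) (cm (eb u h) (ea t)))
    rw [aut_cm, cm_r' (l5 _ rfl) (l6 _ rfl), M.mul_r, (l4 (ec (u * t)) ⟨rfl, rfl⟩).1, hB _ h0, hA,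
      hu, show ((ec (u * t))⁻¹ * cm (eb u h) (ea t)).r = u * sh t by
        rw [M.mul_r, cm_r' rfl rfl]; mdl [ec, ea, eb], b2 _ _ h] at h1
    simp only [ea, eb, zero_cr, sh_zero] at h1 ⊢
    linear_combination -h1
  have hΔ : ∀ t, B (sh (l * t)) - sh (A (l * t)) = l ^ 2 * (B (sh t) - sh (A t)) := fun t => by
    rw [a2 _ _ hl', sh_mul, sh_mul, sh_fix hl', b2 _ _ (by simp [hl'])]; ring
  have k2 : ∀ t, (l - 1) * (B (sh t) - sh (A t)) = l * cr (A t) (f (eb l⁻¹ (σ_inv_fix hl'))).s -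
      cr (A t) (f (eb 1 (map_one _))).s := fun t => by
    have e1 := key l⁻¹ (σ_inv_fix hl') (l * t)
    have e2 := key 1 (map_one _) t
    rw [hΔ, a2 _ _ hl', fix_mul_cr hl', inv_mul_cancel_left₀ l0] at e1
    rw [one_mul] at e2
    linear_combination e1 - e2 - l * (B (sh t) - sh (A t)) * mul_inv_cancel₀ l0
  obtain ⟨a, a0, φ, -, e⟩ := mono A B a1 a2 b1 b2 (fun t h => by
    by_contra ht
    exact t_ne f ht ((hA _).trans h)) fun t => by
      have e1 := k2 (l * t)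
      rw [hΔ, a2 _ _ hl', fix_mul_cr hl', fix_mul_cr hl'] at e1
      have : l * (l - 1) ^ 2 * (B (sh t) - sh (A t)) = 0 := by linear_combination e1 - l * k2 t
      simpa [l0, sub_eq_zero, l1] using this
  have hφ : ∀ u, σ u = u → φ u = u := fun u h => by
    have e1 := a2 u 1 h
    rw [e, e, mul_one, map_one, mul_one, mul_comm] at e1
    exact mul_right_cancel₀ a0 e1
  exact ⟨⟨a, 1, φ, a0, one_ne_zero, map_one _, comm_σ φ⟩, fun g => (hA g).trans (e _), fun g => by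
    rw [hu, Gm.aut_u, hφ _ g.hu, one_mul]⟩

end Cfsg.Lib.D4F
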