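import Cfsg.Agent.D4F.F1

/-! Fusion systems over a Sylow subgroup of `³D₄(q)`: centralisers of rank one elements. -/

set_option autoImplicit false
set_option linter.unusedSectionVars false

namespace Cfsg.Lib.D4F

open Cfsg Cfsg.FusionSystem Subgroup Equiv Cfsg.Lib.Fus

variable {K : Type*} [Field K] [Cub K] [Finite K] {p : ℕ} [Fact p.Prime]
  {F F' : FusionSystem (⊤ : Subgroup (M K))} {E : Subgroup (M K)} {O : Perm (M K) → Prop}
  {H : Subgroup (Gm K)} {X : Subgroup (Perm (V K))}

theorem eq_two_of [CharP K p] (h2 : (2 : K) = 0) : p = 2 :=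
  (Nat.prime_dvd_prime_iff_eq Fact.out Nat.prime_two).1
    ((CharP.cast_eq_zero_iff K p 2).1 (by exact_mod_cast h2))

theorem two_eq_zero [CharP K p] (h2 : p = 2) : (2 : K) = 0 := by
  have := CharP.cast_eq_zero K p
  rw [h2] at this
  exact_mod_cast this

theorem two_ne_of [CharP K p] (h2 : p ≠ 2) : (2 : K) ≠ 0 := fun h => h2 (eq_two_of h)

theorem r1 [CharP K p] {y g : M K} {a b : K} (h : Dir a b) (hy : y ∈ XL a b) (hU : y ∉ UU K)
    (hp : y ^ p = 1) (hg : g ∈ Q2 K) (e : g * y = y * g) : g ∈ XL a b := by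
  obtain ⟨ha, hb, hab⟩ := h
  obtain ⟨y0, y1⟩ := hy
  have g0 : g.u = 0 := hg
  have er : cr g.t y.s = cr y.t g.s := by
    have := cm_r (g := y) (x := g) y0 g0
    rw [cm_eq_one.2 e, M.one_r] at this
    linear_combination -this
  have V := congrArg M.v e
  have Z := congrArg M.z e
  have sq : (2 : K) = 0 → y * y = 1 := fun h2 => by rw [← sq, ← eq_two_of (p := p) h2, hp]
  refine ⟨g0, ?_⟩
  by_cases ht : y.t = 0
  · have hs : y.s ≠ 0 := fun hs => hU ⟨ht, y0, hs⟩
    obtain rfl : a = 0 := by simpa [ht, hs] using y1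
    obtain ⟨c, hc, c2, ec⟩ := eq_of_cr hs (by rw [er, ht, zero_cr])
    obtain rfl : c = 0 := by
      by_contra c0
      have h2 : (2 : K) = 0 := by simpa [c0] using c2
      have Y := congrArg M.z (sq h2)
      have : c ^ 2 * nm y.s = 0 := by
        linear_combination (norm := mdl [y0, g0, ht, ec, hc])
          V - c * Y - (c ^ 2 * nm y.s - y.z * c) * h2
      simp [c0, hs] at this
    simp [ec]
  · have a0 : a ≠ 0 := fun a0 => by simp_all
    obtain ⟨l, hl, rfl⟩ : ∃ l, σ l = l ∧ b = a * l := ⟨b / a, σ_div_fix hb ha, by field_simp⟩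
    have es : y.s = l * y.t := mul_left_cancel₀ a0 (by rw [y1]; ring)
    obtain ⟨c, hc, c2, ec⟩ := eq_of_cr (t := g.s - l * g.t) ht (by
      rw [cr_comm, cr_sub, ← er, es, cr_fix_mul hl, cr_fix_mul hl, cr_comm, sub_self])
    have es' : g.s = l * g.t + c * y.t := by linear_combination ec
    obtain rfl : c = 0 := by
      by_contra c0
      have h2 : (2 : K) = 0 := by simpa [c0] using c2
      have Y := congrArg M.v (sq h2)
      have : c ^ 2 * nm y.t = 0 := by
        linear_combination (norm := mdl [y0, g0, es, es', hc, hl]) -(Z + l * V + c * Y) -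
          (c ^ 2 * nm y.t + l * c * tr (sh y.t * g.t) - y.v * c) * h2
      simp [c0, ht] at this
    rw [es']; ring

theorem not_ind_of_sq {y : M K} (hy : y ∈ Q2 K) (h2 : (2 : K) = 0) (e : y * y = 1) :
    ¬ Ind y.t y.s := fun h => by
  have := congrArg M.r e
  obtain ⟨l, hl, -, e'⟩ := eq_of_cr h.symm.ne (t := y.t) (by
    linear_combination (norm := mdl [mem_Q2.1 hy]) this - y.r * h2)
  exact h.symm.ne_mul hl e'

theorem exists_XL {y : M K} (hy : y ∈ Q2 K) (h : ¬ Ind y.t y.s) :
    ∃ a b, Dir a b ∧ y ∈ XL a b := by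
  simp only [Ind, not_forall] at h
  obtain ⟨a, b, ha, hb, e, n⟩ := h
  exact ⟨b, -a, ⟨hb, by simp [ha], by by_contra! c; simp_all⟩, hy, by linear_combination e⟩

theorem iso_span (h2 : (2 : K) ≠ 0) {t s t' s' a b c d : K} (h : Ind t s) (ha : σ a = a)
    (hb : σ b = b) (hc : σ c = c) (hd : σ d = d) (e1 : t' = a * t + b * s) (e2 : s' = c * t + d * s)
    (e : cr t s' = cr t' s) : t' = a * t ∧ s' = a * s := by
  obtain ⟨h1, h3, h4⟩ := indep_sh h (a := 2 * c) (b := d - a) (c := -(2 * b))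
    (by simp [hc, map_ofNat]) (by simp [hd, ha]) (by simp [hb, map_ofNat]) (by
      linear_combination (norm := cub [e1, e2, ha, hb, hc, hd]) e)
  obtain rfl : c = 0 := by simpa [h2] using h1
  obtain rfl : b = 0 := by simpa [h2] using h4
  exact ⟨by simp [e1], by simp [e2, sub_eq_zero.1 h3]⟩

end Cfsg.Lib.D4F
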