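import Mathlib.LinearAlgebra.Matrix.GeneralLinearGroup.Card
import Cfsg.Agent.D4F.A2a
import Cfsg.Agent.D4F.R1e

/-! Fusion systems over a Sylow subgroup of `³D₄(q)`: the case `q = 2`. -/

set_option autoImplicit false
set_option linter.unusedSectionVars false

namespace Cfsg.Lib.D4F

open Cfsg Cfsg.FusionSystem Subgroup Equiv Cfsg.Lib.Fus

variable {K : Type*} [Field K] [Cub K] [Finite K] {p : ℕ} [Fact p.Prime]
  {F F' : FusionSystem (⊤ : Subgroup (M K))} {E : Subgroup (M K)} {O : Perm (M K) → Prop}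
  {H : Subgroup (Gm K)} {X : Subgroup (Perm (V K))}

open A2

namespace A4

theorem syl {G : Type*} [Group G] [Finite G] {r : ℕ} [Fact r.Prime] {T A : Subgroup G}
    (h : T ≤ A) (hT : Nat.card T = r) (hG : ¬ r * r ∣ Nat.card G) : SylIn r T A :=
  sylIn_of_not_dvd h (.of_card (hT.trans (pow_one r).symm)) fun e => hG
    (((Nat.mul_dvd_mul_left r e).trans (dvd_of_eq (by
      rw [← hT, ← Nat.card_congr (subgroupOfEquivOfLe h).toEquiv]
      exact card_mul_index _))).trans (card_subgroup_dvd_card A))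

variable (hq : ∀ l : K, σ l = l → l = 0 ∨ l = 1)
include hq

theorem card_kk : Nat.card (kk K) = 2 := by
  rw [Nat.card_eq_two_iff]
  exact ⟨0, 1, zero_ne_one, Set.eq_univ_of_forall fun c => (hq c c.2).imp Subtype.ext Subtype.ext⟩

theorem u_fix (f : MulAut (M K)) (g : M K) : (f g).u = g.u := by
  have h1 := (aut_layers f).2.2.2.2.2 g
  have h2 := (aut_layers f⁻¹).2.2.2.2.2 (f g)
  rw [MulAut.inv_apply_self] at h2
  rcases hq _ g.hu with e | e
  · exact (h1 e).trans e.symm
  · exact ((hq _ (f g).hu).resolve_left fun e' => one_ne_zero (e.symm.trans (h2 e'))).trans e.symm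

/-- The action on `S / Q1`. -/
def L : MulAut (M K) →* (K ≃ₗ[kk K] K) := MonoidHom.mk' (fun f =>
  { toFun := fun t => (f (ea t)).t
    invFun := fun t => (f⁻¹ (ea t)).t
    left_inv := fun t => (t_eq f⁻¹ (g := ea (f (ea t)).t) (g' := f (ea t)) rfl).trans (by simp [ea])
    right_inv := fun t => (t_eq f (g := ea (f⁻¹ (ea t)).t) (g' := f⁻¹ (ea t)) rfl).trans (by simp [ea])
    map_add' := fun x y => (t_eq f (g := ea (x + y)) (g' := ea x * ea y) rfl).trans (by rw [map_mul, M.mul_t])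
    map_smul' := fun c x => by
      rcases hq c c.2 with e | e
      · obtain rfl : c = 0 := Subtype.ext e
        simpa [mem_Q1] using (aut_layers f).2.2.2.2.1 (ea 0) rfl
      · obtain rfl : c = 1 := Subtype.ext e
        simp }) fun f g => LinearEquiv.ext fun t => t_eq f (g := g (ea t)) (g' := ea (g (ea t)).t) rfl

theorem L_eq_1' : type_of% @L.eq_1 := @L.eq_1

theorem L_t (f : MulAut (M K)) (g : M K) : (f g).t = L hq f g.t := t_eq f rfl

theorem card_G : Nat.card (K ≃ₗ[kk K] K) = 168 := by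
  let := Fintype.ofFinite (kk K)
  rw [← Nat.card_congr (LinearMap.GeneralLinearGroup.generalLinearEquiv (kk K) K).toEquiv,
    ← Nat.card_congr (Matrix.GeneralLinearGroup.toLin'
      (Module.finBasisOfFinrankEq (kk K) K finrank_K)).toEquiv, Matrix.card_GL_field,
    ← Nat.card_eq_fintype_card, card_kk hq]
  decide

end A4

open A4

variable [CharP K p]

theorem a4 (hq : ∀ l : K, σ l = l → l = 0 ∨ l = 1) (H₀ : Subgroup (MulAut (M K)))
    (hc : (Nat.card H₀).Coprime p) : ∃ θ : MulAut (M K), ∀ h ∈ H₀, ∃ γ : Gm K,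
      (∀ g, ((θ * h * θ⁻¹) g).t = (Gm.aut γ g).t) ∧
        ∀ g, ((θ * h * θ⁻¹) g).u = (Gm.aut γ g).u := by
  suffices h : ∃ a ∈ (L hq).range, ∀ h ∈ H₀.map (L hq), ∃ γ, a * h * a⁻¹ = L hq (Gm.aut γ) by
    obtain ⟨_, ⟨θ, rfl⟩, h⟩ := h
    refine ⟨θ, fun f hf => (h _ ⟨f, hf, rfl⟩).imp fun γ e => ⟨fun g => ?_, fun g => ?_⟩⟩
    · rw [L_t hq, L_t hq, ← e, map_mul, map_mul, map_inv]
    · rw [u_fix hq, u_fix hq]
  have hG := card_G hq
  have : Finite (K ≃ₗ[kk K] K) := Nat.finite_of_card_ne_zero (by omega)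
  have h2 : (2 : K) = 0 := (hq 2 (map_ofNat _ 2)).resolve_right fun e =>
    one_ne_zero (α := K) (by linear_combination e)
  obtain rfl := eq_two_of (p := p) h2
  have hd : Nat.card (H₀.map (L hq)) ∣ 21 :=
    ((hc.coprime_dvd_left (card_map_dvd _ _)).pow_right 3).dvd_of_dvd_mul_left
      (by rw [show 2 ^ 3 * 21 = 168 from rfl, ← hG]; exact card_subgroup_dvd_card _)
  have hle : H₀.map (L hq) ≤ (L hq).range := map_le_range _ _
  have : Fact (Nat.Prime 7) := ⟨by norm_num⟩
  have : Fact (Nat.Prime 3) := ⟨by norm_num⟩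
  by_cases h7 : 7 ∣ Nat.card (H₀.map (L hq))
  · have hK : Nat.card Kˣ = 7 := by rw [Nat.card_units, card_K, card_kk hq]; rfl
    let m : Kˣ →* (K ≃ₗ[kk K] K) := (L hq).comp (Gm.aut.comp (MonoidHom.mk' (fun b =>
      ⟨b, 1, 1, b.ne_zero, one_ne_zero, map_one _, fun _ => rfl⟩) fun a b =>
        Gm.ext rfl (mul_one _).symm rfl))
    have hm : ∀ b x, m b x = b * x := fun b x => rfl
    have mi : Function.Injective m := fun a b e => Units.ext (by
      simpa [hm] using congrArg (fun f : K ≃ₗ[kk K] K => f 1) e)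
    obtain ⟨P⟩ : Nonempty (Sylow 7 (H₀.map (L hq))) := inferInstance
    have : Subsingleton (Sylow 7 (H₀.map (L hq))) := by
      have h1 := P.card_dvd_index
      have h3 : P.1.index ∣ 3 := ((Nat.Prime.coprime_iff_not_dvd Fact.out).2
        P.not_dvd_index).symm.dvd_of_dvd_mul_left (P.1.index_dvd_card.trans hd)
      have h4 := card_sylow_modEq_one 7 (H₀.map (L hq))
      rcases (Nat.dvd_prime Fact.out).1 (h1.trans h3) with e | e
      · exact (Nat.card_eq_one_iff_unique.1 e).1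
      · rw [e] at h4; exact absurd h4 (by decide)
    obtain ⟨a, ha, e⟩ := (syl (T := m.range) (A := (L hq).range)
      (by rintro _ ⟨b, rfl⟩; exact ⟨_, rfl⟩)
      ((Nat.card_congr (MonoidHom.ofInjective mi).toEquiv).symm.trans hK) (by rw [hG]; decide)
      ).exists_conj ((map_subtype_le _).trans hle) (P.2.map (Subgroup.subtype _))
    obtain ⟨⟨u, hu⟩, u1⟩ := ne_bot_iff_exists_ne_one.1 (P.ne_bot_of_dvd_card h7)
    obtain ⟨b, eb⟩ := e _ ⟨u, hu, rfl⟩
    have b1 : b ≠ 1 := fun e => u1 (Subtype.ext (Subtype.ext (by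
      simpa [e, eq_comm, mul_inv_eq_one] using eb)))
    refine ⟨a, ha, fun h hh => ?_⟩
    obtain ⟨b', eb'⟩ := e _ ⟨_, P.normal_of_subsingleton.conj_mem u hu ⟨h, hh⟩, rfl⟩
    obtain ⟨A, hA⟩ : ∃ A, A = a * h * a⁻¹ := ⟨_, rfl⟩
    have k1 : A * m b * A⁻¹ = m b' := by rw [eb, eb', hA]; simp [mul_assoc]
    have k2 : ∀ y x, A (y * x) * A 1 = A y * A x := fun y x => by
      by_cases y0 : y = 0
      · simp [y0]
      obtain ⟨n, hn⟩ := mem_powers_of_prime_card hK (g' := Units.mk0 y y0) b1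
      have k : ∀ x, A (y * x) = (b' ^ n : Kˣ) * A x := fun x => by
        have : A * m (Units.mk0 y y0) = m (b' ^ n) * A := by
          rw [← hn, map_pow, map_pow, ← k1, conj_pow, inv_mul_cancel_right]
        exact congrArg (fun f : K ≃ₗ[kk K] K => f x) this
      have := k 1
      rw [mul_one] at this
      rw [k, this]; ring
    have A1 : A 1 ≠ 0 := by simp
    let φ : K →+* K :=
      { toFun := fun y => A y / A 1
        map_one' := div_self A1
        map_mul' := fun x y => by field_simp; exact k2 x y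
        map_zero' := by simp
        map_add' := fun x y => by rw [map_add, add_div] }
    exact ⟨⟨A 1, 1, .ofBijective φ (Finite.injective_iff_bijective.1 φ.injective), A1, one_ne_zero,
      map_one _, comm_σ _⟩, hA ▸ LinearEquiv.ext fun t => (mul_div_cancel₀ _ A1).symm⟩
  · let γ : Gm K := ⟨1, 1, σ, one_ne_zero, one_ne_zero, map_one _, fun _ => rfl⟩
    have hγ : ∀ x, L hq (Gm.aut γ) x = σ x := fun x => one_mul _
    obtain ⟨a, ha, e⟩ := (syl (r := 3) (T := zpowers (L hq (Gm.aut γ))) (A := (L hq).range)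
      (zpowers_le.2 ⟨_, rfl⟩) (by
        rw [Nat.card_zpowers]
        refine orderOf_eq_prime (LinearEquiv.ext fun x => by simp [pow_succ, hγ]) fun e => ?_
        obtain ⟨x, hx⟩ := Cub.ne (K := K)
        exact hx ((hγ x).symm.trans (by rw [e]; rfl))) (by rw [hG]; decide)).exists_conj hle
      (by
        rcases (Nat.dvd_prime Nat.prime_three).1 (((Nat.Prime.coprime_iff_not_dvd Fact.out).2
          h7).symm.dvd_of_dvd_mul_left hd) with e | e
        exacts [.of_card (n := 0) e, .of_card (n := 1) e])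
    refine ⟨a, ha, fun h hh => ?_⟩
    obtain ⟨n, hn⟩ := e h hh
    exact ⟨γ ^ n, by rw [map_zpow, map_zpow]; exact hn.symm⟩

end Cfsg.Lib.D4F
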