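import Cfsg.Agent.D4F.A4
import Cfsg.Agent.D4F.A2b
import Cfsg.Agent.Solv.CoprimeBasic

/-! Fusion systems over a Sylow subgroup of `³D₄(q)`: `p'`-groups of automorphisms are conjugate into `Γ`. -/

set_option autoImplicit false
set_option linter.unusedSectionVars false

namespace Cfsg.Lib.D4F

open Cfsg Cfsg.FusionSystem Subgroup Equiv Cfsg.Lib.Fus

variable {K : Type*} [Field K] [Cub K] [Finite K] {p : ℕ} [Fact p.Prime]
  {F F' : FusionSystem (⊤ : Subgroup (M K))} {E : Subgroup (M K)} {O : Perm (M K) → Prop}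
  {H : Subgroup (Gm K)} {X : Subgroup (Perm (V K))}

theorem Gm.aut_inj : Function.Injective (Gm.aut : Gm K → MulAut (M K)) :=
  (injective_iff_map_eq_one _).2 fun _ h => aut_mem_KL (h ▸ one_mem _)

open Pointwise

variable [CharP K p]

theorem a5 (H₀ : Subgroup (MulAut (M K))) (hc : (Nat.card H₀).Coprime p) :
    ∃ θ : MulAut (M K), ∃ H : Subgroup (Gm K), (Nat.card H).Coprime p ∧
      ∀ α, α ∈ H₀ ↔ ∃ γ ∈ H, θ * α * θ⁻¹ = Gm.aut γ := by
  obtain ⟨θ, hθ⟩ : ∃ θ : MulAut (M K), ∀ h ∈ H₀, ∃ γ : Gm K,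
      (∀ g, ((θ * h * θ⁻¹) g).t = (Gm.aut γ g).t) ∧
        ∀ g, ((θ * h * θ⁻¹) g).u = (Gm.aut γ g).u := by
    by_cases hq : ∃ l : K, σ l = l ∧ l ≠ 0 ∧ l ≠ 1
    · refine ⟨1, fun f _ => ?_⟩
      obtain ⟨γ, h1, h2⟩ := a2a f
      obtain ⟨δ, h3, h4⟩ := a2b hq (Gm.aut γ * f) h1 h2
      have e : ∀ g, (1 * f * 1⁻¹) g = Gm.aut γ⁻¹ ((Gm.aut γ * f) g) := fun g => by simp
      exact ⟨γ⁻¹ * δ, fun g => by rw [e, Gm.aut_t, h3, map_mul]; rfl,
        fun g => by rw [e, Gm.aut_u, h4, map_mul]; rfl⟩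
    · exact a4 (fun l hl => by by_contra! h; exact hq ⟨l, hl, h⟩) H₀ hc
  have := KL_normal (K := K)
  have hp := KL_pgroup (K := K) (p := p)
  have := hp.isNilpotent
  obtain ⟨n, hn⟩ := hp.exists_card_eq
  obtain ⟨k, -, hk⟩ := Solv.Coprime.exists_conj_le (K := KL K) (A := MulAut.conj θ • H₀)
    le_normalizer_of_normal (by
      rw [hn]; exact (hc.coprime_dvd_left (card_map_dvd _ _)).pow_right n)
    (Or.inr inferInstance) (L := Gm.aut.range) (by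
      rintro _ ⟨h, hh, rfl⟩
      obtain ⟨γ, h1, h2⟩ := hθ h hh
      refine ⟨Gm.aut γ * (θ * h * θ⁻¹)⁻¹, fun g => ?_, γ, (inv_mul_cancel_right _ _).symm⟩
      rw [MulAut.mul_apply, ← h1, ← h2, MulAut.apply_inv_self]
      exact ⟨rfl, rfl⟩)
  rw [← mul_smul, ← map_mul] at hk
  refine ⟨k * θ, (MulAut.conj (k * θ) • H₀).comap Gm.aut, hc.coprime_dvd_left
    ((card_comap_dvd_of_injective _ _ Gm.aut_inj).trans (card_map_dvd _ _)), fun α =>
      ⟨fun h => ?_, fun ⟨γ, h, e⟩ => ?_⟩⟩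
  · obtain ⟨γ, e⟩ := hk (smul_mem_pointwise_smul _ _ _ h)
    exact ⟨γ, mem_comap.2 (e ▸ smul_mem_pointwise_smul _ _ _ h), e.symm⟩
  · exact (smul_mem_pointwise_smul_iff (a := MulAut.conj (k * θ))).1 (by
      rw [mem_comap, ← e] at h; exact h)

end Cfsg.Lib.D4F
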