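import Cfsg.Agent.D4F.Defs2
import Cfsg.Agent.Fus.EssReal

/-! Fusion systems over a Sylow subgroup of `³D₄(q)`: the model system. -/

set_option autoImplicit false

namespace Cfsg.Lib.D4F

open Cfsg Cfsg.FusionSystem Subgroup Equiv Cfsg.Lib.Fus Cfsg.Lib.Fus.Ess

universe u v

theorem R7.realizable {Ω : Type u} [Group Ω] {S : Subgroup Ω} {G : Type v} [Group G] [Finite G]
    {p : ℕ} [Fact p.Prime] (hS : IsPGroup p S) {F : FusionSystem S} {j : S →* G}
    (h : F.IsRealizedBy j) (hi : ¬ p ∣ j.range.index) : F.IsRealizable p := by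
  let e : G ≃* Shrink.{u} G := (Shrink.mulEquiv.{u} (α := G)).symm
  have : Finite (Shrink.{u} G) := Finite.of_equiv _ e.toEquiv
  refine ⟨Shrink.{u} G, inferInstance, this, e.toMonoidHom.comp j,
    ⟨e.injective.comp h.1, fun P hP φ hφ => ?_⟩, (hS.of_surjective _
      (MonoidHom.rangeRestrict_surjective _)).toSylow ?_, rfl⟩
  · rw [h.2 P hP φ hφ]
    refine ⟨fun ⟨g, hg⟩ => ⟨e g, fun x => ?_⟩, fun ⟨g, hg⟩ => ⟨e.symm g, fun x => e.injective ?_⟩⟩
    · change e _ = e g * e _ * (e g)⁻¹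
      rw [hg, map_mul, map_mul, map_inv]
    · rw [map_mul, map_mul, map_inv, MulEquiv.apply_symm_apply]
      exact hg x
  · rwa [MonoidHom.range_comp, index_map_of_bijective e.bijective]

theorem R7.aux {X : Type*} [Group X] (t s r y : X) :
    t * (s * (r * y * r⁻¹) * s⁻¹) * t⁻¹ = t * s * r * y * (t * s * r)⁻¹ := by group

variable {K : Type*} [Field K] [Cub K] [Finite K] {p : ℕ} [Fact p.Prime] {H : Subgroup (Gm K)}
  [CharP K p]

theorem Rl.model {G : Type*} [Group G] [Finite G] {ι : M K →* G} {ρ : RingAut K →* MulAut G}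
    (h : Rl p ι ρ) (hT : TorLe H) (hc : (Nat.card H).Coprime p) :
    ∃ F' : FusionSystem (⊤ : Subgroup (M K)), NF p F' H ∧ Mv1 F' ∧ Mv2 F' ∧ F'.IsRealizable p := by
  have hp : p.Prime := Fact.out
  let π : Gm K →* RingAut K := MonoidHom.mk' (·.φ) Gm.mul_φ
  have : Finite (H.map π) := Finite.of_surjective _ (π.subgroupMap_surjective H)
  let G1 := G ⋊[ρ.comp (H.map π).subtype] (H.map π)
  have : Finite G1 := Finite.of_equiv _ SemidirectProduct.equivProd.symm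
  let j : (⊤ : Subgroup (M K)) →* G1 := SemidirectProduct.inl.comp (ι.comp (Subgroup.subtype _))
  have hj : Function.Injective j :=
    SemidirectProduct.inl_injective.comp (h.inj.comp (subtype_injective _))
  have hi : ¬ p ∣ j.range.index := by
    have h1 := j.range.card_mul_index
    rw [SemidirectProduct.card, ← ι.range.card_mul_index,
      ← Nat.card_congr (MonoidHom.ofInjective hj).toEquiv, card_top,
      ← Nat.card_congr (MonoidHom.ofInjective h.inj).toEquiv, mul_assoc] at h1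
    rw [Nat.eq_of_mul_eq_mul_left Nat.card_pos h1]
    exact fun e => (hp.dvd_mul.1 e).elim h.idx fun e =>
      (hp.coprime_iff_not_dvd.1 hc.symm) (e.trans (card_map_dvd H π))
  have hr := realSys_realized j hj
  have hx : ∀ g, extFun j g = SemidirectProduct.inl (ι g) := fun g => extFun_of_mem j trivial
  have hm : ∀ {P : Subgroup (M K)} {f : M K → M K}, Mor (realSys j hj) P f ↔ ∃ g : G1, ∀ x ∈ P,
      (SemidirectProduct.inl (ι (f x)) : G1) = g * SemidirectProduct.inl (ι x) * g⁻¹ := by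
    simp only [mor_iff_of_realized hr, hx, le_top, mem_top, implies_true, true_and]
  have dec : ∀ γ ∈ H, ∃ δ ε : Gm K, δ.φ = 1 ∧ ε ∈ H ∧ ε.a = 1 ∧ ε.c = 1 ∧ ε.φ = γ.φ ∧ γ = δ * ε :=
    fun γ hγ => by
      have e : γ = ⟨γ.a, γ.c, 1, γ.ha, γ.hc, γ.σc, fun _ => rfl⟩ *
          ⟨1, 1, γ.φ, one_ne_zero, one_ne_zero, map_one _, γ.φσ⟩ :=
        Gm.ext (mul_one _).symm (mul_one _).symm (one_mul _).symm
      refine ⟨_, _, rfl, ?_, rfl, rfl, by rfl, e⟩
      rwa [e, H.mul_mem_cancel_left (hT _ rfl)] at hγ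
  have fl : ∀ (ε : Gm K) (hε : ε ∈ H), ε.a = 1 → ε.c = 1 → ∀ g,
      (SemidirectProduct.inr ⟨_, mem_map_of_mem π hε⟩ : G1) * SemidirectProduct.inl (ι g) *
        (SemidirectProduct.inr ⟨_, mem_map_of_mem π hε⟩)⁻¹ =
        SemidirectProduct.inl (ι (Gm.aut ε g)) := fun ε hε ha hc g => by
    rw [← h.fld ε ha hc, ← map_inv, ← SemidirectProduct.inl_aut]; rfl
  have mv : ∀ (P : Subgroup (M K)) (a : G), (∀ g ∈ P, ∃ g' ∈ P, a * ι g * a⁻¹ = ι g') →
      ∃ f, PIso (realSys j hj) f P P ∧ ∀ g ∈ P, ι (f g) = a * ι g * a⁻¹ := fun P a ha => by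
    choose! k h1 h2 using ha
    obtain ⟨f, hf, e⟩ := (hm (P := P) (f := k)).2 ⟨SemidirectProduct.inl a, fun x hx => by
      rw [← h2 x hx, map_mul, map_mul, map_inv]⟩ |>.exists_perm
    exact ⟨f, hf.piso_of_maps fun x hx => (e x hx).symm ▸ h1 x hx, fun g hg => by
      rw [e g hg, h2 g hg]⟩
  refine ⟨realSys j hj, ⟨saturated_of_realized hr ⟨(isPGroup_top.of_surjective _
    (MonoidHom.rangeRestrict_surjective _)).toSylow hi, rfl⟩, hc, fun f => hm.trans ⟨?_, ?_⟩⟩,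
    ?_, ?_, R7.realizable isPGroup_top hr hi⟩
  · rintro ⟨⟨a, _, γ, hγ, rfl⟩, ha⟩
    obtain ⟨-, ε, -, hε, h1, h2, h3, -⟩ := dec γ hγ
    have h4 : ∀ g, a * ι (Gm.aut ε g) * a⁻¹ = ι (f g) := fun g => SemidirectProduct.inl_injective (by
      rw [ha g trivial, map_mul, map_mul, map_inv, ← fl ε hε h1 h2, ← mul_assoc, ← mul_assoc,
        mul_assoc _ _ _⁻¹, ← mul_inv_rev, SemidirectProduct.mk_eq_inl_mul_inr,
        show (⟨π γ, γ, hγ, rfl⟩ : H.map π) = ⟨_, mem_map_of_mem π hε⟩ from Subtype.ext h3.symm])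
    obtain ⟨x, δ, hδ, h5⟩ := h.nrm a fun g => ⟨f ((Gm.aut ε)⁻¹ g), by
      rw [← h4, MulAut.apply_inv_self]⟩
    exact ⟨x, δ * ε, mul_mem (hT δ hδ) hε, fun g => h.inj (by
      rw [← h4, h5, map_mul Gm.aut, MulAut.mul_apply])⟩
  · rintro ⟨x, γ, hγ, e⟩
    obtain ⟨δ, ε, hδ, hε, h1, h2, -, rfl⟩ := dec γ hγ
    obtain ⟨a, ha⟩ := h.tor δ hδ
    refine ⟨SemidirectProduct.inl (ι x * a) * SemidirectProduct.inr ⟨_, mem_map_of_mem π hε⟩,
      fun g _ => ?_⟩
    rw [e, map_mul Gm.aut, MulAut.mul_apply, map_mul ι, map_mul ι, ← ha]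
    simp only [map_mul, map_inv, ← fl ε hε h1 h2]
    exact R7.aux _ _ _ _
  · obtain ⟨a, h1, g, hg, g', hg', e⟩ := h.mv1
    obtain ⟨f, hf, e'⟩ := mv _ a h1
    exact ⟨f, hf, g, hg, h.inj ((e' g hg.1).trans e) ▸ hg'⟩
  · obtain ⟨a, h1, g, hg, g', hg', e⟩ := h.mv2
    obtain ⟨f, hf, e'⟩ := mv _ a h1
    exact ⟨f, hf, g, hg, h.inj ((e' g hg.2.1).trans e) ▸ hg'⟩

end Cfsg.Lib.D4F
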