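import Cfsg.Agent.D4F.A5
import Cfsg.Agent.D4F.R7
import Cfsg.Agent.Fus.GrpImg
import Cfsg.Agent.Solv.SchurZassenhaus

/-! Fusion systems over a Sylow subgroup of `³D₄(q)`: the normal form of a saturated system. -/

set_option autoImplicit false
set_option linter.unusedSectionVars false

namespace Cfsg.Lib.D4F

open Cfsg Cfsg.FusionSystem Subgroup Equiv Cfsg.Lib.Fus

variable {K : Type*} [Field K] [Cub K] [Finite K] {p : ℕ} [Fact p.Prime]
  {F F' : FusionSystem (⊤ : Subgroup (M K))} {E : Subgroup (M K)} {O : Perm (M K) → Prop}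
  {H : Subgroup (Gm K)} {X : Subgroup (Perm (V K))}

theorem realizable_of_fImg {Ω Ω' : Type*} [Group Ω] [Group Ω'] {S : Subgroup Ω} {S' : Subgroup Ω'}
    {F : FusionSystem S} {D : FusionSystem S'} {t : Ω → Ω'} (h : FImg F D t) (hi : Set.InjOn t S)
    (hS : IsPGroup p S) (hD : D.IsRealizable p) : F.IsRealizable p := by
  obtain ⟨G, _, _, ι, hι, T, hT⟩ := hD
  let j : S →* G := ι.comp (h.mulOn.toHom.codRestrict S' fun x => h.maps x.2)
  have e : j.range = ι.range := le_antisymm (by rintro _ ⟨x, rfl⟩; exact ⟨_, rfl⟩) (by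
    rintro _ ⟨y, rfl⟩
    obtain ⟨x, hx, e⟩ := h.exists_eq y.2
    exact ⟨⟨x, hx⟩, congrArg ι (Subtype.ext e)⟩)
  refine R7.realizable hS (j := j) (realized_of_fImg (fun a b e' => Subtype.ext
    (hi a.2 b.2 (congrArg Subtype.val (hι.1 e')))) ?_) (by rw [e, ← hT]; exact T.not_dvd_index)
  rw [e]
  exact (h.trans (fImg_of_realized hι)).congr fun x hx =>
    (extFun_of_mem ι (h.maps hx)).trans (extFun_of_mem j hx).symm

variable [CharP K p]

theorem exists_NF (hF : F.IsSaturated p) : ∃ (F' : FusionSystem (⊤ : Subgroup (M K)))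
    (H : Subgroup (Gm K)), NF p F' H ∧ (F'.IsRealizable p → F.IsRealizable p) := by
  let e := MulAut.congr (topEquiv : (⊤ : Subgroup (M K)) ≃* M K)
  have hs := (sat_sylIn isPGroup_top hF (isFullyNormalized_top F)).map_equiv e
  have hD : ∀ α, α ∈ (F.autGroup ⊤).map e.toMonoidHom ↔ Mor F ⊤ α := fun α => by
    rw [mem_map_equiv, mem_autGroup_pext le_rfl]
    exact ⟨fun h => h.congr fun x hx => pext_of_mem _ hx,
      fun h => h.congr fun x hx => (pext_of_mem (e.symm α) hx).symm⟩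
  have hI : (autInducedBy ⊤ ⊤).map e.toMonoidHom = MulAut.conj.range := by
    ext α
    rw [mem_map_equiv, mem_autInducedBy_pext]
    exact ⟨fun ⟨g, _, h⟩ => ⟨g, MulEquiv.ext fun x =>
      (h x trivial).symm.trans (pext_of_mem (e.symm α) (mem_top x))⟩, by
        rintro ⟨g, rfl⟩; exact ⟨g, trivial, fun x hx => pext_of_mem _ hx⟩⟩
  rw [hI] at hs
  have : (MulAut.conj : M K →* _).range.Normal := ⟨by
    rintro _ ⟨g, rfl⟩ θ
    exact ⟨θ g, MulEquiv.ext fun x => by simp⟩⟩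
  obtain ⟨n, hn⟩ := hs.pgroup.exists_card_eq
  have hc := (Nat.Prime.coprime_iff_not_dvd Fact.out).2 hs.not_dvd_relIndex
  obtain ⟨A, h1, h2, -, h3⟩ := Solv.exists_complement_ambient _ _ hs.le le_normalizer_of_normal
    (hn ▸ hc.pow_left n)
  obtain ⟨θ, H, hH, hθ⟩ := a5 A (h3 ▸ hc.symm)
  have eθ : img ⊤ θ = ⊤ := eq_top_iff.2 fun x _ => by
    simpa using mem_img_of_mem θ (mem_top (θ⁻¹ x))
  obtain ⟨F', hF'⟩ : ∃ F' : FusionSystem (⊤ : Subgroup (M K)), FImg F F' θ := by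
    have := exists_fImg_of_injOn F (t := θ) (fun x _ y _ => map_mul θ x y) θ.injective.injOn
    rwa [eθ] at this
  refine ⟨F', H, ⟨hF'.saturated isPGroup_top hF, hH, fun f => ⟨fun hf => ?_, ?_⟩⟩,
    realizable_of_fImg hF' θ.injective.injOn isPGroup_top⟩
  · obtain ⟨f0, h0, e0⟩ := hF'.lift ⊤ f hf
    rw [hF'.pre_top] at h0 e0
    obtain ⟨f1, h4, e1⟩ := h0.exists_perm
    obtain ⟨_, ⟨x, rfl⟩, a, ha, e2⟩ := mem_sup_of_normal_left.1
      (h2 ▸ mem_map_of_mem e.toMonoidHom h4.piso_top.aut_mem)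
    obtain ⟨γ, hγ, e3⟩ := (hθ a).1 ha
    refine ⟨θ x, γ, hγ, fun g => ?_⟩
    have := e0 (θ⁻¹ g) trivial
    rw [MulAut.apply_inv_self, ← e1 _ trivial] at this
    rw [this, ← e3, show f1 (θ⁻¹ g) = (MulAut.conj x * a) (θ⁻¹ g) by rw [e2]; rfl]
    simp
  · rintro ⟨x, γ, hγ, e1⟩
    have := hF'.mor_of ((hD _).1 (h1 ((hθ (θ⁻¹ * Gm.aut γ * θ)).2 ⟨γ, hγ, by group⟩)))
      (f' := Gm.aut γ) fun x _ => by simp
    rw [eθ] at this
    exact (this.conj_comp (mem_top x)).congr fun g _ => (e1 g).symm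

end Cfsg.Lib.D4F
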