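import Cfsg.Agent.D4F.Defs

/-! Fusion systems over a Sylow subgroup of `³D₄(q)`: commutator formulas and field lemmas. -/

set_option autoImplicit false

namespace Cfsg.Lib.D4F

open Cfsg Cfsg.FusionSystem Subgroup Equiv Cfsg.Lib.Fus

variable {K : Type*} [Field K] [Cub K]

section Field

theorem tr_add (s u : K) : tr (s + u) = tr s + tr u := by cub []
theorem tr_sub (s u : K) : tr (s - u) = tr s - tr u := by cub []
theorem tr_neg (s : K) : tr (-s) = -tr s := by cub []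
theorem tr_σ (s : K) : tr (σ s) = tr s := by cub []
theorem tr_fix_mul {l : K} (hl : σ l = l) (s : K) : tr (l * s) = l * tr s := by cub [hl]
theorem tr_fix {l : K} (hl : σ l = l) : tr l = 3 * l := by cub [hl]
theorem sh_mul (s u : K) : sh (s * u) = sh s * sh u := by cub []
theorem nm_mul (s u : K) : nm (s * u) = nm s * nm u := by cub []
theorem sh_add (s u : K) : sh (s + u) = sh s + sh u + cr s u := by cub []
theorem sh_neg (s : K) : sh (-s) = sh s := by cub []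
theorem nm_neg (s : K) : nm (-s) = -nm s := by cub []
theorem sh_one : sh (1 : K) = 1 := by cub []
theorem nm_one : nm (1 : K) = 1 := by cub []
theorem sh_fix {l : K} (hl : σ l = l) : sh l = l ^ 2 := by cub [hl]
theorem nm_fix {l : K} (hl : σ l = l) : nm l = l ^ 3 := by cub [hl]
theorem mul_sh (s : K) : s * sh s = nm s := by cub []
theorem sh_sh (s : K) : sh (sh s) = nm s * s := by cub []
theorem nm_sh (s : K) : nm (sh s) = nm s ^ 2 := by cub []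
theorem cr_comm (s u : K) : cr s u = cr u s := by cub []
theorem cr_add (s u v : K) : cr s (u + v) = cr s u + cr s v := by cub []
theorem cr_sub (s u v : K) : cr s (u - v) = cr s u - cr s v := by cub []
theorem cr_neg (s u : K) : cr s (-u) = -cr s u := by cub []
theorem add_cr (s u v : K) : cr (s + u) v = cr s v + cr u v := by cub []
theorem cr_self (s : K) : cr s s = 2 * sh s := by cub []
theorem cr_fix_mul {l : K} (hl : σ l = l) (s u : K) : cr s (l * u) = l * cr s u := by cub [hl]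
theorem fix_mul_cr {l : K} (hl : σ l = l) (s u : K) : cr (l * s) u = l * cr s u := by cub [hl]
theorem cr_mul_mul (a s u : K) : cr (a * s) (a * u) = sh a * cr s u := by cub []
theorem tr_mul_cr (a b c : K) : tr (a * cr b c) = tr (b * cr a c) := by cub []
theorem tr_mul_cr_self (a b : K) : tr (a * cr a b) = 2 * tr (sh a * b) := by cub []
theorem tr_mul_sh (a : K) : tr (a * sh a) = 3 * nm a := by cub []
theorem nm_add (s u : K) : nm (s + u) = nm s + nm u + tr (sh s * u) + tr (s * sh u) := by cub []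

@[simp] theorem sh_eq_zero {s : K} : sh s = 0 ↔ s = 0 := by simp [sh]
@[simp] theorem nm_eq_zero {s : K} : nm s = 0 ↔ s = 0 := by simp [nm]

theorem σ_inv_fix {l : K} (hl : σ l = l) : σ l⁻¹ = l⁻¹ := by rw [map_inv₀, hl]
theorem σ_div_fix {l m : K} (hl : σ l = l) (hm : σ m = m) : σ (l / m) = l / m := by
  rw [map_div₀, hl, hm]

/-- `t × s = 0` forces proportionality, and the factor is killed by `2`. -/
theorem eq_of_cr {t s : K} (hs : s ≠ 0) (h : cr t s = 0) :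
    ∃ l, σ l = l ∧ 2 * l = 0 ∧ t = l * s := by
  obtain ⟨x, rfl⟩ : ∃ x, t = x * s := ⟨t / s, by field_simp⟩
  have h0 : σ x + σ (σ x) = 0 := by
    have : sh s * (σ x + σ (σ x)) = 0 := by rw [← h]; cub []
    exact (mul_eq_zero.1 this).resolve_left (by simpa using hs)
  have h1 := congrArg σ h0
  have h2 := congrArg σ h1
  simp only [map_add, σ3, map_zero] at h1 h2
  exact ⟨x, by linear_combination h0 - h1, by linear_combination h1 + h2 - h0, rfl⟩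

theorem cr_eq_zero (h2 : (2 : K) ≠ 0) {t s : K} (h : cr t s = 0) : t = 0 ∨ s = 0 := by
  by_cases hs : s = 0
  · exact Or.inr hs
  obtain ⟨l, -, h1, rfl⟩ := eq_of_cr hs h
  simp [(mul_eq_zero.1 h1).resolve_left h2]

/-- Independence of `1, σ, σ²`. -/
theorem indep {a b c : K} (h : ∀ x, a * x + b * σ x + c * σ (σ x) = 0) :
    a = 0 ∧ b = 0 ∧ c = 0 := by
  obtain ⟨y, hy⟩ := Cub.ne (K := K)
  have d1 : σ y - y ≠ 0 := sub_ne_zero.2 hy
  have d2 : σ (σ y) - σ y ≠ 0 := by rw [← map_sub]; exact (map_ne_zero _).2 d1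
  have d3 : σ (σ y) - y ≠ 0 := fun e => d1 (by
    have := congrArg σ e
    simp only [map_sub, σ3, map_zero] at this
    linear_combination -this)
  have e0 := h 1
  have e1 := h y
  have e2 := h (y ^ 2)
  simp only [map_one, map_pow] at e0 e2
  have hc : c = 0 := by
    have : c * ((σ (σ y) - y) * (σ (σ y) - σ y)) = 0 := by
      linear_combination e2 - (y + σ y) * e1 + y * σ y * e0
    exact (mul_eq_zero.1 this).resolve_right (mul_ne_zero d3 d2)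
  have hb : b = 0 := by
    have : b * (σ y - y) = 0 := by rw [hc] at e0 e1; linear_combination e1 - y * e0
    exact (mul_eq_zero.1 this).resolve_right d1
  exact ⟨by rw [hb, hc] at e0; linear_combination e0, hb, hc⟩

theorem eq_zero_of_tr {t : K} (h : ∀ s, tr (t * s) = 0) : t = 0 :=
  (indep (b := σ t) (c := σ (σ t)) fun x => by rw [← h x]; cub []).1

/-- The trace form is onto `k`. -/
theorem exists_tr {t : K} (ht : t ≠ 0) {l : K} (hl : σ l = l) : ∃ s, tr (t * s) = l := by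
  obtain ⟨s, hs⟩ : ∃ s, tr (t * s) ≠ 0 := by
    by_contra! h
    exact ht (eq_zero_of_tr h)
  refine ⟨l / tr (t * s) * s, ?_⟩
  rw [mul_left_comm, tr_fix_mul (σ_div_fix hl (σ_tr _)), div_mul_cancel₀ _ hs]

theorem exists_not_fix_mul {t : K} (ht : t ≠ 0) : ∃ s, ∀ l, σ l = l → s ≠ l * t := by
  obtain ⟨y, hy⟩ := Cub.ne (K := K)
  exact ⟨y * t, fun l hl e => hy (by rw [mul_right_cancel₀ ht e, hl])⟩

theorem eq_zero_of_cr {t : K} (h : ∀ s, cr s t = 0) : t = 0 := by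
  by_contra ht
  obtain ⟨s, hs⟩ := exists_not_fix_mul ht
  obtain ⟨l, hl, -, e⟩ := eq_of_cr ht (h s)
  exact hs l hl e

end Field

section Comm

/-- The commutator `g⁻¹ x g x⁻¹`. -/
def cm (g x : M K) : M K := g⁻¹ * (x * g * x⁻¹)

theorem cm_eq_1' : type_of% @cm.eq_1 := @cm.eq_1

variable {g x : M K}

theorem cm_eq_one : cm g x = 1 ↔ x * g = g * x := by
  rw [cm, inv_mul_eq_one, eq_mul_inv_iff_mul_eq, eq_comm]

theorem cm_t : (cm g x).t = 0 := by mdl [cm]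
theorem cm_u : (cm g x).u = 0 := by mdl [cm]
theorem cm_s : (cm g x).s = x.t * g.u - g.t * x.u := by mdl [cm]

theorem cm_r (hg : g.u = 0) (hx : x.u = 0) : (cm g x).r = cr x.t g.s - cr g.t x.s := by
  mdl [cm, hg, hx]

theorem cm_r' (hg : g.t = 0) (hx : x.u = 0) : (cm g x).r = cr x.t g.s + g.u * sh x.t := by
  mdl [cm, hg, hx]

theorem cm_r_left (hg : g ∈ Q12 K) : (cm g x).r = cr x.t g.s := by mdl [cm, hg.1, hg.2]

theorem cm_r_right (hx : x ∈ Q12 K) : (cm g x).r = -cr g.t x.s := by mdl [cm, hx.1, hx.2]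

theorem cm_v_left (hg : g ∈ UU K) : (cm g x).v = tr (x.t * g.r) := by
  mdl [cm, hg.1, hg.2.1, hg.2.2]

theorem cm_v_right (hx : x ∈ UU K) : (cm g x).v = -tr (g.t * x.r) := by
  mdl [cm, hx.1, hx.2.1, hx.2.2]

theorem cm_z_left (hg : g ∈ UU K) :
    (cm g x).z = x.u * g.v - tr (x.s * g.r) + x.u * tr (x.t * g.r) := by
  mdl [cm, hg.1, hg.2.1, hg.2.2]

theorem cm_z_right (hx : x ∈ UU K) : (cm g x).z = tr (g.s * x.r) - g.u * x.v := by
  mdl [cm, hx.1, hx.2.1, hx.2.2]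

theorem cm_z (hg : g.t = 0) (hx : x.t = 0) : (cm g x).z = fm (vb x) (vb g) := by
  mdl [cm, hg, hx, fm, vb]

theorem cm_Q12 (g x : M K) : cm g x ∈ Q12 K := ⟨cm_t, cm_u⟩

theorem cm_UU (hg : g ∈ Q2 K) (hx : x ∈ Q2 K) : cm g x ∈ UU K :=
  ⟨cm_t, cm_u, by rw [cm_s, mem_Q2.1 hg, mem_Q2.1 hx]; ring⟩

theorem cm_UU_left (hg : g ∈ Q12 K) (x : M K) : cm g x ∈ UU K :=
  ⟨cm_t, cm_u, by rw [cm_s, hg.1, hg.2]; ring⟩

theorem cm_UU_right (g : M K) (hx : x ∈ Q12 K) : cm g x ∈ UU K :=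
  ⟨cm_t, cm_u, by rw [cm_s, hx.1, hx.2]; ring⟩

theorem UU_le_Q12 : UU K ≤ Q12 K := fun _ h => ⟨h.1, h.2.1⟩
theorem Z2_le_UU : Z2 K ≤ UU K := fun _ h => ⟨h.1, h.2.1, h.2.2.1⟩
theorem ZZ_le_Z2 : ZZ K ≤ Z2 K := fun _ h => ⟨h.1, h.2.1, h.2.2.1, h.2.2.2.1⟩
theorem ZV_le_Z2 : ZV K ≤ Z2 K := fun _ h => ⟨h.1, h.2.1, h.2.2.1, h.2.2.2.1⟩
theorem Q12_le_Q1 : Q12 K ≤ Q1 K := fun _ h => h.1
theorem Q12_le_Q2 : Q12 K ≤ Q2 K := fun _ h => h.2
theorem UU_le_XL (a b : K) : UU K ≤ XL a b := fun _ h => ⟨h.2.1, by rw [h.1, h.2.2]; ring⟩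
theorem XL_le_Q2 (a b : K) : XL a b ≤ Q2 K := fun _ h => h.1
theorem LL_le_Z2 (a b : K) : LL a b ≤ Z2 K := fun _ h => h.1

theorem cm_Z2_left (hg : g ∈ UU K) (x : M K) : cm g x ∈ Z2 K :=
  ⟨cm_t, cm_u, (cm_UU_left (UU_le_Q12 hg) x).2.2, by rw [cm_r_left (UU_le_Q12 hg), hg.2.2, cr_zero]⟩

theorem cm_Z2_right (g : M K) (hx : x ∈ UU K) : cm g x ∈ Z2 K :=
  ⟨cm_t, cm_u, (cm_UU_right g (UU_le_Q12 hx)).2.2, by
    rw [cm_r_right (UU_le_Q12 hx), hx.2.2, cr_zero, neg_zero]⟩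

theorem cm_ZZ_left (hg : g ∈ Z2 K) (x : M K) : cm g x ∈ ZZ K :=
  have h := cm_Z2_left (Z2_le_UU hg) x
  ⟨h.1, h.2.1, h.2.2.1, h.2.2.2, by rw [cm_v_left (Z2_le_UU hg), hg.2.2.2, mul_zero, tr_zero]⟩

theorem cm_ZZ_right (g : M K) (hx : x ∈ Z2 K) : cm g x ∈ ZZ K :=
  have h := cm_Z2_right g (Z2_le_UU hx)
  ⟨h.1, h.2.1, h.2.2.1, h.2.2.2, by
    rw [cm_v_right (Z2_le_UU hx), hx.2.2.2, mul_zero, tr_zero, neg_zero]⟩

theorem cm_ZZ (hg : g ∈ Q1 K) (hx : x ∈ Q1 K) : cm g x ∈ ZZ K := by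
  refine ⟨?_, ?_, ?_, ?_, ?_⟩ <;> mdl [cm, mem_Q1.1 hg, mem_Q1.1 hx]

theorem comm_ZZ (hg : g ∈ ZZ K) (x : M K) : x * g = g * x := by
  obtain ⟨h1, h2, h3, h4, h5⟩ := hg
  ext <;> mdl [h1, h2, h3, h4, h5]

theorem comm_Z2 (hg : g ∈ Z2 K) (hx : x ∈ Q2 K) : x * g = g * x := by
  obtain ⟨h1, h2, h3, h4⟩ := hg
  ext <;> mdl [h1, h2, h3, h4, mem_Q2.1 hx]

theorem comm_UU (hg : g ∈ UU K) (hx : x ∈ UU K) : x * g = g * x := by
  obtain ⟨h1, h2, h3⟩ := hg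
  ext <;> mdl [h1, h2, h3, hx.1, hx.2.1, hx.2.2]

/-- An element of `Z2` is determined by `v` and `z`. -/
theorem eq_one_of_Z2 (hg : g ∈ Z2 K) (hv : g.v = 0) (hz : g.z = 0) : g = 1 :=
  M.ext hg.1 hg.2.1 hg.2.2.1 hg.2.2.2 hv hz

/-- The centraliser of an element of `U`. -/
theorem comm_UU_iff (hg : g ∈ UU K) :
    x * g = g * x ↔ tr (x.t * g.r) = 0 ∧ x.u * g.v = tr (x.s * g.r) := by
  rw [← cm_eq_one]
  refine ⟨fun h => ?_, fun h => eq_one_of_Z2 (cm_Z2_left hg x) (by rw [cm_v_left hg, h.1])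
    (by rw [cm_z_left hg, h.1, h.2]; ring)⟩
  have h1 := cm_v_left (x := x) hg
  have h2 := cm_z_left (x := x) hg
  rw [h, M.one_v] at h1
  rw [h, M.one_z, ← h1] at h2
  exact ⟨h1.symm, by linear_combination -h2⟩

/-- `C(U) = U`. -/
theorem mem_UU_of_comm (h : ∀ g ∈ UU K, x * g = g * x) : x ∈ UU K := by
  have h1 := fun r => (comm_UU_iff (g := ed r) ⟨rfl, rfl, rfl⟩).1 (h _ ⟨rfl, rfl, rfl⟩)
  have h2 := ((comm_UU_iff (g := ee 1 (map_one _)) ⟨rfl, rfl, rfl⟩).1 (h _ ⟨rfl, rfl, rfl⟩)).2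
  exact ⟨eq_zero_of_tr fun r => (h1 r).1, by simpa [ee] using h2,
    eq_zero_of_tr fun r => by simpa [ed] using (h1 r).2.symm⟩

/-- `C(Z2) = Q2`. -/
theorem mem_Q2_of_comm (hg : g ∈ Z2 K) (hv : g.v ≠ 0) (h : x * g = g * x) : x ∈ Q2 K := by
  have := ((comm_UU_iff (Z2_le_UU hg)).1 h).2
  rw [hg.2.2.2, mul_zero, tr_zero] at this
  exact (mul_eq_zero.1 this).resolve_right hv

theorem vb_mul (hg : g.t = 0) : vb (g * x) = vb g + vb x := by
  refine V.ext' ?_ ?_ ?_ ?_ <;> simp only [vb, Prod.fst_add, Prod.snd_add, Subfield.coe_add] <;>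
    mdl [hg]

theorem vb_conj (hg : g.t = 0) : vb (x * g * x⁻¹) = xV x.t (vb g) := by
  refine V.ext' ?_ ?_ ?_ ?_ <;> mdl [vb, xV_apply, xf, hg]

theorem vb_aut (γ : Gm K) (g : M K) : vb (Gm.aut γ g) = gV γ (vb g) := rfl

theorem exists_vb (y : V K) : ∃ g ∈ Q1 K, vb g = y :=
  ⟨⟨0, y.1, y.2.1, y.2.2.1, y.2.2.2, 0, y.1.2, y.2.2.2.2, by simp⟩, rfl, rfl⟩

theorem sq_z (hg : g.t = 0) : (g * g).z = 2 * g.z + qf (vb g) := by mdl [hg, qf, vb]

theorem isPGroup_M {p : ℕ} [Fact p.Prime] [CharP K p] : IsPGroup p (M K) := by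
  have hp : ((p : ℕ) : K) = 0 := CharP.cast_eq_zero K p
  have key : ∀ (X Y : Subgroup (M K)) (c : M K → K), (∀ g ∈ X, ∀ h ∈ X, c (g * h) = c g + c h) →
      (∀ g ∈ X, c g = 0 → g ∈ Y) → ∀ g ∈ X, g ^ p ∈ Y := fun X Y c h1 h2 g hg => by
    have h0 : c 1 = 0 := by simpa using h1 1 (one_mem _) 1 (one_mem _)
    have : ∀ n : ℕ, c (g ^ n) = n * c g := fun n => by
      induction n with
      | zero => simpa using h0
      | succ n ih => rw [pow_succ, h1 _ (pow_mem hg n) _ hg, ih]; push_cast; ring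
    exact h2 _ (pow_mem hg p) (by rw [this, hp, zero_mul])
  intro g
  have a1 := key ⊤ (Q1 K) M.t (fun _ _ _ _ => rfl) (fun _ _ h => h) g trivial
  have a2 := key (Q1 K) (Q12 K) M.u (fun _ _ _ _ => rfl) (fun _ h h' => ⟨h, h'⟩) _ a1
  have a3 := key (Q12 K) (UU K) M.s (fun _ _ _ h => by mdl [h.2]) (fun _ h h' => ⟨h.1, h.2, h'⟩) _ a2
  have a4 := key (UU K) (Z2 K) M.r (fun _ h _ h' => by mdl [h.1, h'.2.1])
    (fun _ h h' => ⟨h.1, h.2.1, h.2.2, h'⟩) _ a3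
  have a5 := key (Z2 K) (ZZ K) M.v (fun _ h _ h' => by mdl [h.1, h'.2.1])
    (fun _ h h' => ⟨h.1, h.2.1, h.2.2.1, h.2.2.2, h'⟩) _ a4
  have a6 := key (ZZ K) ⊥ M.z (fun _ h _ h' => by mdl [h.1, h.2.1, h.2.2.2.1])
    (fun _ h h' => eq_one_of_Z2 (ZZ_le_Z2 h) h.2.2.2.2 h') _ a5
  exact ⟨6, by simpa only [← pow_mul, mem_bot, pow_succ, pow_zero, one_mul] using a6⟩

theorem isPGroup_top {p : ℕ} [Fact p.Prime] [CharP K p] : IsPGroup p (⊤ : Subgroup (M K)) :=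
  isPGroup_M.to_subgroup _

end Comm

end Cfsg.Lib.D4F
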