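import Cfsg.Agent.D4F.F1

/-! Fusion systems over a Sylow subgroup of `³D₄(q)`: centralisers of elements outside
`Q1 ∪ Q2`. -/

set_option autoImplicit false

namespace Cfsg.Lib.D4F

open Cfsg Subgroup

variable {K : Type*} [Field K] [Cub K]

theorem ca_par {y g : M K} (ht : y.t ≠ 0) (hu : y.u ≠ 0) (hg : g * y = y * g) :
    ∃ l a, σ l = l ∧ σ a = a ∧ g.t = l * y.t ∧ g.u = l * y.u ∧ g.s = l * y.s + a * y.t ∧
      (l ^ 2 - l) * y.u - 2 * a = 0 := by
  obtain ⟨l, hl⟩ : ∃ l, g.u = l * y.u := ⟨g.u / y.u, by field_simp⟩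
  obtain ⟨a, ha⟩ : ∃ a, g.s = l * y.s + a * y.t := ⟨(g.s - l * y.s) / y.t, by field_simp; ring⟩
  have σl : σ l = l := mul_right_cancel₀ hu (by simpa [hl] using g.hu)
  have h1 : g.t = l * y.t := mul_left_cancel₀ hu (by
    have := congrArg M.s hg
    simp only [M.mul_s, hl] at this
    linear_combination this)
  have h2 : σ a + σ (σ a) = (l ^ 2 - l) * y.u := mul_left_cancel₀ (sh_eq_zero.not.2 ht) (by
    have := congrArg M.r hg
    simp only [M.mul_r, hl, ha, h1, cr, sh, map_add, map_mul, σl] at this ⊢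
    linear_combination -this)
  have h3 := congrArg σ h2
  have h4 := congrArg σ h3
  simp only [map_add, map_mul, map_sub, map_pow, σl, σ3, M.hu] at h3 h4
  exact ⟨l, a, σl, by linear_combination h2 - h3, h1, hl, ha, by linear_combination h2 - h3 - h4⟩

theorem ca {y g h : M K} (ht : y.t ≠ 0) (hu : y.u ≠ 0) (hg : g * y = y * g) (hh : h * y = y * h) :
    g * h = h * g := by
  obtain ⟨l, a, σl, σa, g1, g2, g3, Pa⟩ := ca_par ht hu hg
  obtain ⟨m, b, σm, σb, h1, h2, h3, Pb⟩ := ca_par ht hu hh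
  have S : b * (l ^ 2 - l) - a * (m ^ 2 - m) = 0 :=
    mul_left_cancel₀ hu (by linear_combination b * Pa - a * Pb)
  have v1 := congrArg M.v hg
  have v2 := congrArg M.v hh
  have z1 := congrArg M.z hg
  have z2 := congrArg M.z hh
  ext <;> simp only [M.mul_t, M.mul_u, M.mul_s, M.mul_r, M.mul_v, M.mul_z, g1, g2, g3, h1, h2, h3,
    tr, sh, nm, cr, map_add, map_mul, σl, σa, σm, σb, σ3, M.hu] at v1 v2 z1 z2 ⊢
  · ring
  · ring
  · ring
  · linear_combination (σ y.t * σ (σ y.t)) * (m * Pa - l * Pb)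
  · linear_combination m * v1 - l * v2 + 3 * (y.t * σ y.t * σ (σ y.t)) * S
  · linear_combination m * z1 - l * z2 - (b + m * y.u - m ^ 2 * y.u) * v1 -
      (-a - l * y.u + l ^ 2 * y.u) * v2 + (y.t * σ y.t * σ (σ y.t)) * (b + 4 * b * l + 6 * b * m -
        l * m * y.u + l * m ^ 2 * y.u + m ^ 2 * y.u - m ^ 3 * y.u) * Pa -
      (y.t * σ y.t * σ (σ y.t)) * (a + 4 * a * l + 6 * a * m) * Pb +
      (σ y.t * σ (σ y.t) * y.s + σ (σ y.t) * y.t * σ y.s + y.t * σ y.t * σ (σ y.s)) * S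

theorem ca_s {y g : M K} (hu : y.u ≠ 0) (ht : y.t ≠ 0) (hg : g * y = y * g) (hQ : g ∈ Q2 K) :
    g ∈ Q12 K ∧ ∃ l, σ l = l ∧ g.s = l * y.t := by
  obtain ⟨l, a, -, σa, g1, g2, g3, -⟩ := ca_par ht hu hg
  obtain rfl : l = 0 := (mul_eq_zero.1 (g2.symm.trans hQ)).resolve_right hu
  exact ⟨⟨by rw [g1, zero_mul], hQ⟩, a, σa, by rw [g3]; ring⟩

theorem cm_comm {g y w : M K} (hg : g * y = y * g) (h1 : g * cm y w = cm y w * g)
    (h2 : cm y w * cm g w = cm g w * cm y w) : cm g w * y = y * cm g w := by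
  have a : Commute g y := hg
  have b : Commute g (cm y w) := h1
  calc cm g w * y = y * ((y⁻¹ * g⁻¹) * w * (g * y) * (y⁻¹ * w⁻¹ * y)) := by rw [cm]; group
    _ = y * ((g⁻¹ * cm y w) * (w * g * w⁻¹) * (cm y w)⁻¹) := by
      rw [← a.inv_inv.eq, hg, cm]; group
    _ = y * (cm y w * cm g w * (cm y w)⁻¹) := by rw [b.inv_left.eq, cm_eq_1' g]; group
    _ = y * cm g w := by rw [h2, mul_inv_cancel_right]

theorem n1 {y : M K} (ht : y.t ≠ 0) (hu : y.u ≠ 0) : ∃ w ∈ Q12 K,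
    (∀ l, σ l = l → w.s ≠ l * y.t) ∧
      ∀ g, g * y = y * g → cm g w ∈ UU K ∧ cm g w * y = y * cm g w := by
  obtain ⟨s, hs, hs'⟩ := exists_perp_not (sh y.t) ht
  have hc : ec s ∈ Q12 K := ⟨rfl, rfl⟩
  obtain ⟨r, hr⟩ := exists_tr ht (l := (cm y (ec s)).v - tr (y.s * (cm y (ec s)).r) / y.u)
    (by rw [map_sub, M.hv, σ_div_fix (σ_tr _) y.hu])
  have hw : ec s * ed r ∈ Q12 K := mul_mem hc ⟨rfl, rfl⟩
  have e1 : (cm y (ec s * ed r)).r = (cm y (ec s)).r := by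
    rw [cm_r_right hw, cm_r_right hc]; mdl [ec, ed]
  have e2 : (cm y (ec s * ed r)).v = (cm y (ec s)).v - tr (y.t * r) := by mdl [cm, ec, ed]
  have hy : y * cm y (ec s * ed r) = cm y (ec s * ed r) * y := by
    rw [comm_UU_iff (cm_UU_right y hw), e1, e2, hr, cm_r_right hc]
    refine ⟨?_, by field_simp; ring⟩
    rw [mul_neg, tr_neg, tr_mul_cr_self]
    simp [ec, hs]
  refine ⟨_, hw, by simpa [ec, ed, M.mul_s] using hs', fun g hg => ⟨cm_UU_right g hw, ?_⟩⟩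
  exact cm_comm hg (ca ht hu hg hy.symm) (comm_UU (cm_UU_right g hw) (cm_UU_right y hw))

end Cfsg.Lib.D4F
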