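import Cfsg.Agent.D4F.SEa

/-! Automorphisms stabilising a chain of normal subgroups are induced by the Sylow subgroup. -/

set_option autoImplicit false

namespace Cfsg.Lib.D4F

open Cfsg Cfsg.FusionSystem Subgroup Equiv Cfsg.Lib.Fus Cfsg.Lib.Fus.Ess

variable {p : ℕ} [Fact p.Prime] {G : Type*} [Group G] [Finite G]

/-- `f` stabilises a chain of normal subgroups from `X` down to `1`. -/
inductive Cn (f : G → G) : Subgroup G → Prop
  | bot : Cn f ⊥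
  | step {X Y : Subgroup G} : Y ≤ X → (∀ x, ∀ g ∈ Y, x * g * x⁻¹ ∈ Y) → St f X Y → Cn f Y → Cn f X

open SEa

theorem inner_of_cn {F : FusionSystem (⊤ : Subgroup G)} (hS : IsPGroup p (⊤ : Subgroup G))
    (hF : F.IsSaturated p) {P : Subgroup G} (hP : ∀ x, ∀ g ∈ P, x * g * x⁻¹ ∈ P) {f : Perm G}
    (hf : PIso F f P P) (h : Cn f P) : ∃ x, ∀ g ∈ P, f g = x * g * x⁻¹ := by
  have key : ∀ X, Cn f X → (∀ x, ∀ g ∈ X, x * g * x⁻¹ ∈ X) → ∃ R, hf.aut ∈ R ∧
      (∀ t ∈ autInducedBy ⊤ P, ∀ γ ∈ R, t * γ * t⁻¹ ∈ R) ∧ Ok p R (X.subgroupOf P) := fun X h => by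
    induction h with
    | bot => exact fun _ => ⟨⊤, trivial, fun _ _ _ _ => trivial, ok_bot (bot_subgroupOf P)⟩
    | step hY h1 h2 _ ih =>
      intro hX
      obtain ⟨R, ha, hb, k⟩ := ih h1
      obtain ⟨R', m, k'⟩ := k.step (hS.to_le le_top) (comap_mono hY)
      refine ⟨R', (m _).2 ⟨ha, fun x hx => h2 x hx⟩, fun t ht γ hγ => (m _).2 ⟨hb t ht γ ((m _).1 hγ).1,
        ((m _).1 hγ).2.conj (fun x hx => ?_) fun y hy => ?_⟩, k'⟩
      · obtain ⟨a, -, ha, e⟩ := mem_autInducedBy'.1 (inv_mem ht)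
        rw [e]; exact hX a x hx
      · obtain ⟨a, -, ha, rfl⟩ := mem_autInducedBy'.1 ht
        exact h1 a y hy
  obtain ⟨R, h1, h2, k⟩ := key P h hP
  have hN : ⊤ ≤ normalizer (P : Set G) := fun x _ => mem_normalizer_of_finite (hP x)
  have hT := sat_sylIn hS hF (isFullyNormalized_of_le_normalizer (F := F) le_top hN)
  obtain ⟨x, -, e⟩ := mem_autInducedBy_pext.1 (hT.le_of_le_normalizer (U := R ⊓ F.autGroup P) inf_le_right
    ((k.pgroup (subgroupOf_self P)).to_le inf_le_left) (fun t ht => mem_normalizer_of_finite fun γ hγ =>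
      ⟨h2 t ht γ hγ.1, (F.autGroup P).mul_mem (mul_mem (hT.le ht) hγ.2) (Subgroup.inv_mem _ (hT.le ht))⟩)
    ⟨h1, hf.aut_mem⟩)
  exact ⟨x, fun g hg => (hf.pext_aut hg).symm.trans (e g hg)⟩

end Cfsg.Lib.D4F
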