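import Cfsg.Agent.Class.FusHeis
import Cfsg.Agent.Fus.EssBridge

/-!
# Fusion systems over a Sylow subgroup of `³D₄(q)` in the defining characteristic: the model

`K` is a field with an automorphism `σ` of order three, `k` its fixed field.  The group `M K` has
coordinates `(t, u, s, r, v, z)` (roots `α, β, α+β, 2α+β, 3α+β, 3α+2β`), with `u, v, z ∈ k`.
-/

set_option autoImplicit false

namespace Cfsg.Lib.D4F

open Cfsg Cfsg.FusionSystem Subgroup Equiv Cfsg.Lib.Fus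

/-- A field with an automorphism of order three. -/
class Cub (K : Type*) [Field K] where
  /-- the automorphism -/
  σ : K ≃+* K
  s3 : ∀ x, σ (σ (σ x)) = x
  ne : ∃ x, σ x ≠ x

export Cub (σ)

variable {K : Type*} [Field K] [Cub K]

@[simp] theorem σ3 (x : K) : σ (σ (σ x)) = x := Cub.s3 x

/-- The trace. -/
def tr (t : K) : K := t + σ t + σ (σ t)
/-- The adjoint `t^#`. -/
def sh (t : K) : K := σ t * σ (σ t)
/-- The norm. -/
def nm (t : K) : K := t * σ t * σ (σ t)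
/-- The cross product. -/
def cr (t s : K) : K := σ t * σ (σ s) + σ (σ t) * σ s

theorem tr_eq_1' : type_of% @tr.eq_1 := @tr.eq_1
theorem sh_eq_1' : type_of% @sh.eq_1 := @sh.eq_1
theorem nm_eq_1' : type_of% @nm.eq_1 := @nm.eq_1
theorem cr_eq_1' : type_of% @cr.eq_1 := @cr.eq_1

/-- Expands traces, norms, adjoints, cross products; extra simp lemmas (as `σ u = u`) may be
given. -/
macro "cub" " [" l:Lean.Parser.Tactic.simpLemma,* "]" : tactic =>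
  `(tactic| (simp only [tr, sh, nm, cr, map_add, map_sub, map_mul, map_neg, map_zero, map_one,
      map_pow, map_ofNat, σ3, $l,*] <;> ring))

@[simp] theorem σ_tr (t : K) : σ (tr t) = tr t := by cub []
@[simp] theorem σ_nm (t : K) : σ (nm t) = nm t := by cub []
@[simp] theorem tr_zero : tr (0 : K) = 0 := by cub []
@[simp] theorem nm_zero : nm (0 : K) = 0 := by cub []
@[simp] theorem sh_zero : sh (0 : K) = 0 := by cub []
@[simp] theorem cr_zero (t : K) : cr t 0 = 0 := by cub []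
@[simp] theorem zero_cr (t : K) : cr 0 t = 0 := by cub []

variable (K) in
/-- The fixed field. -/
def kk : Subfield K := RingHom.eqLocusField (σ : K ≃+* K).toRingHom (RingHom.id K)

theorem kk_eq_1' : type_of% @kk.eq_1 := @kk.eq_1

@[simp] theorem mem_kk {x : K} : x ∈ kk K ↔ σ x = x := Iff.rfl

variable (K) in
/-- The model group. -/
@[ext] structure M where
  /-- root `α` -/
  t : K
  /-- root `β` -/
  u : K
  /-- root `α+β` -/
  s : K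
  /-- root `2α+β` -/
  r : K
  /-- root `3α+β` -/
  v : K
  /-- root `3α+2β` -/
  z : K
  hu : σ u = u
  hv : σ v = v
  hz : σ z = z

attribute [simp] M.hu M.hv M.hz

namespace M

instance : Mul (M K) := ⟨fun g h =>
  { t := g.t + h.t
    u := g.u + h.u
    s := g.s + h.s + h.u * g.t
    r := g.r + h.r + cr g.t h.s + h.u * sh g.t
    v := g.v + h.v + tr (g.t * h.r) + tr (sh g.t * h.s) + h.u * nm g.t
    z := g.z + h.z + (h.u * tr (g.t * h.r) + 2 * h.u * tr (sh g.t * h.s) + tr (g.t * sh h.s) +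
      2 * h.u ^ 2 * nm g.t) + g.u * (h.v + tr (g.t * h.r) + tr (sh g.t * h.s) + h.u * nm g.t) +
      tr (g.r * (h.s + h.u * g.t))
    hu := by simp
    hv := by simp
    hz := by simp [map_ofNat] }⟩

instance : One (M K) := ⟨⟨0, 0, 0, 0, 0, 0, by simp, by simp, by simp⟩⟩

instance : Inv (M K) := ⟨fun g =>
  { t := -g.t
    u := -g.u
    s := -g.s + g.u * g.t
    r := -g.r + cr g.t g.s - g.u * sh g.t
    v := -g.v + tr (g.t * g.r) - tr (sh g.t * g.s) + g.u * nm g.t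
    z := -g.z + g.u * g.v + tr (g.r * g.s) - g.u * tr (g.t * g.r) + 2 * g.u * tr (sh g.t * g.s) -
      tr (g.t * sh g.s) - 2 * g.u ^ 2 * nm g.t
    hu := by simp
    hv := by simp
    hz := by simp [map_ofNat] }⟩

variable (g h : M K)

theorem mul_t : (g * h).t = g.t + h.t := rfl
theorem mul_u : (g * h).u = g.u + h.u := rfl
theorem mul_s : (g * h).s = g.s + h.s + h.u * g.t := rfl
theorem mul_r : (g * h).r = g.r + h.r + cr g.t h.s + h.u * sh g.t := rfl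
theorem mul_v : (g * h).v = g.v + h.v + tr (g.t * h.r) + tr (sh g.t * h.s) + h.u * nm g.t := rfl
theorem mul_z : (g * h).z = g.z + h.z + (h.u * tr (g.t * h.r) + 2 * h.u * tr (sh g.t * h.s) +
    tr (g.t * sh h.s) + 2 * h.u ^ 2 * nm g.t) +
    g.u * (h.v + tr (g.t * h.r) + tr (sh g.t * h.s) + h.u * nm g.t) +
    tr (g.r * (h.s + h.u * g.t)) := rfl
theorem one_t : (1 : M K).t = 0 := rfl
theorem one_u : (1 : M K).u = 0 := rfl
theorem one_s : (1 : M K).s = 0 := rfl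
theorem one_r : (1 : M K).r = 0 := rfl
theorem one_v : (1 : M K).v = 0 := rfl
theorem one_z : (1 : M K).z = 0 := rfl
theorem inv_t : g⁻¹.t = -g.t := rfl
theorem inv_u : g⁻¹.u = -g.u := rfl
theorem inv_s : g⁻¹.s = -g.s + g.u * g.t := rfl
theorem inv_r : g⁻¹.r = -g.r + cr g.t g.s - g.u * sh g.t := rfl
theorem inv_v : g⁻¹.v = -g.v + tr (g.t * g.r) - tr (sh g.t * g.s) + g.u * nm g.t := rfl
theorem inv_z : g⁻¹.z = -g.z + g.u * g.v + tr (g.r * g.s) - g.u * tr (g.t * g.r) +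
    2 * g.u * tr (sh g.t * g.s) - tr (g.t * sh g.s) - 2 * g.u ^ 2 * nm g.t := rfl

end M

/-- Computes a coordinate of a word in the model group; extra simp lemmas (as `g.t = 0`) may be
given. -/
macro "mdl" " [" l:Lean.Parser.Tactic.simpLemma,* "]" : tactic =>
  `(tactic| (simp only [M.mul_t, M.mul_u, M.mul_s, M.mul_r, M.mul_v, M.mul_z, M.one_t, M.one_u,
      M.one_s, M.one_r, M.one_v, M.one_z, M.inv_t, M.inv_u, M.inv_s, M.inv_r, M.inv_v, M.inv_z,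
      M.hu, M.hv, M.hz, tr, sh, nm, cr, map_add, map_sub, map_mul, map_neg, map_zero, map_one,
      map_pow, map_ofNat, σ3, $l,*] <;> ring))

instance : Group (M K) := Group.ofLeftAxioms
  (fun a b c => by ext <;> mdl []) (fun a => by ext <;> mdl []) (fun a => by ext <;> mdl [])

instance [Finite K] : Finite (M K) :=
  Finite.of_injective (fun g : M K => (g.t, g.u, g.s, g.r, g.v, g.z)) fun g h e => by
    simp only [Prod.mk.injEq] at e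
    exact M.ext e.1 e.2.1 e.2.2.1 e.2.2.2.1 e.2.2.2.2.1 e.2.2.2.2.2

variable (K) in
/-- The subgroup `q^{1+8}`. -/
def Q1 : Subgroup (M K) where
  carrier := {g | g.t = 0}
  one_mem' := rfl
  mul_mem' := fun {a b} (a0 : a.t = 0) (b0 : b.t = 0) => by
    show (a * b).t = 0
    mdl [a0, b0]
  inv_mem' := fun {a} (a0 : a.t = 0) => by
    show a⁻¹.t = 0
    mdl [a0]

theorem Q1_eq_1' : type_of% @Q1.eq_1 := @Q1.eq_1

theorem mem_Q1 {g : M K} : g ∈ Q1 K ↔ g.t = 0 := Iff.rfl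

variable (K) in
/-- The subgroup `q^{2+3+6}`. -/
def Q2 : Subgroup (M K) where
  carrier := {g | g.u = 0}
  one_mem' := rfl
  mul_mem' := fun {a b} (a0 : a.u = 0) (b0 : b.u = 0) => by
    show (a * b).u = 0
    mdl [a0, b0]
  inv_mem' := fun {a} (a0 : a.u = 0) => by
    show a⁻¹.u = 0
    mdl [a0]

theorem Q2_eq_1' : type_of% @Q2.eq_1 := @Q2.eq_1

theorem mem_Q2 {g : M K} : g ∈ Q2 K ↔ g.u = 0 := Iff.rfl

variable (K) in
/-- `Q1 ∩ Q2 = Z₄(S)`. -/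
def Q12 : Subgroup (M K) where
  carrier := {g | g.t = 0 ∧ g.u = 0}
  one_mem' := ⟨rfl, rfl⟩
  mul_mem' := fun {a b} ⟨a0, a1⟩ ⟨b0, b1⟩ => by
    refine ⟨?_, ?_⟩ <;> mdl [a0, a1, b0, b1]
  inv_mem' := fun {a} ⟨a0, a1⟩ => by
    refine ⟨?_, ?_⟩ <;> mdl [a0, a1]

theorem Q12_eq_1' : type_of% @Q12.eq_1 := @Q12.eq_1

theorem mem_Q12 {g : M K} : g ∈ Q12 K ↔ g.t = 0 ∧ g.u = 0 := Iff.rfl

variable (K) in
/-- `U = Z₃(S)`. -/
def UU : Subgroup (M K) where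
  carrier := {g | g.t = 0 ∧ g.u = 0 ∧ g.s = 0}
  one_mem' := ⟨rfl, rfl, rfl⟩
  mul_mem' := fun {a b} ⟨a0, a1, a2⟩ ⟨b0, b1, b2⟩ => by
    refine ⟨?_, ?_, ?_⟩ <;> mdl [a0, a1, a2, b0, b1, b2]
  inv_mem' := fun {a} ⟨a0, a1, a2⟩ => by
    refine ⟨?_, ?_, ?_⟩ <;> mdl [a0, a1, a2]

theorem UU_eq_1' : type_of% @UU.eq_1 := @UU.eq_1

theorem mem_UU {g : M K} : g ∈ UU K ↔ g.t = 0 ∧ g.u = 0 ∧ g.s = 0 := Iff.rfl

variable (K) in
/-- `Z₂(S)`. -/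
def Z2 : Subgroup (M K) where
  carrier := {g | g.t = 0 ∧ g.u = 0 ∧ g.s = 0 ∧ g.r = 0}
  one_mem' := ⟨rfl, rfl, rfl, rfl⟩
  mul_mem' := fun {a b} ⟨a0, a1, a2, a3⟩ ⟨b0, b1, b2, b3⟩ => by
    refine ⟨?_, ?_, ?_, ?_⟩ <;> mdl [a0, a1, a2, a3, b0, b1, b2, b3]
  inv_mem' := fun {a} ⟨a0, a1, a2, a3⟩ => by
    refine ⟨?_, ?_, ?_, ?_⟩ <;> mdl [a0, a1, a2, a3]

theorem Z2_eq_1' : type_of% @Z2.eq_1 := @Z2.eq_1

theorem mem_Z2 {g : M K} : g ∈ Z2 K ↔ g.t = 0 ∧ g.u = 0 ∧ g.s = 0 ∧ g.r = 0 := Iff.rfl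

variable (K) in
/-- `Z(S)`. -/
def ZZ : Subgroup (M K) where
  carrier := {g | g.t = 0 ∧ g.u = 0 ∧ g.s = 0 ∧ g.r = 0 ∧ g.v = 0}
  one_mem' := ⟨rfl, rfl, rfl, rfl, rfl⟩
  mul_mem' := fun {a b} ⟨a0, a1, a2, a3, a4⟩ ⟨b0, b1, b2, b3, b4⟩ => by
    refine ⟨?_, ?_, ?_, ?_, ?_⟩ <;> mdl [a0, a1, a2, a3, a4, b0, b1, b2, b3, b4]
  inv_mem' := fun {a} ⟨a0, a1, a2, a3, a4⟩ => by
    refine ⟨?_, ?_, ?_, ?_, ?_⟩ <;> mdl [a0, a1, a2, a3, a4]

theorem ZZ_eq_1' : type_of% @ZZ.eq_1 := @ZZ.eq_1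

theorem mem_ZZ {g : M K} : g ∈ ZZ K ↔ g.t = 0 ∧ g.u = 0 ∧ g.s = 0 ∧ g.r = 0 ∧ g.v = 0 := Iff.rfl

variable (K) in
/-- The root subgroup of `3α+β`. -/
def ZV : Subgroup (M K) where
  carrier := {g | g.t = 0 ∧ g.u = 0 ∧ g.s = 0 ∧ g.r = 0 ∧ g.z = 0}
  one_mem' := ⟨rfl, rfl, rfl, rfl, rfl⟩
  mul_mem' := fun {a b} ⟨a0, a1, a2, a3, a4⟩ ⟨b0, b1, b2, b3, b4⟩ => by
    refine ⟨?_, ?_, ?_, ?_, ?_⟩ <;> mdl [a0, a1, a2, a3, a4, b0, b1, b2, b3, b4]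
  inv_mem' := fun {a} ⟨a0, a1, a2, a3, a4⟩ => by
    refine ⟨?_, ?_, ?_, ?_, ?_⟩ <;> mdl [a0, a1, a2, a3, a4]

theorem ZV_eq_1' : type_of% @ZV.eq_1 := @ZV.eq_1

theorem mem_ZV {g : M K} : g ∈ ZV K ↔ g.t = 0 ∧ g.u = 0 ∧ g.s = 0 ∧ g.r = 0 ∧ g.z = 0 := Iff.rfl

/-- The subgroups `u = 0, a s = b t` of `Q2` (`a, b ∈ k`). -/
def XL (a b : K) : Subgroup (M K) where
  carrier := {g | g.u = 0 ∧ a * g.s = b * g.t}
  one_mem' := ⟨rfl, by mdl []⟩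
  mul_mem' := fun {g h} ⟨a0, a1⟩ ⟨b0, b1⟩ =>
    ⟨by mdl [a0, b0], by simp only [M.mul_s, M.mul_t, b0]; linear_combination a1 + b1⟩
  inv_mem' := fun {g} ⟨a0, a1⟩ =>
    ⟨by mdl [a0], by simp only [M.inv_s, M.inv_t, a0]; linear_combination -a1⟩

theorem XL_eq_1' : type_of% @XL.eq_1 := @XL.eq_1

theorem mem_XL {a b : K} {g : M K} : g ∈ XL a b ↔ g.u = 0 ∧ a * g.s = b * g.t := Iff.rfl

/-- The line `a z + b v = 0` of `Z2`, that is `[XL a b, U]`. -/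
def LL (a b : K) : Subgroup (M K) where
  carrier := {g | g ∈ Z2 K ∧ a * g.z + b * g.v = 0}
  one_mem' := ⟨one_mem _, by mdl []⟩
  mul_mem' := fun {g h} ⟨⟨a0, a1, a2, a3⟩, a4⟩ ⟨⟨b0, b1, b2, b3⟩, b4⟩ =>
    ⟨mul_mem ⟨a0, a1, a2, a3⟩ ⟨b0, b1, b2, b3⟩, by
      simp only [M.mul_z, M.mul_v, a0, a1, a3, b1, b2, b3]
      simp
      linear_combination a4 + b4⟩
  inv_mem' := fun {g} ⟨⟨a0, a1, a2, a3⟩, a4⟩ => ⟨inv_mem ⟨a0, a1, a2, a3⟩, by
      simp only [M.inv_z, M.inv_v, a0, a1, a2, a3]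
      simp
      linear_combination -a4⟩

theorem LL_eq_1' : type_of% @LL.eq_1 := @LL.eq_1

theorem mem_LL {a b : K} {g : M K} : g ∈ LL a b ↔ g ∈ Z2 K ∧ a * g.z + b * g.v = 0 := Iff.rfl

/-- Root element of `α`. -/
def ea (t : K) : M K := ⟨t, 0, 0, 0, 0, 0, by simp, by simp, by simp⟩
/-- Root element of `β`. -/
def eb (u : K) (h : σ u = u) : M K := ⟨0, u, 0, 0, 0, 0, h, by simp, by simp⟩
/-- Root element of `α+β`. -/
def ec (s : K) : M K := ⟨0, 0, s, 0, 0, 0, by simp, by simp, by simp⟩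
/-- Root element of `2α+β`. -/
def ed (r : K) : M K := ⟨0, 0, 0, r, 0, 0, by simp, by simp, by simp⟩
/-- Root element of `3α+β`. -/
def ee (v : K) (h : σ v = v) : M K := ⟨0, 0, 0, 0, v, 0, by simp, h, by simp⟩
/-- Root element of `3α+2β`. -/
def ew (z : K) (h : σ z = z) : M K := ⟨0, 0, 0, 0, 0, z, by simp, by simp, h⟩

theorem ea_eq_1' : type_of% @ea.eq_1 := @ea.eq_1
theorem eb_eq_1' : type_of% @eb.eq_1 := @eb.eq_1
theorem ec_eq_1' : type_of% @ec.eq_1 := @ec.eq_1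
theorem ed_eq_1' : type_of% @ed.eq_1 := @ed.eq_1
theorem ee_eq_1' : type_of% @ee.eq_1 := @ee.eq_1
theorem ew_eq_1' : type_of% @ew.eq_1 := @ew.eq_1

variable (K) in
/-- Diagonal and field automorphisms. -/
@[ext] structure Gm where
  /-- the weight on `α` -/
  a : K
  /-- the weight on `β` -/
  c : K
  /-- the field automorphism -/
  φ : K ≃+* K
  ha : a ≠ 0
  hc : c ≠ 0
  σc : σ c = c
  φσ : ∀ x, σ (φ x) = φ (σ x)

attribute [simp] Gm.σc Gm.φσ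

namespace Gm

instance : Mul (Gm K) := ⟨fun γ δ => ⟨γ.a * γ.φ δ.a, γ.c * γ.φ δ.c, γ.φ * δ.φ,
  by simp [γ.ha, δ.ha], by simp [γ.hc, δ.hc], by simp, fun x => by
    show σ (γ.φ (δ.φ x)) = γ.φ (δ.φ (σ x))
    simp⟩⟩

instance : One (Gm K) := ⟨⟨1, 1, 1, one_ne_zero, one_ne_zero, by simp, fun _ => rfl⟩⟩

theorem symm_σ (γ : Gm K) (x : K) : σ (γ.φ.symm x) = γ.φ.symm (σ x) :=
  γ.φ.injective (by rw [← γ.φσ]; simp)

instance : Inv (Gm K) := ⟨fun γ => ⟨γ.φ.symm γ.a⁻¹, γ.φ.symm γ.c⁻¹, γ.φ⁻¹,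
  by simp [γ.ha], by simp [γ.hc], by rw [γ.symm_σ]; simp, γ.symm_σ⟩⟩

variable (γ δ : Gm K)

theorem mul_a : (γ * δ).a = γ.a * γ.φ δ.a := rfl
theorem mul_c : (γ * δ).c = γ.c * γ.φ δ.c := rfl
theorem mul_φ : (γ * δ).φ = γ.φ * δ.φ := rfl
theorem mul_φ' (x : K) : (γ * δ).φ x = γ.φ (δ.φ x) := rfl
theorem one_a : (1 : Gm K).a = 1 := rfl
theorem one_c : (1 : Gm K).c = 1 := rfl
theorem one_φ : (1 : Gm K).φ = 1 := rfl
theorem one_φ' (x : K) : (1 : Gm K).φ x = x := rfl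
theorem inv_a : γ⁻¹.a = γ.φ.symm γ.a⁻¹ := rfl
theorem inv_c : γ⁻¹.c = γ.φ.symm γ.c⁻¹ := rfl
theorem inv_φ : γ⁻¹.φ = γ.φ⁻¹ := rfl

instance : Group (Gm K) := Group.ofLeftAxioms
  (fun a b c => Gm.ext (by simp [mul_a, mul_φ', mul_assoc]) (by simp [mul_c, mul_φ', mul_assoc])
    (mul_assoc a.φ b.φ c.φ))
  (fun a => Gm.ext (one_mul _) (one_mul _) (one_mul a.φ))
  (fun a => Gm.ext (by
      show a.φ.symm a.a⁻¹ * a.φ.symm a.a = 1
      rw [← map_mul, inv_mul_cancel₀ a.ha, map_one]) (by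
      show a.φ.symm a.c⁻¹ * a.φ.symm a.c = 1
      rw [← map_mul, inv_mul_cancel₀ a.hc, map_one]) (inv_mul_cancel a.φ))

instance [Finite K] : Finite (Gm K) :=
  Finite.of_injective (fun γ : Gm K => (γ.a, γ.c, (γ.φ : K → K))) fun g h e => by
    simp only [Prod.mk.injEq] at e
    exact Gm.ext e.1 e.2.1 (DFunLike.coe_injective e.2.2)

theorem φ_tr (x : K) : γ.φ (tr x) = tr (γ.φ x) := by simp [tr]
theorem φ_sh (x : K) : γ.φ (sh x) = sh (γ.φ x) := by simp [sh]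
theorem φ_nm (x : K) : γ.φ (nm x) = nm (γ.φ x) := by simp [nm]
theorem φ_cr (x y : K) : γ.φ (cr x y) = cr (γ.φ x) (γ.φ y) := by simp [cr]

/-- The action on the model group. -/
def act (g : M K) : M K :=
  ⟨γ.a * γ.φ g.t, γ.c * γ.φ g.u, γ.c * γ.a * γ.φ g.s, γ.c * sh γ.a * γ.φ g.r,
    γ.c * nm γ.a * γ.φ g.v, γ.c ^ 2 * nm γ.a * γ.φ g.z, by simp, by simp, by simp⟩

theorem act_eq_1' : type_of% @act.eq_1 := @act.eq_1

theorem act_mul (g h : M K) : γ.act (g * h) = γ.act g * γ.act h := by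
  ext <;> mdl [act, γ.σc, γ.φσ]

theorem mul_act (g : M K) : (γ * δ).act g = γ.act (δ.act g) := by
  ext <;> mdl [act, mul_a, mul_c, mul_φ', γ.σc, γ.φσ]

theorem one_act (g : M K) : (1 : Gm K).act g = g := by
  ext <;> mdl [act, one_a, one_c, one_φ']

/-- The automorphisms of the model group. -/
def aut : Gm K →* MulAut (M K) := MonoidHom.mk' (fun γ =>
  { toFun := γ.act
    invFun := γ⁻¹.act
    left_inv := fun g => by rw [← mul_act, inv_mul_cancel, one_act]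
    right_inv := fun g => by rw [← mul_act, mul_inv_cancel, one_act]
    map_mul' := γ.act_mul }) fun γ δ => MulEquiv.ext (mul_act γ δ)

theorem aut_eq_1' : type_of% @aut.eq_1 := @aut.eq_1

variable (g : M K)

theorem aut_t : (aut γ g).t = γ.a * γ.φ g.t := rfl
theorem aut_u : (aut γ g).u = γ.c * γ.φ g.u := rfl
theorem aut_s : (aut γ g).s = γ.c * γ.a * γ.φ g.s := rfl
theorem aut_r : (aut γ g).r = γ.c * sh γ.a * γ.φ g.r := rfl
theorem aut_v : (aut γ g).v = γ.c * nm γ.a * γ.φ g.v := rfl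
theorem aut_z : (aut γ g).z = γ.c ^ 2 * nm γ.a * γ.φ g.z := rfl

/-- The field automorphism is `k`-linear. -/
def Lin : Prop := ∀ x, σ x = x → γ.φ x = x

/-- The multiplier. -/
def μ : K := γ.c ^ 2 * nm γ.a

theorem Lin_eq_1' : type_of% @Lin.eq_1 := @Lin.eq_1
theorem μ_eq_1' : type_of% @μ.eq_1 := @μ.eq_1

end Gm

/-- `f` acts on the layers of the model group as `γ` does. -/
structure Lay (f : M K → M K) (γ : Gm K) : Prop where
  t : ∀ g, (f g).t = (Gm.aut γ g).t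
  u : ∀ g, (f g).u = (Gm.aut γ g).u
  s : ∀ g ∈ Q12 K, (f g).s = (Gm.aut γ g).s
  r : ∀ g ∈ UU K, (f g).r = (Gm.aut γ g).r
  v : ∀ g ∈ Z2 K, (f g).v = (Gm.aut γ g).v
  z : ∀ g ∈ ZZ K, (f g).z = (Gm.aut γ g).z

/-- A saturated system in normal form: `Aut_F(S) = Inn(S) H` with a `p'`-group `H ≤ Γ`. -/
structure NF (p : ℕ) (F : FusionSystem (⊤ : Subgroup (M K))) (H : Subgroup (Gm K)) : Prop where
  sat : F.IsSaturated p
  cop : (Nat.card H).Coprime p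
  aut : ∀ f : M K → M K, Mor F ⊤ f ↔ ∃ x, ∃ h ∈ H, ∀ g, f g = x * Gm.aut h g * x⁻¹

/-- On `P` the map `f` is the restriction of an element of `Inn(S) H`. -/
def Res (H : Subgroup (Gm K)) (P : Subgroup (M K)) (f : M K → M K) : Prop :=
  ∃ x, ∃ h ∈ H, ∀ g ∈ P, f g = x * Gm.aut h g * x⁻¹

/-- `Aut_F(Q1)` moves `Z2`. -/
def Mv1 (F : FusionSystem (⊤ : Subgroup (M K))) : Prop :=
  ∃ f, PIso F f (Q1 K) (Q1 K) ∧ ∃ g ∈ Z2 K, f g ∉ Z2 K

/-- `Aut_F(Q2)` moves `Z`. -/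
def Mv2 (F : FusionSystem (⊤ : Subgroup (M K))) : Prop :=
  ∃ f, PIso F f (Q2 K) (Q2 K) ∧ ∃ g ∈ ZZ K, f g ∉ ZZ K

/-- `H` contains the torus. -/
def TorLe (H : Subgroup (Gm K)) : Prop := ∀ γ : Gm K, γ.φ = 1 → γ ∈ H

/-- `H` contains the torus `T1` of the Levi factor of `Q1`. -/
def T1Le (H : Subgroup (Gm K)) : Prop := ∀ γ : Gm K, γ.φ = 1 → γ.μ = 1 → γ ∈ H

/-- `H` contains the torus `T2` of the Levi factor of `Q2`. -/
def T2Le (H : Subgroup (Gm K)) : Prop := ∀ γ : Gm K, γ.φ = 1 → γ.c * sh γ.a = 1 → γ ∈ H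

theorem Res_eq_1' : type_of% @Res.eq_1 := @Res.eq_1
theorem Mv1_eq_1' : type_of% @Mv1.eq_1 := @Mv1.eq_1
theorem Mv2_eq_1' : type_of% @Mv2.eq_1 := @Mv2.eq_1
theorem TorLe_eq_1' : type_of% @TorLe.eq_1 := @TorLe.eq_1
theorem T1Le_eq_1' : type_of% @T1Le.eq_1 := @T1Le.eq_1
theorem T2Le_eq_1' : type_of% @T2Le.eq_1 := @T2Le.eq_1

section Engine

variable {G : Type*} [Group G]

/-- `f` acts trivially on `X / Y`. -/
def St (f : G → G) (X Y : Subgroup G) : Prop := ∀ g ∈ X, g⁻¹ * f g ∈ Y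

/-- `f₁` and `f₂` stabilise a common chain from `X` down to `1`. -/
inductive Ch (f₁ f₂ : G → G) : Subgroup G → Prop
  | bot : Ch f₁ f₂ ⊥
  | step {X Y : Subgroup G} : Y ≤ X → St f₁ X Y → St f₂ X Y → Ch f₁ f₂ Y → Ch f₁ f₂ X

/-- Conjugation by `x` stabilises a chain from `X` down to `1` of `f`-invariant subgroups. -/
inductive Ci (f : G → G) (x : G) : Subgroup G → Prop
  | bot : Ci f x ⊥
  | step {X Y : Subgroup G} : Y ≤ X → (∀ g ∈ Y, f g ∈ Y) → St (cj x) X Y → Ci f x Y → Ci f x X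

/-- `|Z₀ ∩ f Z₀|` is maximal among the maps satisfying `O`. -/
def Mx (O : Perm G → Prop) (Z₀ : Subgroup G) (f : Perm G) : Prop :=
  ∀ g, O g → Nat.card ↥(Z₀ ⊓ img Z₀ g) ≤ Nat.card ↥(Z₀ ⊓ img Z₀ f)

theorem St_eq_1' : type_of% @St.eq_1 := @St.eq_1
theorem Mx_eq_1' : type_of% @Mx.eq_1 := @Mx.eq_1

/-- What is used about an essential subgroup `E`; `O f` says that `f ∈ Aut_F(E)` lies outside
the strongly `p`-embedded subgroup containing `Aut_S(E)`. -/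
structure SE (F : FusionSystem (⊤ : Subgroup G)) (E : Subgroup G) (O : Perm G → Prop) : Prop where
  cen : ∀ x, (∀ g ∈ E, x * g = g * x) → x ∈ E
  ne : E ≠ ⊤
  piso : ∀ f, O f → PIso F f E E
  ex : ∃ f, O f
  inv : ∀ f, O f → O f⁻¹
  conj : ∀ f x, O f → x ∈ normalizer (E : Set G) → x ∉ E → O (f⁻¹ * cj x * f)
  chain : ∀ f x x', O f → x ∈ normalizer (E : Set G) → x ∉ E → x' ∈ normalizer (E : Set G) →
    x' ∉ E → ¬ Ch (cj x) (f * cj x' * f⁻¹ : Perm G) E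
  ci : ∀ f x, O f → x ∈ normalizer (E : Set G) → x ∉ E → ¬ Ci f x E
  mx : ∀ Z₀ ≤ E, ∃ f, O f ∧ Mx O Z₀ f ∧ Mx O Z₀ f⁻¹
  sq : ∀ Z₀ ≤ E, ∀ f, O f → Mx O Z₀ f → ∀ x ∈ normalizer (E : Set G), x ∉ E →
    (∀ z ∈ Z₀, x * z = z * x) → ∀ y ∈ img Z₀ f, y ∉ Z₀ → y⁻¹ * (x * y * x⁻¹) ∉ Z₀ ⊓ img Z₀ f

end Engine

variable (K) in
/-- The module `Q1 / Z` with coordinates `(u, s, r, v)`. -/
abbrev V := kk K × K × K × kk K

/-- The image in `V`. -/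
def vb (g : M K) : V K := (⟨g.u, g.hu⟩, g.s, g.r, ⟨g.v, g.hv⟩)

/-- The alternating form. -/
def fm (y y' : V K) : K :=
  y.1 * y'.2.2.2 - y.2.2.2 * y'.1 - tr (y.2.1 * y'.2.2.1) + tr (y.2.2.1 * y'.2.1)

/-- The squaring map of `Q1` in characteristic two. -/
def qf (y : V K) : K := y.1 * y.2.2.2 + tr (y.2.2.1 * y.2.1)

/-- The action of `ea t`. -/
def xf (t : K) (y : V K) : V K := (y.1, y.2.1 + y.1 * t, y.2.2.1 + cr t y.2.1 + y.1 * sh t,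
  ⟨y.2.2.2 + tr (t * y.2.2.1) + tr (sh t * y.2.1) + y.1 * nm t, by
    have h1 : σ (y.1 : K) = y.1 := y.1.2
    have h2 : σ (y.2.2.2 : K) = y.2.2.2 := y.2.2.2.2
    simp [h1, h2]⟩)

/-- The action of `Γ`. -/
def gf (γ : Gm K) (y : V K) : V K :=
  (⟨γ.c * γ.φ y.1, by have h1 : σ (y.1 : K) = y.1 := y.1.2; simp [h1]⟩, γ.c * γ.a * γ.φ y.2.1,
    γ.c * sh γ.a * γ.φ y.2.2.1,
    ⟨γ.c * nm γ.a * γ.φ y.2.2.2, by have h1 : σ (y.2.2.2 : K) = y.2.2.2 := y.2.2.2.2; simp [h1]⟩)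

theorem vb_eq_1' : type_of% @vb.eq_1 := @vb.eq_1
theorem fm_eq_1' : type_of% @fm.eq_1 := @fm.eq_1
theorem qf_eq_1' : type_of% @qf.eq_1 := @qf.eq_1
theorem xf_eq_1' : type_of% @xf.eq_1 := @xf.eq_1
theorem gf_eq_1' : type_of% @gf.eq_1 := @gf.eq_1

@[simp] theorem σ_coe (c : kk K) : σ (c : K) = c := c.2

theorem V.ext' {y y' : V K} (h1 : (y.1 : K) = y'.1) (h2 : y.2.1 = y'.2.1) (h3 : y.2.2.1 = y'.2.2.1)
    (h4 : (y.2.2.2 : K) = y'.2.2.2) : y = y' :=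
  Prod.ext (Subtype.ext h1) (Prod.ext h2 (Prod.ext h3 (Subtype.ext h4)))

theorem xf_add (t t' : K) (y : V K) : xf (t + t') y = xf t (xf t' y) := by
  refine V.ext' ?_ ?_ ?_ ?_ <;> cub [xf, σ_coe]

theorem xf_zero (y : V K) : xf 0 y = y := by
  refine V.ext' ?_ ?_ ?_ ?_ <;> cub [xf, σ_coe]

theorem gf_mul (γ δ : Gm K) (y : V K) : gf (γ * δ) y = gf γ (gf δ y) := by
  refine V.ext' ?_ ?_ ?_ ?_ <;> cub [gf, Gm.mul_a, Gm.mul_c, Gm.mul_φ', γ.φσ]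

theorem gf_one (y : V K) : gf 1 y = y := by
  refine V.ext' ?_ ?_ ?_ ?_ <;> cub [gf, Gm.one_a, Gm.one_c, Gm.one_φ']

/-- The action of `ea t` as a permutation. -/
def xV (t : K) : Perm (V K) := ⟨xf t, xf (-t), fun y => by rw [← xf_add, neg_add_cancel, xf_zero],
  fun y => by rw [← xf_add, add_neg_cancel, xf_zero]⟩

/-- The action of `Γ` by permutations. -/
def gV : Gm K →* Perm (V K) := MonoidHom.mk' (fun γ => ⟨gf γ, gf γ⁻¹,
  fun y => by rw [← gf_mul, inv_mul_cancel, gf_one],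
  fun y => by rw [← gf_mul, mul_inv_cancel, gf_one]⟩) fun γ δ => Equiv.ext (gf_mul γ δ)

theorem xV_eq_1' : type_of% @xV.eq_1 := @xV.eq_1
theorem gV_eq_1' : type_of% @gV.eq_1 := @gV.eq_1

theorem xV_apply (t : K) (y : V K) : xV t y = xf t y := rfl
theorem gV_apply (γ : Gm K) (y : V K) : gV γ y = gf γ y := rfl
theorem xV_add (t t' : K) : xV (t + t') = xV t * xV t' := Equiv.ext (xf_add t t')
theorem xV_zero : xV (0 : K) = 1 := Equiv.ext xf_zero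
theorem xV_neg (t : K) : xV (-t) = (xV t)⁻¹ :=
  eq_inv_of_mul_eq_one_left (by rw [← xV_add, neg_add_cancel, xV_zero])

variable (K) in
/-- The group of the `xV t`. -/
def AV : Subgroup (Perm (V K)) where
  carrier := {g | ∃ t, g = xV t}
  one_mem' := ⟨0, xV_zero.symm⟩
  mul_mem' := by
    rintro _ _ ⟨s, rfl⟩ ⟨t, rfl⟩
    exact ⟨_, (xV_add s t).symm⟩
  inv_mem' := by
    rintro _ ⟨s, rfl⟩
    exact ⟨_, (xV_neg s).symm⟩

theorem AV_eq_1' : type_of% @AV.eq_1 := @AV.eq_1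

theorem mem_AV {g : Perm (V K)} : g ∈ AV K ↔ ∃ t, g = xV t := Iff.rfl

/-- The vector spanning `W = Z2 / Z`. -/
def w0 : V K := (0, 0, 0, 1)
/-- The vector spanning the image of the root subgroup of `β`. -/
def w1 : V K := (1, 0, 0, 0)
/-- `y` lies on the line through `w`. -/
def On (y w : V K) : Prop := ∃ c : kk K, y = c • w
/-- `g` is `k`-linear. -/
def LinV (g : V K → V K) : Prop :=
  (∀ y y', g (y + y') = g y + g y') ∧ ∀ (c : kk K) y, g (c • y) = c • g y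
/-- `g` has the multiplier `m`. -/
def Sim (g : V K → V K) (m : K) : Prop := ∀ y y', fm (g y) (g y') = m * fm y y'
/-- The involution of the torus inverting `AV`. -/
def tau : Gm K := ⟨-1, 1, 1, by simp, one_ne_zero, by simp, fun _ => rfl⟩
/-- The elements of `T1`. -/
def hb (b : K) (h : b ≠ 0) : Gm K := ⟨b / nm b, nm b, 1, by simp [nm, h], by simp [nm, h], by simp,
  fun _ => rfl⟩

theorem w0_eq_1' : type_of% @w0.eq_1 := @w0.eq_1
theorem w1_eq_1' : type_of% @w1.eq_1 := @w1.eq_1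
theorem On_eq_1' : type_of% @On.eq_1 := @On.eq_1
theorem LinV_eq_1' : type_of% @LinV.eq_1 := @LinV.eq_1
theorem Sim_eq_1' : type_of% @Sim.eq_1 := @Sim.eq_1
theorem tau_eq_1' : type_of% @tau.eq_1 := @tau.eq_1
theorem hb_eq_1' : type_of% @hb.eq_1 := @hb.eq_1

/-- The `k`-linear part of `Aut_F(Q1)` acting on `V`. -/
def XF (F : FusionSystem (⊤ : Subgroup (M K))) [Finite K] : Subgroup (Perm (V K)) where
  carrier := {φ | LinV φ ∧ ∃ f, PIso F f (Q1 K) (Q1 K) ∧ ∀ g ∈ Q1 K, vb (f g) = φ (vb g)}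
  one_mem' := ⟨⟨fun _ _ => rfl, fun _ _ => rfl⟩, 1, PIso.refl F le_top, fun _ _ => rfl⟩
  mul_mem' := by
    rintro φ ψ ⟨⟨a1, a2⟩, f, hf, e⟩ ⟨⟨b1, b2⟩, g, hg, e'⟩
    exact ⟨⟨fun y y' => by simp only [Perm.mul_apply, a1, b1], fun c y => by
      simp only [Perm.mul_apply, a2, b2]⟩, f * g, hg.trans hf, fun x hx => by
        rw [Perm.mul_apply, e _ (hg.maps hx), e' _ hx, Perm.mul_apply]⟩
  inv_mem' := by
    rintro φ ⟨⟨a1, a2⟩, f, hf, e⟩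
    exact ⟨⟨fun y y' => φ.injective (by simp [a1]), fun c y => φ.injective (by simp [a2])⟩,
      f⁻¹, hf.symm, fun x hx => by rw [Perm.eq_inv_iff_eq, ← e _ (hf.inv_maps hx), perm_apply_inv]⟩

theorem XF_eq_1' : type_of% @XF.eq_1 := @XF.eq_1

theorem mem_XF {F : FusionSystem (⊤ : Subgroup (M K))} [Finite K] {φ : Perm (V K)} : φ ∈ XF F ↔
    LinV φ ∧ ∃ f, PIso F f (Q1 K) (Q1 K) ∧ ∀ g ∈ Q1 K, vb (f g) = φ (vb g) := Iff.rfl

/-- A linear group on `V` with the TI Sylow subgroup `AV`. -/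
structure LG (p : ℕ) (X : Subgroup (Perm (V K))) (H : Subgroup (Gm K)) : Prop where
  lin : ∀ g ∈ X, LinV g
  sim : ∀ g ∈ X, ∃ m, Sim g m
  xm : ∀ t, xV t ∈ X
  hm : ∀ h ∈ H, h.Lin → gV h ∈ X
  cop : (Nat.card H).Coprime p
  stab : ∀ g ∈ X, On (g w0) w0 → ∃ t, ∃ h ∈ H, h.Lin ∧ g = xV t * gV h
  ti : ∀ g ∈ X, ∀ t t', t ≠ 0 → g * xV t * g⁻¹ = xV t' → On (g w0) w0
  sq : p = 2 → ∀ g ∈ X, qf (g w0) = 0
  mv : ∃ g ∈ X, ¬ On (g w0) w0

/-- The structure of the linear group: rank one with the torus `T1`. -/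
structure Rk1 (X : Subgroup (Perm (V K))) (H : Subgroup (Gm K)) : Prop where
  t1 : T1Le H
  orb : ∀ g ∈ X, On (g w0) w0 ∨ ∃ t, On (g w0) (xV t w1)
  sw : ∃ n ∈ X, On (n w0) w1 ∧ On (n w1) w0 ∧ ∀ b h, n * gV (hb b h) * n⁻¹ = (gV (hb b h))⁻¹

/-- A finite group `G` with the Sylow subgroup `ι (M K)` and field automorphisms `ρ`. -/
structure Rl (p : ℕ) {G : Type*} [Group G] (ι : M K →* G) (ρ : RingAut K →* MulAut G) : Prop where
  inj : Function.Injective ι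
  idx : ¬ p ∣ ι.range.index
  tor : ∀ γ : Gm K, γ.φ = 1 → ∃ h : G, ∀ g, h * ι g * h⁻¹ = ι (Gm.aut γ g)
  nrm : ∀ h : G, (∀ g, h * ι g * h⁻¹ ∈ ι.range) →
    ∃ x, ∃ γ : Gm K, γ.φ = 1 ∧ ∀ g, h * ι g * h⁻¹ = ι (x * Gm.aut γ g * x⁻¹)
  fld : ∀ γ : Gm K, γ.a = 1 → γ.c = 1 → ∀ g, ρ γ.φ (ι g) = ι (Gm.aut γ g)
  mv1 : ∃ h : G, (∀ g ∈ Q1 K, ∃ g' ∈ Q1 K, h * ι g * h⁻¹ = ι g') ∧
    ∃ g ∈ Z2 K, ∃ g' ∉ Z2 K, h * ι g * h⁻¹ = ι g'
  mv2 : ∃ h : G, (∀ g ∈ Q2 K, ∃ g' ∈ Q2 K, h * ι g * h⁻¹ = ι g') ∧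
    ∃ g ∈ ZZ K, ∃ g' ∉ ZZ K, h * ι g * h⁻¹ = ι g'

end Cfsg.Lib.D4F
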