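import Cfsg.Agent.D4F.Bas

/-! Fusion systems over a Sylow subgroup of `³D₄(q)`: further definitions. -/

set_option autoImplicit false

namespace Cfsg.Lib.D4F

open Cfsg Cfsg.FusionSystem Subgroup Equiv Cfsg.Lib.Fus

/-- A chain from `X` down to `1` of `f`-invariant subgroups stabilised by every conjugation. -/
inductive Ca {G : Type*} [Group G] (f : G → G) : Subgroup G → Prop
  | bot : Ca f ⊥
  | step {X Y : Subgroup G} : Y ≤ X → (∀ g ∈ Y, f g ∈ Y) → (∀ x, St (cj x) X Y) → Ca f Y → Ca f X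

variable {K : Type*} [Field K] [Cub K]

/-- `t` and `s` are linearly independent over `k`. -/
def Ind (t s : K) : Prop := ∀ a b, σ a = a → σ b = b → a * t + b * s = 0 → a = 0 ∧ b = 0

/-- `(a, b)` is a nonzero vector of `k²`. -/
def Dir (a b : K) : Prop := σ a = a ∧ σ b = b ∧ (a ≠ 0 ∨ b ≠ 0)

/-- `E` lies in none of the groups `XL a b`. -/
def NoX (E : Subgroup (M K)) : Prop := ∀ a b, Dir a b → ¬ E ≤ XL a b

/-- The nilpotent maps on the six dimensional module. -/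
def Nt (t : K) (v : K × K) : K × K := (0, cr t v.1)

/-- The alternating form on the six dimensional module. -/
def Bf (v w : K × K) : K := tr (v.2 * w.1) - tr (v.1 * w.2)

/-- Coordinates on `XL 1 l / Z2`. -/
def co (l : K) (g : M K) : K × K := (g.t, g.r - l * sh g.t)

/-- The word in the root elements of `D₄` representing `g`. -/
def iw {G : Type*} [Group G] (x : ℕ → K → G) (g : M K) : G :=
  x 23 (-g.z) * x 22 (-g.v) * (x 19 (-g.s) * x 16 (σ g.s) * x 15 (σ (σ g.s))) *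
    (x 17 g.r * x 20 (-σ g.r) * x 21 (-σ (σ g.r))) * x 14 g.u *
    (x 18 g.t * x 13 (σ g.t) * x 12 (σ (σ g.t)))

variable (K) in
/-- The automorphisms acting trivially on the Frattini-like quotient `S / Q12`. -/
def KL : Subgroup (MulAut (M K)) where
  carrier := {f | ∀ g, (f g).t = g.t ∧ (f g).u = g.u}
  one_mem' := fun _ => ⟨rfl, rfl⟩
  mul_mem' := fun {a b} ha hb g => ⟨(ha _).1.trans (hb g).1, (ha _).2.trans (hb g).2⟩
  inv_mem' := fun {a} ha g => by
    have := ha (a⁻¹ g)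
    rw [MulAut.apply_inv_self] at this
    exact ⟨this.1.symm, this.2.symm⟩

/-- `δ` restricts to an automorphism of `P`. -/
def AutOn (P : Subgroup (M K)) (δ : Perm (M K)) : Prop := MulOn P δ ∧ ∀ g, δ g ∈ P ↔ g ∈ P

/-- `δ` acts trivially on the layers `Q2 > U > Z2 > 1`. -/
def Tv2 (δ : M K → M K) : Prop := (∀ g ∈ Q2 K, (δ g).t = g.t ∧ (δ g).s = g.s) ∧
  (∀ g ∈ UU K, (δ g).r = g.r) ∧ ∀ g ∈ Z2 K, δ g = g

/-- The elements of `T2`. -/
def t2 (c : K) (h : c ≠ 0) (h' : σ c = c) : Gm K :=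
  ⟨c⁻¹, c ^ 2, 1, inv_ne_zero h, pow_ne_zero _ h, by simp [h'], fun _ => rfl⟩

/-- The line through `y`. -/
def ln (y : V K) : Submodule (kk K) (V K) := Submodule.span (kk K) {y}

/-- The conjugates of `W`. -/
def Pts (X : Subgroup (Perm (V K))) : Set (Submodule (kk K) (V K)) := {L | ∃ g ∈ X, L = ln (g w0)}

/-- The conjugates of `W` under the centraliser of `tau`. -/
def NP (X : Subgroup (Perm (V K))) : Set (Submodule (kk K) (V K)) :=
  {L | ∃ g ∈ X, Commute g (gV tau) ∧ L = ln (g w0)}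

/-- The class of `tau`. -/
def Cls (X : Subgroup (Perm (V K))) : Set (Perm (V K)) := {i | ∃ a ∈ X, i = a * gV tau * a⁻¹}

/-- The centraliser of `tau` moves `W`. -/
def Adj (X : Subgroup (Perm (V K))) : Prop := ∃ g ∈ X, Commute g (gV tau) ∧ ¬ On (g w0) w0

/-- The `k`-linear elements of `H` of multiplier one. -/
def HK (H : Subgroup (Gm K)) : Set (Gm K) := {γ | γ ∈ H ∧ γ.Lin ∧ γ.μ = 1}

/-- An involution `n` of `X` taking `W` to the line of `y` and inverting the elements `hb b`,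
`b ∈ J`, which lie in `H` and fix the line of `y`. -/
def Fl (X : Subgroup (Perm (V K))) (H : Subgroup (Gm K)) (y : V K) (J : Set K) : Prop :=
  ∃ n ∈ X, n * n = 1 ∧ On (n w0) y ∧ ∀ b ∈ J, ∃ h : b ≠ 0, hb b h ∈ H ∧ On (gV (hb b h) y) y ∧
    n * gV (hb b h) * n⁻¹ = (gV (hb b h))⁻¹

theorem Ind_eq_1' : type_of% @Ind.eq_1 := @Ind.eq_1
theorem Dir_eq_1' : type_of% @Dir.eq_1 := @Dir.eq_1
theorem NoX_eq_1' : type_of% @NoX.eq_1 := @NoX.eq_1
theorem Nt_eq_1' : type_of% @Nt.eq_1 := @Nt.eq_1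
theorem Bf_eq_1' : type_of% @Bf.eq_1 := @Bf.eq_1
theorem co_eq_1' : type_of% @co.eq_1 := @co.eq_1
theorem iw_eq_1' : type_of% @iw.eq_1 := @iw.eq_1
theorem KL_eq_1' : type_of% @KL.eq_1 := @KL.eq_1
theorem AutOn_eq_1' : type_of% @AutOn.eq_1 := @AutOn.eq_1
theorem Tv2_eq_1' : type_of% @Tv2.eq_1 := @Tv2.eq_1
theorem t2_eq_1' : type_of% @t2.eq_1 := @t2.eq_1
theorem ln_eq_1' : type_of% @ln.eq_1 := @ln.eq_1
theorem Pts_eq_1' : type_of% @Pts.eq_1 := @Pts.eq_1
theorem NP_eq_1' : type_of% @NP.eq_1 := @NP.eq_1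
theorem Cls_eq_1' : type_of% @Cls.eq_1 := @Cls.eq_1
theorem Adj_eq_1' : type_of% @Adj.eq_1 := @Adj.eq_1
theorem HK_eq_1' : type_of% @HK.eq_1 := @HK.eq_1
theorem Fl_eq_1' : type_of% @Fl.eq_1 := @Fl.eq_1

theorem mem_KL {f : MulAut (M K)} : f ∈ KL K ↔ ∀ g, (f g).t = g.t ∧ (f g).u = g.u := Iff.rfl

theorem St_cj {x : M K} {X Y : Subgroup (M K)} : St (cj x) X Y ↔ ∀ g ∈ X, cm g x ∈ Y := Iff.rfl

theorem _root_.Cfsg.Lib.Fus.PIso.autOn {F : FusionSystem (⊤ : Subgroup (M K))}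
    {P : Subgroup (M K)} {f : Perm (M K)} (h : PIso F f P P) : AutOn P f := ⟨h.mor.mulOn, h.mem⟩

theorem _root_.Cfsg.Lib.Fus.PIso.map_cm {F : FusionSystem (⊤ : Subgroup (M K))}
    {P Q : Subgroup (M K)} {f : Perm (M K)} (h : PIso F f P Q) {g x : M K} (hg : g ∈ P)
    (hx : x ∈ P) : f (cm g x) = cm (f g) (f x) := by
  rw [cm, cm, h.map_mul (inv_mem hg) (mul_mem (mul_mem hx hg) (inv_mem hx)), h.map_conj hx hg,
    h.mor.map_inv hg]

theorem mem_normalizer_of_cm [Finite K] {E : Subgroup (M K)} {x : M K}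
    (h : ∀ g ∈ E, cm g x ∈ E) : x ∈ normalizer (E : Set (M K)) :=
  mem_normalizer_fintype fun g hg => by
    have := mul_mem hg (h g hg)
    rwa [cm, mul_inv_cancel_left] at this

theorem NF.mor_of_res {p : ℕ} {F : FusionSystem (⊤ : Subgroup (M K))} {H : Subgroup (Gm K)}
    (h : NF p F H) {P : Subgroup (M K)} {f : M K → M K} (r : Res H P f) : Mor F P f := by
  obtain ⟨x, γ, hγ, e⟩ := r
  exact (((h.aut fun g => x * Gm.aut γ g * x⁻¹).2 ⟨x, γ, hγ, fun _ => rfl⟩).restrict le_top).congr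
    fun g hg => (e g hg).symm

end Cfsg.Lib.D4F
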