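import Cfsg.Agent.D4F.F4

/-! Coordinates on `XL 1 l / Z2`. -/

set_option autoImplicit false

namespace Cfsg.Lib.D4F

open Cfsg Cfsg.FusionSystem Subgroup Equiv Cfsg.Lib.Fus

variable {K : Type*} [Field K] [Cub K]

theorem E2c.s_eq {l : K} {g : M K} (hg : g ∈ XL 1 l) : g.s = l * g.t := (one_mul _).symm.trans hg.2

open E2c

theorem co_mul {l : K} (hl : σ l = l) {g h : M K} (hg : g ∈ XL 1 l) (hh : h ∈ XL 1 l) :
    co l (g * h) = co l g + co l h := by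
  refine Prod.ext rfl ?_
  mdl [co, Prod.snd_add, hh.1, s_eq hh, hl]

theorem co_eq_zero {l : K} {g : M K} (hg : g ∈ XL 1 l) : co l g = 0 ↔ g ∈ Z2 K := by
  rw [co, Prod.mk_eq_zero]
  exact ⟨fun h => ⟨h.1, hg.1, by rw [s_eq hg, h.1, mul_zero], by simpa [h.1] using h.2⟩,
    fun h => ⟨h.1, by simp [h.1, h.2.2.2]⟩⟩

theorem exists_co {l : K} (v : K × K) : ∃ g ∈ XL 1 l, co l g = v :=
  ⟨⟨v.1, 0, l * v.1, v.2 + l * sh v.1, 0, 0, by simp, by simp, by simp⟩, ⟨rfl, one_mul _⟩,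
    Prod.ext rfl (add_sub_cancel_right _ _)⟩

theorem co_conj {l : K} (hl : σ l = l) {g x : M K} (hg : g ∈ XL 1 l) (hx : x ∈ Q2 K) :
    x * g * x⁻¹ ∈ XL 1 l ∧ co l (x * g * x⁻¹) = co l g + Nt (l * x.t - x.s) (co l g) := by
  refine ⟨⟨?_, ?_⟩, Prod.ext ?_ ?_⟩ <;>
    mdl [co, Nt, Prod.fst_add, Prod.snd_add, hg.1, s_eq hg, mem_Q2.1 hx, hl]

theorem cm_v_co {l : K} (hl : σ l = l) {g x : M K} (hg : g ∈ XL 1 l) (hx : x ∈ XL 1 l) :
    (cm g x).v = Bf (co l g) (co l x) := by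
  mdl [cm, co, Bf, hg.1, s_eq hg, hx.1, s_eq hx, hl]

theorem E2c.dir {l : K} (hl : σ l = l) : Dir 1 l := ⟨map_one _, hl, .inl one_ne_zero⟩

theorem E2c.LL_ext {l : K} {g h : M K} (hg : g ∈ LL 1 l) (hh : h ∈ LL 1 l) (e : g.v = h.v) :
    g = h :=
  Z2_ext hg.1 hh.1 e (by linear_combination hg.2 - hh.2 - l * e)

theorem E2c.autOn_inv {P : Subgroup (M K)} {f : Perm (M K)} (hf : AutOn P f) : AutOn P f⁻¹ :=
  have h : ∀ g, f⁻¹ g ∈ P ↔ g ∈ P := fun g => by rw [← hf.2, perm_apply_inv]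
  ⟨fun x hx y hy => f.injective (by
    rw [hf.1 _ ((h x).2 hx) _ ((h y).2 hy), perm_apply_inv, perm_apply_inv, perm_apply_inv]), h⟩

theorem E2c.map_cm {P : Subgroup (M K)} {f : M K → M K} (hf : MulOn P f) {g x : M K}
    (hg : g ∈ P) (hx : x ∈ P) : f (cm g x) = cm (f g) (f x) := by
  rw [cm, cm, hf.map_mul (inv_mem hg) (mul_mem (mul_mem hx hg) (inv_mem hx)), hf.map_conj hx hg,
    hf.map_inv hg]

theorem E2c.eq_zero_of_Bf {v : K × K} (h : ∀ w, Bf v w = 0) : v = 0 :=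
  Prod.ext (eq_zero_of_tr fun s => by simpa [Bf] using h (0, s))
    (eq_zero_of_tr fun s => by simpa [Bf] using h (s, 0))

theorem E2c.map_Z2 {l : K} (hl : σ l = l) {f : Perm (M K)} (hf : AutOn (XL 1 l) f) :
    ∀ g ∈ Z2 K, f g ∈ Z2 K := fun g hg => by
  have hX := UU_le_XL 1 l (Z2_le_UU hg)
  refine (co_eq_zero ((hf.2 g).2 hX)).1 (eq_zero_of_Bf fun w => ?_)
  obtain ⟨x, hx, rfl⟩ := exists_co (l := l) w
  obtain ⟨x, rfl⟩ := f.surjective x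
  rw [← cm_v_co hl ((hf.2 g).2 hX) hx, ← map_cm hf.1 hX ((hf.2 x).1 hx),
    cm_eq_one.2 (comm_Z2 hg ((hf.2 x).1 hx).1), hf.1.map_one, M.one_v]

theorem E2c.wd {l : K} (hl : σ l = l) {f : Perm (M K)} (hf : AutOn (XL 1 l) f) {g h : M K}
    (hg : g ∈ XL 1 l) (hh : h ∈ XL 1 l) (e : co l g = co l h) : co l (f g) = co l (f h) := by
  have m := mul_mem (inv_mem hg) hh
  have h1 := co_mul hl hg m
  rw [mul_inv_cancel_left, ← e, left_eq_add, co_eq_zero m] at h1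
  rw [← mul_inv_cancel_left g h, hf.1 _ hg _ m, co_mul hl ((hf.2 _).2 hg) ((hf.2 _).2 m),
    (co_eq_zero ((hf.2 _).2 m)).2 (map_Z2 hl hf _ h1), add_zero]

variable [Finite K]

theorem normalizer_XL {l : K} (hl : σ l = l) {x : M K} :
    x ∈ normalizer (XL 1 l : Set (M K)) ↔ x ∈ Q2 K := by
  refine ⟨fun h => ?_, fun h => mem_normalizer_of_finite fun g hg => (co_conj hl hg h).1⟩
  obtain ⟨g, hg, e⟩ := exists_co (l := l) (1, 0)
  have := s_eq (show cm g x ∈ XL 1 l from mul_mem (inv_mem hg) (conj_mem_of_mem_normalizer h hg))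
  rw [cm_s, cm_t, hg.1, show g.t = 1 from congrArg Prod.fst e] at this
  exact mem_Q2.2 (by linear_combination -this)

theorem e2c {l : K} (hl : σ l = l) {f : Perm (M K)} (hf : AutOn (XL 1 l) f) :
    (∀ g ∈ Z2 K, f g ∈ Z2 K) ∧ (∀ g ∈ LL 1 l, f g ∈ LL 1 l) ∧ ∃ φ : (K × K) ≃+ (K × K),
      (∀ g ∈ XL 1 l, co l (f g) = φ (co l g)) ∧ ∃ θ : K → K, ∀ v w, Bf (φ v) (φ w) = θ (Bf v w) := by
  choose c hc e using exists_co (l := l)
  have hi := autOn_inv hf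
  refine ⟨map_Z2 hl hf, fun g hg => ?_, ⟨⟨fun v => co l (f (c v)), fun v => co l (f⁻¹ (c v)),
    fun v => ?_, fun v => ?_⟩, fun v w => ?_⟩, fun g hg => wd hl hf hg (hc _) (e _).symm,
    fun a => (f (Classical.epsilon fun w => w ∈ LL 1 l ∧ w.v = a)).v, fun v w => ?_⟩
  · obtain ⟨d, hd, rfl⟩ := exists_cm_LL (dir hl) (hc (1, 0))
      (fun k => one_ne_zero ((congrArg Prod.fst (e (1, 0))).symm.trans k.1)) hg
    rw [map_cm hf.1 (UU_le_XL 1 l hd) (hc _)]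
    exact cm_XL (dir hl) ((hf.2 _).2 (UU_le_XL 1 l hd)) ((hf.2 _).2 (hc _))
  · exact (wd hl hi (hc _) ((hf.2 _).2 (hc v)) (e _)).trans (by rw [perm_inv_apply, e])
  · exact (wd hl hf (hc _) ((hi.2 _).2 (hc v)) (e _)).trans (by rw [perm_apply_inv, e])
  · exact (wd hl hf (hc _) (mul_mem (hc v) (hc w)) (by rw [co_mul hl (hc v) (hc w), e, e, e])).trans
      (by rw [hf.1 _ (hc v) _ (hc w)]; exact co_mul hl ((hf.2 _).2 (hc v)) ((hf.2 _).2 (hc w)))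
  · have m := cm_XL (dir hl) (hc v) (hc w)
    have k := cm_v_co hl (hc v) (hc w)
    rw [e, e] at k
    have := Classical.epsilon_spec (p := fun u => u ∈ LL 1 l ∧ u.v = Bf v w) ⟨_, m, k⟩
    refine (cm_v_co hl ((hf.2 _).2 (hc v)) ((hf.2 _).2 (hc w))).symm.trans ?_
    rw [← map_cm hf.1 (hc v) (hc w), ← LL_ext this.1 m (this.2.trans k.symm)]

end Cfsg.Lib.D4F
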