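import Cfsg.Agent.D4F.E2c

/-! A common chain for two nilpotent maps in characteristic two. -/

set_option autoImplicit false

namespace Cfsg.Lib.D4F

variable {K : Type*} [Field K] [Cub K]

theorem LP.det (h2 : (2 : K) = 0) {e t a b : K} (he : e ≠ 0) (ht : tr (e * t) = 0)
    (ha : tr (e * a) = 0) (hb : tr (e * b) = 0) : tr (cr t a * b) = 0 := by
  have : e * tr (cr t a * b) = cr a b * tr (e * t) + cr t b * tr (e * a) + cr t a * tr (e * b) -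
      2 * (σ e * (σ t * σ a * σ (σ b) + σ t * σ (σ a) * σ b + σ (σ t) * σ a * σ b) + σ (σ e) *
        (σ (σ t) * σ a * σ (σ b) + σ (σ t) * σ (σ a) * σ b + σ t * σ (σ a) * σ (σ b))) := by cub []
  rw [ht, ha, hb, h2] at this
  exact (mul_eq_zero.1 (this.trans (by ring))).resolve_left he

theorem LP.adj (h2 : (2 : K) = 0) (t : K) (v w : K × K) : Bf (Nt t v) w = Bf v (Nt t w) := by
  have : Bf (Nt t v) w = Bf v (Nt t w) + 2 * tr (v.1 * cr t w.1) := by cub [Bf, Nt]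
  rw [this, h2, zero_mul, add_zero]

theorem lemP [Finite K] (h2 : (2 : K) = 0) (φ : (K × K) ≃+ (K × K)) (θ : K → K)
    (hθ : ∀ v w, Bf (φ v) (φ w) = θ (Bf v w)) {t' : K} (ht' : t' ≠ 0) :
    ∃ t, t ≠ 0 ∧ ∃ A₁ A₂ A₃ : AddSubgroup (K × K), A₂ ≤ A₁ ∧ A₃ ≤ A₂ ∧
      ∀ N : K × K → K × K, (N = Nt t ∨ N = fun v => φ (Nt t' (φ.symm v))) →
        (∀ v, N v ∈ A₁) ∧ (∀ v ∈ A₁, N v ∈ A₂) ∧ (∀ v ∈ A₂, N v ∈ A₃) ∧ ∀ v ∈ A₃, N v = 0 := by
  let nt : K → (K × K →+ K × K) := fun t => AddMonoidHom.mk' (Nt t) fun v w =>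
    Prod.ext (add_zero _).symm (cr_add t v.1 w.1)
  have sq : ∀ t v, nt t (nt t v) = 0 := fun t v => Prod.ext rfl (cr_zero t)
  let n := φ.toAddMonoidHom.comp ((nt t').comp φ.symm.toAddMonoidHom)
  have en : ∀ v, n v = φ (Nt t' (φ.symm v)) := fun _ => rfl
  have sq' : ∀ v, n (n v) = 0 := fun v => by
    rw [en, en, φ.symm_apply_apply]
    exact (congrArg φ (sq t' _)).trans (map_zero φ)
  have adj : ∀ v w, Bf (n v) w = Bf v (n w) := fun v w => by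
    rw [en, en, ← φ.apply_symm_apply w, hθ, LP.adj h2, ← hθ, φ.apply_symm_apply, φ.symm_apply_apply]
  obtain ⟨e, he, e0⟩ : ∃ e, e ≠ 0 ∧ n (0, e) = 0 := by
    by_contra! k
    obtain ⟨r, hr⟩ := exists_tr ht' (map_one σ)
    obtain ⟨e, rfl⟩ := Finite.injective_iff_surjective.1 ((injective_iff_map_eq_zero
      ((AddMonoidHom.snd K K).comp ((nt t').comp (φ.symm.toAddMonoidHom.comp (.inr K K))))).2
        fun e h => by_contra fun ne => k e ne (φ.map_eq_zero_iff.2 (Prod.ext rfl h))) r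
    exact zero_ne_one (((tr_mul_cr_self t' _).trans (by rw [h2, zero_mul])).symm.trans hr)
  have pe : ∀ v, tr (e * (n v).1) = 0 := fun v => by simpa [e0, Bf] using (adj (0, e) v).symm
  obtain ⟨t, ht, et, -⟩ := exists_perp e e
  have z : ∀ v, n (nt t (n v)) = 0 := fun v => E2c.eq_zero_of_Bf fun w => by
    rw [adj]
    simpa [Bf, nt, Nt] using LP.det h2 he et (pe v) (pe w)
  refine ⟨t, ht, (nt t).range ⊔ n.range, n.range ⊔ (nt t).range ⊓ n.ker, (nt t).range ⊓ n.ker,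
    sup_le le_sup_right (inf_le_left.trans le_sup_left), le_sup_right, ?_⟩
  rintro _ (rfl | rfl)
  · refine ⟨fun v => AddSubgroup.mem_sup_left ⟨v, rfl⟩, fun v hv => ?_, fun v hv => ?_, ?_⟩
    · obtain ⟨_, ⟨a, rfl⟩, _, ⟨b, rfl⟩, rfl⟩ := AddSubgroup.mem_sup.1 hv
      refine AddSubgroup.mem_sup_right ⟨⟨_, rfl⟩, show n (nt t _) = 0 from ?_⟩
      rw [map_add, sq, zero_add, z]
    · obtain ⟨_, ⟨a, rfl⟩, _, ⟨⟨b, rfl⟩, -⟩, rfl⟩ := AddSubgroup.mem_sup.1 hv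
      refine ⟨⟨_, rfl⟩, show n (nt t _) = 0 from ?_⟩
      rw [map_add, sq, add_zero, z]
    · rintro _ ⟨⟨a, rfl⟩, -⟩
      exact sq t a
  · refine ⟨fun v => AddSubgroup.mem_sup_right ⟨v, rfl⟩, fun v _ => AddSubgroup.mem_sup_left ⟨v, rfl⟩,
      fun v hv => ?_, fun v hv => hv.2⟩
    obtain ⟨_, ⟨a, rfl⟩, b, hb, rfl⟩ := AddSubgroup.mem_sup.1 hv
    show n _ ∈ _
    rw [map_add, sq', show n b = 0 from hb.2, add_zero]
    exact zero_mem _

end Cfsg.Lib.D4F
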