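import Cfsg.Agent.D4F.E2c
import Cfsg.Agent.D4F.LP

/-! The group `XL 1 l` is not essential for `p = 2`. -/

set_option autoImplicit false

namespace Cfsg.Lib.D4F

open Cfsg Cfsg.FusionSystem Subgroup Equiv Cfsg.Lib.Fus

variable {K : Type*} [Field K] [Cub K] {p : ℕ}
  {F : FusionSystem (⊤ : Subgroup (M K))} {O : Perm (M K) → Prop}

theorem E2e.co_inv_mul {l : K} (hl : σ l = l) {g h : M K} (hg : g ∈ XL 1 l) (hh : h ∈ XL 1 l)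
    {d : K × K} (e : co l h = co l g + d) : co l (g⁻¹ * h) = d := by
  have := co_mul hl hg (mul_mem (Subgroup.inv_mem _ hg) hh)
  rw [mul_inv_cancel_left, e] at this
  exact (add_left_cancel this).symm

/-- The preimage of an additive subgroup. -/
def E2e.pre {l : K} (hl : σ l = l) (A : AddSubgroup (K × K)) : Subgroup (M K) where
  carrier := {g | g ∈ XL 1 l ∧ co l g ∈ A}
  one_mem' := ⟨one_mem _, by rw [(co_eq_zero (one_mem _)).2 (one_mem _)]; exact zero_mem _⟩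
  mul_mem' := fun ha hb => ⟨mul_mem ha.1 hb.1, by rw [co_mul hl ha.1 hb.1]; exact add_mem ha.2 hb.2⟩
  inv_mem' := fun {g} ha => ⟨Subgroup.inv_mem _ ha.1, by
    have := E2e.co_inv_mul hl ha.1 (one_mem _) (d := -co l g)
      (by rw [(co_eq_zero (one_mem _)).2 (one_mem _), add_neg_cancel])
    rw [mul_one] at this
    exact this ▸ neg_mem ha.2⟩

theorem E2e.pre_eq_1' : type_of% @E2e.pre.eq_1 := @E2e.pre.eq_1

open E2e in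
theorem E2e.ch {l : K} (hl : σ l = l) {f₁ f₂ : M K → M K} {N₁ N₂ : K × K → K × K}
    (e : ∀ f N, (f = f₁ ∧ N = N₁ ∨ f = f₂ ∧ N = N₂) → (∀ g ∈ XL 1 l, f g ∈ XL 1 l ∧
      co l (f g) = co l g + N (co l g)) ∧ ∀ g ∈ Z2 K, f g = g) {A₁ A₂ A₃ : AddSubgroup (K × K)}
    (h₁ : A₂ ≤ A₁) (h₂ : A₃ ≤ A₂) (h : ∀ N, (N = N₁ ∨ N = N₂) → (∀ v, N v ∈ A₁) ∧
      (∀ v ∈ A₁, N v ∈ A₂) ∧ (∀ v ∈ A₂, N v ∈ A₃) ∧ ∀ v ∈ A₃, N v = 0) : Ch f₁ f₂ (XL 1 l) := by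
  have k : ∀ f N, (f = f₁ ∧ N = N₁ ∨ f = f₂ ∧ N = N₂) → St f (XL 1 l) (pre hl A₁) ∧
      St f (pre hl A₁) (pre hl A₂) ∧ St f (pre hl A₂) (pre hl A₃) ∧ St f (pre hl A₃) (Z2 K) ∧
      St f (Z2 K) ⊥ := fun f N hf => by
    obtain ⟨e1, e2⟩ := e f N hf
    obtain ⟨n1, n2, n3, n4⟩ := h N (hf.imp And.right And.right)
    have m : ∀ g ∈ XL 1 l, g⁻¹ * f g ∈ XL 1 l := fun g hg =>
      mul_mem (Subgroup.inv_mem _ hg) (e1 g hg).1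
    have c : ∀ g ∈ XL 1 l, co l (g⁻¹ * f g) = N (co l g) := fun g hg =>
      co_inv_mul hl hg (e1 g hg).1 (e1 g hg).2
    exact ⟨fun g hg => ⟨m g hg, c g hg ▸ n1 _⟩, fun g hg => ⟨m g hg.1, c g hg.1 ▸ n2 _ hg.2⟩,
      fun g hg => ⟨m g hg.1, c g hg.1 ▸ n3 _ hg.2⟩,
      fun g hg => (co_eq_zero (m g hg.1)).1 ((c g hg.1).trans (n4 _ hg.2)),
      fun g hg => by rw [e2 g hg, inv_mul_cancel]; exact one_mem _⟩
  obtain ⟨a1, a2, a3, a4, a5⟩ := k _ _ (.inl ⟨rfl, rfl⟩)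
  obtain ⟨b1, b2, b3, b4, b5⟩ := k _ _ (.inr ⟨rfl, rfl⟩)
  refine .step ?_ a1 b1 (.step ?_ a2 b2 (.step ?_ a3 b3 (.step (fun _ h => ?_) a4 b4
    (.step bot_le a5 b5 .bot))))
  exacts [fun _ h => h.1, fun _ h => ⟨h.1, h₁ h.2⟩, fun _ h => ⟨h.1, h₂ h.2⟩,
    have m := UU_le_XL 1 l (Z2_le_UU h)
    ⟨m, (co_eq_zero m).2 h ▸ zero_mem _⟩]

variable [Finite K] [CharP K p]

theorem e2e (hp : p = 2) {l : K} (hl : σ l = l) : ¬ SE F (XL 1 l) O := fun h => by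
  subst hp
  obtain ⟨f, hO⟩ := h.ex
  have hf := h.piso f hO
  obtain ⟨-, -, φ, hφ, θ, hθ⟩ := e2c hl hf.autOn
  obtain ⟨t, ht, A₁, A₂, A₃, h₁, h₂, hA⟩ :=
    lemP (by exact_mod_cast CharP.cast_eq_zero K 2) φ θ hθ one_ne_zero
  have q : ∀ s : K, ec s ∈ Q2 K := fun _ => rfl
  have n : ∀ s : K, s ≠ 0 → ec (-s) ∉ XL 1 l := fun s hs h => hs (by simpa [ec] using h.2)
  have c : ∀ s : K, ∀ g ∈ XL 1 l, ec (-s) * g * (ec (-s))⁻¹ ∈ XL 1 l ∧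
      co l (ec (-s) * g * (ec (-s))⁻¹) = co l g + Nt s (co l g) := fun s g hg => by
    simpa [ec] using co_conj hl hg (q (-s))
  have z : ∀ s : K, ∀ g ∈ Z2 K, ec s * g * (ec s)⁻¹ = g := fun s g hg =>
    mul_inv_eq_iff_eq_mul.2 (comm_Z2 hg (q s))
  refine h.chain f _ _ hO ((normalizer_XL hl).2 (q (-t))) (n t ht) ((normalizer_XL hl).2 (q (-1)))
    (n 1 one_ne_zero) (E2e.ch hl ?_ h₁ h₂ hA)
  rintro _ _ (⟨rfl, rfl⟩ | ⟨rfl, rfl⟩)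
  · exact ⟨c t, z _⟩
  refine ⟨fun g hg => ?_, fun g hg => ?_⟩
  · obtain ⟨m, e⟩ := c 1 _ (hf.inv_maps hg)
    have e1 := hφ _ (hf.inv_maps hg)
    rw [perm_apply_inv] at e1
    exact ⟨hf.maps m, (hφ _ m).trans (by simp only [e, map_add, e1, φ.symm_apply_apply])⟩
  · show f (ec (-1) * f⁻¹ g * (ec (-1))⁻¹) = g
    rw [z _ _ ((e2c hl hf.symm.autOn).1 g hg), perm_apply_inv]

end Cfsg.Lib.D4F
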