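import Cfsg.Agent.D4F.Defs2

/-! A group with a quadratic Sylow subgroup acting on a spread contains `-1`. -/

set_option autoImplicit false

namespace Cfsg.Lib.D4F

open Cfsg Subgroup Equiv Cfsg.Lib.Fus

variable {G : Type*} [Group G] [Finite G] {p : ℕ} [Fact p.Prime] {A : Type*} [AddCommGroup A]

theorem LQ.ti {ρ : G →* Perm (A × A)} (hadd : ∀ g u v, ρ g (u + v) = ρ g u + ρ g v)
    {T : Subgroup G} (hT : SylIn p T ⊤) (h1 : ∀ s ∈ T, ∀ y, ρ s (0, y) = (0, y))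
    (h2 : ∀ x, x ≠ 0 → ∀ d, ∃ s ∈ T, ∀ y, ρ s (x, y) = (x, y + d)) {g : G} {y₀ y₁ : A}
    (h3 : (ρ g (0, y₀)).1 ≠ 0) (h4 : (ρ g (0, y₁)).1 = 0) : y₁ = 0 := by
  let B : G → (A × A →+ A × A) := fun g => AddMonoidHom.mk' (ρ g) (hadd g)
  have zs : ∀ g (n : ℤ) v, ρ g (n • v) = n • ρ g v := fun g => map_zsmul (B g)
  set u := ρ g (0, y₀) with hu
  set d := ρ g (0, y₁) with hd
  obtain ⟨s, hs, es⟩ := h2 _ h3 d.2
  let H : Subgroup G :=
    { carrier := {h | ρ h d = d ∧ ∃ n : ℤ, ρ h u = u + n • d}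
      one_mem' := ⟨by simp, 0, by simp⟩
      mul_mem' := fun {a b} ⟨a1, m, a2⟩ ⟨b1, n, b2⟩ => ⟨by rw [map_mul, Perm.mul_apply, b1, a1],
        m + n, by rw [map_mul, Perm.mul_apply, b2, hadd, zs, a1, a2, add_smul, add_assoc]⟩
      inv_mem' := fun {a} ⟨a1, m, a2⟩ => ⟨by rw [map_inv, Perm.inv_eq_iff_eq, a1], -m, by
        rw [map_inv, Perm.inv_eq_iff_eq, hadd, zs, a1, a2, neg_smul, add_neg_cancel_right]⟩ }
  have fx : ∀ r ∈ T.map (MulAut.conj g).toMonoidHom, ∀ y, ρ r (ρ g (0, y)) = ρ g (0, y) := by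
    rintro _ ⟨r, hr, rfl⟩ y
    show ρ (g * r * g⁻¹) _ = _
    rw [← Perm.mul_apply, ← map_mul, inv_mul_cancel_right, map_mul, Perm.mul_apply, h1 r hr]
  have sH : s ∈ H := ⟨by rw [← Prod.mk.eta (p := d), h4, h1 s hs], 1, by
    rw [← Prod.mk.eta (p := u), es]
    exact Prod.ext (by simp [h4]) (by simp)⟩
  obtain ⟨h, hh, hm⟩ := ((hT.conj (g := g) (le_normalizer (mem_top g))).mono (B := H)
    (fun r hr => ⟨fx r hr _, 0, (fx r hr _).trans (by simp [hu])⟩) le_top).exists_conj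
    (zpowers_le_of_mem sH) (hT.pgroup.to_le (zpowers_le_of_mem hs))
  have e1 := fx _ (hm s (mem_zpowers s)) y₀
  obtain ⟨-, n, e2⟩ := H.inv_mem hh
  rw [← hu, mul_assoc, map_mul, Perm.mul_apply, ← Perm.eq_inv_iff_eq, ← map_inv, map_mul,
    Perm.mul_apply, ← Prod.mk.eta (p := ρ h⁻¹ u), show (ρ h⁻¹ u).1 = u.1 by rw [e2]; simp [h4], es,
    Prod.mk.injEq, add_eq_left] at e1
  exact congrArg Prod.snd ((ρ g).injective ((Prod.ext h4 e1.2 : d = 0).trans (map_zero (B g)).symm))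

theorem lemQ [Finite A] (ρ : G →* Perm (A × A))
    (hadd : ∀ g u v, ρ g (u + v) = ρ g u + ρ g v) {T : Subgroup G} (hT : SylIn p T ⊤)
    (h1 : ∀ s ∈ T, ∃ N : A → A, (∀ x y, ρ s (x, y) = (x, y + N x)) ∧
      ((∀ x, N x = 0) ∨ ∀ x, N x = 0 → x = 0))
    (h2 : ∀ x, x ≠ 0 → ∀ d, ∃ s ∈ T, ∀ y, ρ s (x, y) = (x, y + d))
    (h3 : ∃ g y, (ρ g (0, y)).1 ≠ 0) : ∃ ν ∈ normalClosure (T : Set G), ∀ v, ρ ν v = -v := by
  let B : G → (A × A →+ A × A) := fun g => AddMonoidHom.mk' (ρ g) (hadd g)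
  have z : ∀ g, ρ g 0 = 0 := fun g => map_zero (B g)
  have ng : ∀ g v, ρ g (-v) = -ρ g v := fun g => map_neg (B g)
  have fx : ∀ s ∈ T, ∀ y, ρ s (0, y) = (0, y) := fun s hs y => by
    obtain ⟨N, e, -⟩ := h1 s hs
    rw [e, show N 0 = 0 by simpa using congrArg Prod.snd ((e 0 0).symm.trans (z s)), add_zero]
  have ti := fun g y₀ y₁ => LQ.ti hadd hT fx h2 (g := g) (y₀ := y₀) (y₁ := y₁)
  have mul : ∀ a b v, ρ (a * b) v = ρ a (ρ b v) := fun a b v => by rw [map_mul, Perm.mul_apply]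
  have inv : ∀ a v, ρ a (ρ a⁻¹ v) = v := fun a v => by rw [← mul, mul_inv_cancel, map_one]; rfl
  have inv' : ∀ a v, ρ a⁻¹ (ρ a v) = v := fun a v => by rw [← mul, inv_mul_cancel, map_one]; rfl
  obtain ⟨g, y₀, h0⟩ := h3
  set x := ρ g (0, y₀) with hx
  have su : ∀ a, ∃ y, (ρ g (0, y)).1 = a := Finite.injective_iff_surjective.1
    ((injective_iff_map_eq_zero ((AddMonoidHom.fst A A).comp ((B g).comp (.inr A A)))).2
      fun y hy => ti g y₀ y h0 hy)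
  obtain ⟨b, hb, eb⟩ := h2 _ h0 x.1
  obtain ⟨N, eN, hN⟩ := h1 b hb
  replace hN := hN.resolve_left fun k => h0 (by simpa [eN, k, eq_comm] using eb 0)
  have sN : ∀ a, ∃ y, N y = a := Finite.injective_iff_surjective.1
    ((injective_iff_map_eq_zero (AddMonoidHom.mk' N fun u v => by
      simpa [eN] using congrArg Prod.snd (hadd b (u, 0) (v, 0)))).2 hN)
  have bv : ∀ v, ρ b v = v + (0, N v.1) := fun v => (eN v.1 v.2).trans (Prod.ext (by simp) rfl)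
  obtain ⟨s, hs, es⟩ := h2 (ρ g⁻¹ (0, x.1)).1 (fun k => h0 (by
    have e := inv g (0, x.1)
    rw [← Prod.mk.eta (p := ρ g⁻¹ (0, x.1)), k] at e
    rw [ti g _ _ h0 (congrArg Prod.fst e)] at e
    exact (congrArg Prod.snd ((z g).symm.trans e)).symm)) (-y₀)
  obtain ⟨N', eN', -⟩ := h1 s hs
  set c := g * s * g⁻¹ with hc
  have cv : ∀ v, ρ c v = v + ρ g (0, N' (ρ g⁻¹ v).1) := fun v => by
    rw [mul, mul, ← Prod.mk.eta (p := ρ g⁻¹ v), eN']
    conv_rhs => rw [← inv g v, ← hadd, inv']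
    exact congrArg _ (Prod.ext (add_zero _).symm rfl)
  have cf : ∀ y, ρ c (ρ g (0, y)) = ρ g (0, y) := fun y => by rw [mul, mul, inv', fx s hs]
  have cd : ρ c (0, x.1) = (0, x.1) - x := by
    rw [mul, mul, ← Prod.mk.eta (p := ρ g⁻¹ _), es, eq_sub_iff_add_eq, hx, ← hadd, ← hx]
    exact (congrArg _ (Prod.ext (by simp) (by simp))).trans (inv g _)
  have key : ∀ y, ρ c (0, N (ρ g (0, y)).1) = (0, N (ρ g (0, y)).1) - ρ g (0, y) := fun y => by
    have k : (ρ (c * b * g) (0, y)).1 = 0 := by_contra fun n => h0 (by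
      rw [hx, ti _ _ y₀ n (by
        rw [mul, mul, ← hx, ← Prod.mk.eta (p := x), eb, show (x.1, x.2 + x.1) = x + (0, x.1) from
          Prod.ext (by simp) rfl, hadd, cd, hx, cf]
        simp)]
      exact congrArg Prod.fst (z g))
    rw [mul, mul, bv, hadd, cf, cv, add_left_comm, ← hadd, Prod.fst_add, zero_add, Prod.mk_add_mk,
      add_zero] at k
    rw [cv, eq_neg_of_add_eq_zero_right (ti g _ _ h0 k), sub_eq_add_neg, ← ng, Prod.neg_mk, neg_zero]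
  have n1 : ∀ y, ρ (b * c * b) (ρ g (0, y)) = (0, N (ρ g (0, y)).1) := fun y => by
    rw [mul, mul, bv (ρ g _), hadd, cf, key, add_sub_cancel, fx b hb]
  have n2 : ∀ y, ρ (b * c * b) (0, N (ρ g (0, y)).1) = -ρ g (0, y) := fun y => by
    rw [mul, mul, fx b hb, key, sub_eq_add_neg, hadd, ng, fx b hb, bv (ρ g _)]
    abel
  have m : b * c * b ∈ normalClosure (T : Set G) := mul_mem (mul_mem (subset_normalClosure hb)
    (Normal.conj_mem inferInstance _ (subset_normalClosure hs) g)) (subset_normalClosure hb)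
  refine ⟨_, mul_mem m m, fun v => ?_⟩
  obtain ⟨y, ey⟩ := su v.1
  obtain ⟨a, ea⟩ := sN (v - ρ g (0, y)).2
  obtain ⟨y', rfl⟩ := su a
  rw [show v = ρ g (0, y) + (0, N (ρ g (0, y')).1) from Prod.ext (by simp [ey]) (by simp [ea]),
    mul, hadd, hadd, n1, n2, n2, ng, n1, neg_add]

end Cfsg.Lib.D4F
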