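import Cfsg.Agent.D4F.E2c
import Cfsg.Agent.D4F.LQ

/-! The group `XL 1 l` is not essential for odd `p`. -/

set_option autoImplicit false

namespace Cfsg.Lib.D4F

open Cfsg Cfsg.FusionSystem Subgroup Equiv Cfsg.Lib.Fus

open Cfsg.Lib.Fus.Ess

variable {K : Type*} [Field K] [Cub K] [Finite K] {p : ℕ} [Fact p.Prime]
  {F : FusionSystem (⊤ : Subgroup (M K))} [CharP K p]

theorem e2o (hp : p ≠ 2) (hF : F.IsSaturated p) {l : K} (hl : σ l = l) :
    ¬ F.IsEssential p (XL 1 l) := fun hE => by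
  have hS : IsPGroup p (⊤ : Subgroup (M K)) := isPGroup_top
  have hX : IsPGroup p (XL 1 l) := hS.to_le le_top
  have h2 : (2 : K) ≠ 0 := fun h => hp ((Nat.prime_dvd_prime_iff_eq Fact.out Nat.prime_two).1
    ((CharP.cast_eq_zero_iff K p 2).1 (by exact_mod_cast h)))
  choose aZ _ φ hφ _ using fun α : F.autGroup (XL 1 l) =>
    e2c hl (piso_pext_of_mem le_top α.2).autOn
  have hφ' : ∀ α (g : XL 1 l), co l (α.1 g) = φ α (co l g) := fun α g => by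
    rw [← pext_coe]; exact hφ α g g.2
  have iZ : AInv (F.autGroup (XL 1 l)) ((Z2 K).subgroupOf (XL 1 l)) := fun α hα g hg => by
    have := aZ ⟨α, hα⟩ g hg
    rwa [pext_coe] at this
  let ρ : F.autGroup (XL 1 l) →* Perm (K × K) := MonoidHom.mk' (fun α => (φ α).toEquiv)
    fun α β => Equiv.ext fun v => by
      obtain ⟨g, hg, rfl⟩ := exists_co (l := l) v
      show φ (α * β) (co l (⟨g, hg⟩ : XL 1 l)) = φ α (φ β (co l (⟨g, hg⟩ : XL 1 l)))
      rw [← hφ', ← hφ', ← hφ']; rfl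
  let c : ∀ x ∈ Q2 K, F.autGroup (XL 1 l) := fun x hx =>
    ⟨conjAut _ x ((normalizer_XL hl).2 hx), conjAut_mem_autGroup F le_top trivial _⟩
  have hc : ∀ x hx a y, ρ (c x hx) (a, y) = (a, y + cr (l * x.t - x.s) a) := fun x hx a y => by
    obtain ⟨g, hg, e⟩ := exists_co (l := l) (a, y)
    have := (hφ' (c x hx) ⟨g, hg⟩).symm.trans (co_conj hl hg hx).2
    rw [e] at this
    exact this.trans (Prod.ext (add_zero _) rfl)
  have cZ : ∀ x hx, Triv (c x hx).1 ((Z2 K).subgroupOf (XL 1 l)) ⊥ := fun x hx =>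
    triv_conjAut_bot_iff.2 fun g _ hg => mul_inv_eq_iff_eq_mul.2 (comm_Z2 hg hx)
  have hU : ∀ g ∈ XL 1 l, g.t = 0 → g ∈ UU K := fun g hg e =>
    ⟨e, hg.1, by simpa [e] using hg.2⟩
  by_cases h3 : ∃ g y, (ρ g (0, y)).1 ≠ 0
  swap
  · push Not at h3
    have iU : AInv (F.autGroup (XL 1 l)) ((UU K).subgroupOf (XL 1 l)) := fun α hα g hg =>
      hU _ (α g).2 ((congrArg Prod.fst (hφ' ⟨α, hα⟩ g)).trans (by
        rw [co, show g.1.t = 0 from hg.1]; exact h3 _ _))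
    have hx : ec (1 : K) ∈ Q2 K := rfl
    have := (radIn_of_essential hS hE).mem_of_ptr le_top (mem_top _) ((normalizer_XL hl).2 hx)
      (((ptr_of_triv aInv_top iU (c _ hx).2 (triv_conjAut_top_iff.2 fun g hg =>
        cm_UU (XL_le_Q2 _ _ hg) hx)).trans hX (ptr_of_triv iU iZ (c _ hx).2
          (triv_conjAut_iff.2 fun g _ hg => cm_Z2_left hg _)) iZ).trans hX
        (ptr_of_triv iZ aInv_bot (c _ hx).2 (cZ _ hx)) aInv_bot)
    simpa [ec] using this.2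
  have hT : ∀ s ∈ (autInducedBy ⊤ (XL 1 l)).subgroupOf (F.autGroup (XL 1 l)), ∃ x hx,
      s = c x hx := fun s hs => by
    obtain ⟨x, -, hx, e⟩ := mem_autInducedBy'.1 hs
    exact ⟨x, (normalizer_XL hl).1 hx, Subtype.ext e⟩
  obtain ⟨ν, hν, e⟩ := lemQ ρ (fun α => map_add (φ α)) (sat_sylIn hS hF hE.2.1).subgroupOf_top
    (fun s hs => by
      obtain ⟨x, hx, rfl⟩ := hT s hs
      refine ⟨_, hc x hx, ?_⟩
      by_cases h : l * x.t - x.s = 0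
      · exact .inl fun a => by rw [h, zero_cr]
      · exact .inr fun a e => (cr_eq_zero h2 e).resolve_left h)
    (fun a ha d => by
      obtain ⟨s, e⟩ := exists_cr h2 ha d
      exact ⟨c (ec (-s)) rfl, conjAut_mem_autInducedBy (mem_top _) _, fun y => by
        rw [hc _ rfl, ← e, cr_comm]; simp [ec]⟩) h3
  have : ((trivSub iZ ⊥).subgroupOf (F.autGroup (XL 1 l))).Normal :=
    ⟨fun n hn g => ⟨(g * n * g⁻¹).2, Triv.conj hn.2 (iZ _ g⁻¹.2) (aInv_bot _ g.2)⟩⟩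
  have νZ : Triv ν.1 ((Z2 K).subgroupOf (XL 1 l)) ⊥ := (normalClosure_le_normal
    (N := (trivSub iZ ⊥).subgroupOf (F.autGroup (XL 1 l))) (fun s hs => by
      obtain ⟨x, hx, rfl⟩ := hT s hs
      exact ⟨(c x hx).2, cZ x hx⟩) hν).2
  obtain ⟨s, hs⟩ := exists_tr (K := K) one_ne_zero (map_one σ)
  let b := c (ec s) rfl
  have δ1 : Triv (ν * b * ν⁻¹ * b⁻¹).1 ⊤ ((Z2 K).subgroupOf (XL 1 l)) := fun g _ => by
    have e1 : ρ (ν * b * ν⁻¹ * b⁻¹) (co l g) = co l g := by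
      rw [map_mul, map_mul, map_mul, map_inv, map_inv]
      have : ρ ν * ρ b = ρ b * ρ ν := Equiv.ext fun v => by
        rw [Perm.mul_apply, Perm.mul_apply, e, e]
        exact (map_neg (φ b) v).symm
      rw [this]; simp
    have e2 := co_mul hl g.2 (g⁻¹ * (ν * b * ν⁻¹ * b⁻¹).1 g).2
    rw [← coe_mul, mul_inv_cancel_left, hφ'] at e2
    exact (co_eq_zero (g⁻¹ * _).2).1 (left_eq_add.1 (e1.symm.trans e2))
  have δ2 : Triv (ν * b * ν⁻¹ * b⁻¹).1 ((Z2 K).subgroupOf (XL 1 l)) ⊥ :=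
    have m1 : ν.1 ∈ trivSub iZ ⊥ := ⟨ν.2, νZ⟩
    have m2 : b.1 ∈ trivSub iZ ⊥ := ⟨b.2, cZ _ rfl⟩
    (mul_mem (mul_mem (mul_mem m1 m2) (Subgroup.inv_mem _ m1)) (Subgroup.inv_mem _ m2)).2
  have := ((ptr_of_triv aInv_top iZ (ν * b * ν⁻¹ * b⁻¹).2 δ1).trans hX
    (ptr_of_triv iZ aInv_bot (ν * b * ν⁻¹ * b⁻¹).2 δ2) aInv_bot).mem_pCoreIn
  rw [(isRadical_iff.1 (isRadical_of_isEssential hS hE)).2] at this
  obtain ⟨x, hx, ex⟩ := mem_inn_iff.1 this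
  let y : XL 1 l := ⟨ed 1, UU_le_XL _ _ ⟨rfl, rfl, rfl⟩⟩
  have ey := (hφ' ν y).trans (e _)
  have yt : (ν.1 y).1.t = 0 := (congrArg Prod.fst ey).trans neg_zero
  have yr : (ν.1 y).1.r = -1 := by
    have := congrArg Prod.snd ey
    simp only [co, yt] at this
    simpa [y, ed] using this
  have yU := hU _ (ν.1 y).2 yt
  let η : XL 1 l := y⁻¹ * b.1 y
  have ηZ : η.1 ∈ Z2 K := cm_Z2_left (g := ed 1) ⟨rfl, rfl, rfl⟩ (ec s)
  have e1 : ν.1 (b.1 y) = ν.1 y * η := by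
    rw [← triv_bot_iff.1 νZ η ηZ, ← map_mul, mul_inv_cancel_left]
  have hL := cm_XL ⟨map_one _, hl, .inl one_ne_zero⟩ (b.1 (ν.1 y)).2 hx
  rw [cm, ← ex, show (ν * b * ν⁻¹ * b⁻¹).1 (b.1 (ν.1 y)) = ν.1 (b.1 y) by simp, e1,
    show ((b.1 (ν.1 y))).1 = (ν.1 y).1 * cm (ν.1 y).1 (ec s) from (mul_inv_cancel_left _ _).symm,
    coe_mul, show η.1 = cm (ed 1) (ec s) from rfl, mul_inv_rev, mul_assoc, inv_mul_cancel_left] at hL
  have z1 := cm_Z2_left yU (ec s)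
  have v1 := cm_v_left (x := ec s) yU
  have w1 := cm_z_left (x := ec s) yU
  have v2 := cm_v_left (x := ec s) (g := ed 1) ⟨rfl, rfl, rfl⟩
  have w2 := cm_z_left (x := ec s) (g := ed 1) ⟨rfl, rfl, rfl⟩
  have := hL.2
  simp only [M.mul_z, M.mul_v, M.inv_z, M.inv_v, M.inv_t, M.inv_u, M.inv_r, z1.1, z1.2.1,
    z1.2.2.1, z1.2.2.2, v1, w1, v2, w2, yr] at this
  simp [ec, ed, tr_neg] at this
  rw [one_mul] at hs
  exact h2 (by rw [hs] at this; linear_combination -this)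

end Cfsg.Lib.D4F
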