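import Cfsg.Agent.D4F.F1

/-! Fusion systems over a Sylow subgroup of `³D₄(q)`: orders and commutators in the model. -/

set_option autoImplicit false

namespace Cfsg.Lib.D4F

open Subgroup

variable {K : Type*} [Field K] [Cub K] {E : Subgroup (M K)}

theorem card_of_bij {P : Subgroup (M K)} {α : Type*} (c : M K → α)
    (h1 : ∀ g ∈ P, ∀ h ∈ P, c g = c h → g = h) (h2 : ∀ a, ∃ g ∈ P, c g = a) :
    Nat.card P = Nat.card α :=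
  Nat.card_eq_of_bijective (fun g : P => c g) ⟨fun g h e => Subtype.ext (h1 _ g.2 _ h.2 e),
    fun a => let ⟨g, hg, e⟩ := h2 a; ⟨⟨g, hg⟩, e⟩⟩

theorem card_ZZ : Nat.card (ZZ K) = Nat.card (kk K) :=
  card_of_bij (fun g => (⟨g.z, g.hz⟩ : kk K)) (fun _ ⟨a, b, c, d, e⟩ _ ⟨a', b', c', d', e'⟩ h =>
    M.ext (a.trans a'.symm) (b.trans b'.symm) (c.trans c'.symm) (d.trans d'.symm) (e.trans e'.symm)
      (congrArg Subtype.val h)) fun a => ⟨ew a a.2, ⟨rfl, rfl, rfl, rfl, rfl⟩, rfl⟩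

theorem card_ZV : Nat.card (ZV K) = Nat.card (kk K) :=
  card_of_bij (fun g => (⟨g.v, g.hv⟩ : kk K)) (fun _ ⟨a, b, c, d, e⟩ _ ⟨a', b', c', d', e'⟩ h =>
    M.ext (a.trans a'.symm) (b.trans b'.symm) (c.trans c'.symm) (d.trans d'.symm)
      (congrArg Subtype.val h) (e.trans e'.symm)) fun a => ⟨ee a a.2, ⟨rfl, rfl, rfl, rfl, rfl⟩, rfl⟩

theorem Z2_ext {g h : M K} (hg : g ∈ Z2 K) (hh : h ∈ Z2 K) (e1 : g.v = h.v) (e2 : g.z = h.z) :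
    g = h :=
  M.ext (hg.1.trans hh.1.symm) (hg.2.1.trans hh.2.1.symm) (hg.2.2.1.trans hh.2.2.1.symm)
    (hg.2.2.2.trans hh.2.2.2.symm) e1 e2

theorem card_LL {a b : K} (h : Dir a b) : Nat.card (LL a b) = Nat.card (kk K) := by
  obtain ⟨ha, hb, h | h⟩ := h
  · refine card_of_bij (fun g => (⟨g.v, g.hv⟩ : kk K)) (fun g hg g' hg' e => ?_) fun c =>
      ⟨⟨0, 0, 0, 0, c, -(b * c / a), by simp, c.2, by simp [ha, hb]⟩,
        ⟨⟨rfl, rfl, rfl, rfl⟩, by field_simp; ring⟩, rfl⟩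
    have e' : g.v = g'.v := congrArg Subtype.val e
    exact Z2_ext hg.1 hg'.1 e' (mul_left_cancel₀ h (by linear_combination hg.2 - hg'.2 - b * e'))
  · refine card_of_bij (fun g => (⟨g.z, g.hz⟩ : kk K)) (fun g hg g' hg' e => ?_) fun c =>
      ⟨⟨0, 0, 0, 0, -(a * c / b), c, by simp, by simp [ha, hb], c.2⟩,
        ⟨⟨rfl, rfl, rfl, rfl⟩, by field_simp; ring⟩, rfl⟩
    have e' : g.z = g'.z := congrArg Subtype.val e
    exact Z2_ext hg.1 hg'.1 (mul_left_cancel₀ h (by linear_combination hg.2 - hg'.2 - a * e')) e'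

theorem card_Z2 : Nat.card (Z2 K) = Nat.card (kk K) ^ 2 := by
  rw [sq, ← Nat.card_prod]
  exact card_of_bij (fun g => ((⟨g.v, g.hv⟩, ⟨g.z, g.hz⟩) : kk K × kk K)) (fun _ hg _ hh h =>
    Z2_ext hg hh (congrArg (·.1.1) h) (congrArg (·.2.1) h))
    fun a => ⟨⟨0, 0, 0, 0, a.1, a.2, by simp, a.1.2, a.2.2⟩, ⟨rfl, rfl, rfl, rfl⟩, rfl⟩

theorem card_UU [Finite K] : Nat.card (UU K) = Nat.card (kk K) ^ 5 := by
  rw [card_of_bij (P := UU K) (fun g => ((g.r, ⟨g.v, g.hv⟩, ⟨g.z, g.hz⟩) : K × kk K × kk K))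
    (fun _ ⟨a, b, c⟩ _ ⟨a', b', c'⟩ h => M.ext (a.trans a'.symm) (b.trans b'.symm)
      (c.trans c'.symm) (congrArg (·.1) h) (congrArg (·.2.1.1) h) (congrArg (·.2.2.1) h))
    fun a => ⟨⟨0, 0, 0, a.1, a.2.1, a.2.2, by simp, a.2.1.2, a.2.2.2⟩, ⟨rfl, rfl, rfl⟩, rfl⟩]
  simp only [Nat.card_prod, card_K]; ring

theorem card_Q12 [Finite K] : Nat.card (Q12 K) = Nat.card (kk K) ^ 8 := by
  rw [card_of_bij (P := Q12 K) (fun g => ((g.s, g.r, ⟨g.v, g.hv⟩, ⟨g.z, g.hz⟩) : K × K × kk K × kk K))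
    (fun _ ⟨a, b⟩ _ ⟨a', b'⟩ h => M.ext (a.trans a'.symm) (b.trans b'.symm) (congrArg (·.1) h)
      (congrArg (·.2.1) h) (congrArg (·.2.2.1.1) h) (congrArg (·.2.2.2.1) h))
    fun a => ⟨⟨0, 0, a.1, a.2.1, a.2.2.1, a.2.2.2, by simp, a.2.2.1.2, a.2.2.2.2⟩, ⟨rfl, rfl⟩, rfl⟩]
  simp only [Nat.card_prod, card_K]; ring

theorem card_Q1 [Finite K] : Nat.card (Q1 K) = Nat.card (kk K) ^ 9 := by
  rw [card_of_bij (P := Q1 K) (fun g => ((vb g, ⟨g.z, g.hz⟩) : V K × kk K))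
    (fun _ a _ a' h => M.ext ((mem_Q1.1 a).trans (mem_Q1.1 a').symm) (congrArg (·.1.1.1) h)
      (congrArg (·.1.2.1) h) (congrArg (·.1.2.2.1) h) (congrArg (·.1.2.2.2.1) h)
      (congrArg (·.2.1) h))
    fun a => ⟨⟨0, a.1.1, a.1.2.1, a.1.2.2.1, a.1.2.2.2, a.2, a.1.1.2, a.1.2.2.2.2, a.2.2⟩, rfl, rfl⟩]
  simp only [Nat.card_prod, card_K]; ring

theorem card_M [Finite K] : Nat.card (M K) = Nat.card (kk K) ^ 12 := by
  rw [← card_top, card_of_bij (P := ⊤) (fun g => ((g.t, vb g, ⟨g.z, g.hz⟩) : K × V K × kk K))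
    (fun _ _ _ _ h => M.ext (congrArg (·.1) h) (congrArg (·.2.1.1.1) h) (congrArg (·.2.1.2.1) h)
      (congrArg (·.2.1.2.2.1) h) (congrArg (·.2.1.2.2.2.1) h) (congrArg (·.2.2.1) h))
    fun a => ⟨⟨a.1, a.2.1.1, a.2.1.2.1, a.2.1.2.2.1, a.2.1.2.2.2, a.2.2, a.2.1.1.2, a.2.1.2.2.2.2,
      a.2.2.2⟩, trivial, rfl⟩]
  simp only [Nat.card_prod, card_K]; ring

theorem pow_UU {p : ℕ} [CharP K p] {g : M K} (hg : g ∈ UU K) : g ^ p = 1 := by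
  have hp : ((p : ℕ) : K) = 0 := CharP.cast_eq_zero K p
  have : ∀ n : ℕ, (g ^ n).r = n * g.r ∧ (g ^ n).v = n * g.v ∧ (g ^ n).z = n * g.z := fun n => by
    induction n with
    | zero => simp [M.one_r, M.one_v, M.one_z]
    | succ n ih =>
      have h := pow_mem hg n
      rw [pow_succ]
      push_cast
      refine ⟨?_, ?_, ?_⟩ <;> mdl [h.1, h.2.1, hg.2.1, hg.2.2, ih.2.1, ih.2.2, ih.1, mul_zero,
        add_zero, zero_mul]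
  have h := pow_mem hg p
  have h' := this p
  rw [hp, zero_mul, zero_mul, zero_mul] at h'
  exact M.ext h.1 h.2.1 h.2.2 h'.1 h'.2.1 h'.2.2

theorem cm_XL {a b : K} (h : Dir a b) {g x : M K} (hg : g ∈ XL a b) (hx : x ∈ XL a b) :
    cm g x ∈ LL a b := by
  by_cases ha : a = 0
  · have hb := h.2.2.resolve_left (not_not.2 ha)
    have k : ∀ g ∈ XL a b, g ∈ Q1 K := fun g hg =>
      (mul_eq_zero.1 (hg.2.symm.trans (by rw [ha, zero_mul]))).resolve_left hb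
    have := cm_ZZ (k g hg) (k x hx)
    exact ⟨ZZ_le_Z2 this, by rw [ha, this.2.2.2.2]; ring⟩
  obtain ⟨l, rfl⟩ : ∃ l, b = a * l := ⟨b / a, by field_simp⟩
  have hl : σ l = l := mul_left_cancel₀ ha (by simpa [h.1] using h.2.1)
  have k : ∀ g ∈ XL a (a * l), g.s = l * g.t := fun g hg =>
    mul_left_cancel₀ ha (by rw [hg.2]; ring)
  refine ⟨⟨cm_t, cm_u, ?_, ?_⟩, ?_⟩ <;> mdl [cm, hg.1, hx.1, k g hg, k x hx, hl]

theorem exists_cm_ZZ {y z : M K} (hy : y.u ≠ 0) (hz : z ∈ ZZ K) : ∃ d ∈ Z2 K, cm d y = z := by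
  have hd : ee (z.z / y.u) (σ_div_fix z.hz y.hu) ∈ Z2 K := ⟨rfl, rfl, rfl, rfl⟩
  have := cm_ZZ_left hd y
  refine ⟨_, hd, Z2_ext (ZZ_le_Z2 this) (ZZ_le_Z2 hz) (this.2.2.2.2.trans hz.2.2.2.2.symm) ?_⟩
  rw [cm_z_left (Z2_le_UU hd)]
  simp [ee, mul_div_cancel₀ _ hy]

theorem cm_ed {y l : M K} {r : K} (hy : y ∈ Q2 K) (hl : l ∈ Z2 K) (h1 : tr (y.t * r) = l.v)
    (h2 : tr (y.s * r) = -l.z) : ∃ d ∈ UU K, cm d y = l := by
  have hd : ed r ∈ UU K := ⟨rfl, rfl, rfl⟩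
  refine ⟨_, hd, Z2_ext (cm_Z2_left hd y) hl ((cm_v_left hd).trans h1) ?_⟩
  rw [cm_z_left hd, mem_Q2.1 hy]
  simp [ed, h2]

theorem exists_cm_ZZ' {y z : M K} (hy : y ∈ Q12 K) (hs : y.s ≠ 0) (hz : z ∈ ZZ K) :
    ∃ d ∈ UU K, cm d y = z := by
  obtain ⟨r, hr⟩ := exists_tr hs (l := -z.z) (by simp)
  exact cm_ed hy.2 (ZZ_le_Z2 hz) (by simp [hy.1, hz.2.2.2.2]) hr

theorem exists_cm_LL {a b : K} (h : Dir a b) {y l : M K} (hy : y ∈ XL a b) (hU : y ∉ UU K)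
    (hl : l ∈ LL a b) : ∃ d ∈ UU K, cm d y = l := by
  by_cases ht : y.t = 0
  · have hs : y.s ≠ 0 := fun e => hU ⟨ht, hy.1, e⟩
    have ha : a = 0 := (mul_eq_zero.1 (hy.2.trans (by rw [ht, mul_zero]))).resolve_right hs
    refine exists_cm_ZZ' ⟨ht, hy.1⟩ hs ⟨hl.1.1, hl.1.2.1, hl.1.2.2.1, hl.1.2.2.2, ?_⟩
    simpa [ha, h.2.2.resolve_left (not_not.2 ha)] using hl.2
  have ha : a ≠ 0 := fun ha => ht (by
    simpa [ha, h.2.2.resolve_left (not_not.2 ha)] using hy.2)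
  obtain ⟨r, hr⟩ := exists_tr ht l.hv
  refine cm_ed hy.1 hl.1 hr (mul_left_cancel₀ ha ?_)
  rw [← tr_fix_mul h.1, ← mul_assoc, hy.2, mul_assoc, tr_fix_mul h.2.1, hr]
  linear_combination hl.2

theorem exists_cm_Z2 {y l : M K} (hy : y ∈ Q2 K) (h : Ind y.t y.s) (hl : l ∈ Z2 K) :
    ∃ d ∈ UU K, cm d y = l := by
  obtain ⟨r, h1, h2⟩ := exists_tr2 h l.hv (m := -l.z) (by simp)
  exact cm_ed hy hl h1 h2

theorem exists_tu (h1 : ¬ E ≤ Q1 K) (h2 : ¬ E ≤ Q2 K) : ∃ e ∈ E, e.t ≠ 0 ∧ e.u ≠ 0 := by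
  obtain ⟨a, ha, ha'⟩ := SetLike.not_le_iff_exists.1 h1
  obtain ⟨b, hb, hb'⟩ := SetLike.not_le_iff_exists.1 h2
  by_cases h3 : a.u = 0
  · by_cases h4 : b.t = 0
    · exact ⟨a * b, mul_mem ha hb, by rwa [M.mul_t, h4, add_zero], by rwa [M.mul_u, h3, zero_add]⟩
    · exact ⟨b, hb, h4, hb'⟩
  · exact ⟨a, ha, ha', h3⟩

end Cfsg.Lib.D4F
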