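import Cfsg.Agent.D4F.CA
import Cfsg.Agent.D4F.F4
import Cfsg.Agent.D4F.Defs2

/-! An essential subgroup outside `Q1` contains `Z2`. -/

set_option autoImplicit false
set_option linter.unusedSectionVars false

namespace Cfsg.Lib.D4F

open Cfsg Cfsg.FusionSystem Subgroup Equiv Cfsg.Lib.Fus

variable {K : Type*} [Field K] [Cub K] [Finite K]
  {F : FusionSystem (⊤ : Subgroup (M K))} {E : Subgroup (M K)} {O : Perm (M K) → Prop}

namespace E3

/-- The chain `E > Y > 1`. -/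
theorem ci2 (h : SE F E O) {f : Perm (M K)} (hf : O f) {x : M K} (hx : x ∉ E) {Y : Subgroup (M K)}
    (hY : Y ≤ E) (h1 : ∀ g ∈ E, cm g x ∈ Y) (h2 : ∀ g ∈ Y, x * g = g * x) : ∃ g ∈ Y, f g ∉ Y := by
  by_contra k
  push Not at k
  refine h.ci f x hf (mem_normalizer_of_cm fun g hg => hY (h1 g hg)) hx
    (.step hY k (St_cj.2 h1) (.step bot_le (fun g hg => ?_) (St_cj.2 fun g hg => ?_) .bot))
  · rw [mem_bot.1 hg, (h.piso f hf).mor.mulOn.map_one]; exact one_mem _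
  · exact mem_bot.2 (cm_eq_one.2 (h2 g hg))

theorem cen_map {f : Perm (M K)} (hf : PIso F f E E) {z : M K} (hz : z ∈ E) (k : ∀ g ∈ E, g * z = z * g)
    {g : M K} (hg : g ∈ E) : g * f z = f z * g := by
  have := congrArg f (k _ (hf.inv_maps hg))
  rwa [hf.map_mul (hf.inv_maps hg) hz, hf.map_mul hz (hf.inv_maps hg), perm_apply_inv] at this

theorem mem_img {f : Perm (M K)} (hf : PIso F f E E) {Y : Subgroup (M K)} (hY : Y ≤ E) {y : M K} :
    y ∈ img Y f ↔ f⁻¹ y ∈ Y := mem_img_perm (hf.mor.mulOn.mono hY)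

theorem cm_inv (y x : M K) : cm y x = (cm x⁻¹ y⁻¹)⁻¹ := by rw [cm, cm]; group

theorem exists_cm {y z : M K} (hy : y.u ≠ 0) (hz : z ∈ ZZ K) : ∃ d ∈ Z2 K, cm y d = z := by
  obtain ⟨d, hd, e⟩ := exists_cm_ZZ (y := y⁻¹) (by rw [M.inv_u]; exact neg_ne_zero.2 hy) (inv_mem hz)
  exact ⟨d⁻¹, inv_mem hd, by rw [cm_inv, inv_inv, e, inv_inv]⟩

theorem card_le (A : Subgroup (M K)) : Nat.card A ≤ Nat.card (kk K) * Nat.card ↥(A ⊓ Q2 K) := by
  let φ : M K →* Multiplicative (kk K) := MonoidHom.mk' (fun g => Multiplicative.ofAdd ⟨g.u, g.hu⟩)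
    fun _ _ => rfl
  have e : (φ.comp A.subtype).ker = (A ⊓ Q2 K).subgroupOf A := by
    ext g
    simp only [MonoidHom.mem_ker, mem_subgroupOf, mem_inf, g.2, true_and, mem_Q2]
    exact ⟨fun k => congrArg Subtype.val (Multiplicative.ofAdd.injective k), fun k =>
      congrArg Multiplicative.ofAdd (Subtype.ext k)⟩
  rw [← Nat.card_congr (subgroupOfEquivOfLe (inf_le_left : A ⊓ Q2 K ≤ A)).toEquiv, ← e,
    ← (φ.comp A.subtype).ker.index_mul_card, index_ker]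
  exact Nat.mul_le_mul_right _ (Nat.card_le_card_of_injective _ (φ.comp A.subtype).range.subtype_injective)

theorem inj_prod {I C : Subgroup (M K)} (hI : I ≤ C) (hZ : ZZ K ≤ C) (k : ∀ z ∈ ZZ K, z ∈ I → z = 1) :
    Function.Injective fun a : I × ZZ K => (⟨a.1 * a.2, mul_mem (hI a.1.2) (hZ a.2.2)⟩ : C) := by
  rintro ⟨a, b⟩ ⟨c, d⟩ e
  have e1 : (a : M K) * b = c * d := congrArg Subtype.val e
  have e2 : (c : M K)⁻¹ * a = d * b⁻¹ := by
    rw [inv_mul_eq_iff_eq_mul, ← mul_assoc, ← e1]; simp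
  have e3 := k _ (mul_mem d.2 (inv_mem b.2)) (by
    have := mul_mem (inv_mem c.2) a.2
    rwa [e2] at this)
  have e4 : (d : M K) = b := by simpa [mul_inv_eq_one] using e3
  rw [e4, mul_left_inj] at e1
  exact Prod.ext (Subtype.ext e1) (Subtype.ext e4.symm)

end E3

open E3

theorem e3 (h : SE F E O) (hQ : ¬ E ≤ Q1 K) : Z2 K ≤ E := by
  intro x0 hx0
  by_contra hx
  have hZ : ZZ K ≤ E := fun z hz => h.cen z fun g _ => (comm_ZZ hz g).symm
  have hN : ∀ x ∈ Z2 K, x ∈ normalizer (E : Set (M K)) := fun x k =>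
    mem_normalizer_of_cm fun g _ => hZ (cm_ZZ_right g k)
  obtain ⟨y, yE, yc, yu⟩ : ∃ y ∈ E, (∀ g ∈ E, g * y = y * g) ∧ y.u ≠ 0 := by
    obtain ⟨f, hf, mx, -⟩ := h.mx _ hZ
    obtain ⟨z, hz, k⟩ := ci2 h hf hx hZ (fun g _ => cm_ZZ_right g hx0) fun g hg => comm_ZZ hg x0
    refine ⟨f z, (h.piso f hf).maps (hZ hz), fun g hg =>
      cen_map (h.piso f hf) (hZ hz) (fun g _ => comm_ZZ hz g) hg, fun e => ?_⟩
    refine h.sq _ hZ f hf mx x0 (hN x0 hx0) hx (fun g hg => comm_ZZ hg x0) _ (mem_img_of_mem f hz) k ?_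
    rw [show (f z)⁻¹ * (x0 * f z * x0⁻¹) = 1 from cm_eq_one.2 (comm_Z2 hx0 e).symm]
    exact one_mem _
  have yt : y.t ≠ 0 := fun e => hQ fun g hg => by
    have k := cm_s (g := y) (x := g)
    rw [cm_eq_one.2 (yc g hg), e, M.one_s, zero_mul, sub_zero] at k
    exact (mul_eq_zero.1 k.symm).resolve_right yu
  have ab : ∀ a ∈ E, ∀ b ∈ E, a * b = b * a := fun a ha b hb => ca yt yu (yc a ha) (yc b hb)
  have mE : ∀ g, g * y = y * g → g ∈ E := fun g k => h.cen g fun b hb => ca yt yu k (yc b hb)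
  have hC : E ⊓ Q2 K ≤ E := inf_le_left
  have hZC : ZZ K ≤ E ⊓ Q2 K := fun z hz => ⟨hZ hz, hz.2.1⟩
  have star : ∀ g, O g → Mx O (E ⊓ Q2 K) g → ∀ z ∈ ZZ K, z ∈ E ⊓ Q2 K ⊓ img (E ⊓ Q2 K) g → z = 1 := by
    intro g hg mx z hz k
    by_contra z1
    obtain ⟨c, hc, k'⟩ := ci2 h hg hx hC (fun g _ => hZC (cm_ZZ_right g hx0))
      fun g hg => (comm_Z2 hx0 hg.2).symm
    have cE := (h.piso g hg).maps hc.1
    obtain ⟨d, hd, e⟩ := exists_cm (y := g c) (fun e => k' ⟨cE, e⟩) hz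
    exact h.sq _ hC g hg mx d (hN d hd) (fun dE => z1 (e ▸ cm_eq_one.2 (ab _ dE _ cE)))
      (fun g hg => (comm_Z2 hd hg.2).symm) _ (mem_img_of_mem g hc) k' (by rw [← e] at k; exact k)
  have low : ∀ g, O g → Nat.card ↥(E ⊓ Q2 K) ≤
      Nat.card ↥(E ⊓ Q2 K ⊓ img (E ⊓ Q2 K) g) * Nat.card (kk K) := fun g hg => by
    have k := card_le (img (E ⊓ Q2 K) g)
    rw [((h.piso g hg).mor.restrict hC).card_img, mul_comm] at k
    refine k.trans (Nat.mul_le_mul_right _ (card_le_of_le fun a ha => ⟨⟨?_, ha.2⟩, ha.1⟩))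
    exact (img_le_iff (P := E ⊓ Q2 K) (R := E)).2 (fun a ha => (h.piso g hg).maps ha.1) ha.1
  obtain ⟨f, hf, mx, -⟩ := h.mx _ hC
  have pf := h.piso f hf
  have inj := inj_prod inf_le_left hZC (star f hf mx)
  have all : ∀ g, O g → Mx O (E ⊓ Q2 K) g := fun g hg g' hg' => (mx g' hg').trans (by
    have k := Nat.card_le_card_of_injective _ inj
    rw [Nat.card_prod, card_ZZ] at k
    exact Nat.le_of_mul_le_mul_right (k.trans (low g hg)) Nat.card_pos)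
  have st : ∀ g, O g → ∀ z ∈ ZZ K, g z ∈ E ⊓ Q2 K → z = 1 := fun g hg z hz k =>
    star _ (h.inv g hg) (all _ (h.inv g hg)) z hz ⟨hZC hz, (mem_img (h.piso g hg).symm hC).2 (by simpa using k)⟩
  obtain ⟨w, hw, ws, wc⟩ := n1 yt yu
  have wE : ∀ g ∈ E, cm g w ∈ E := fun g hg => mE _ (wc g (yc g hg)).2
  have z0 : ew (1 : K) (map_one _) ∈ ZZ K := ⟨rfl, rfl, rfl, rfl, rfl⟩
  have z1 : ew (1 : K) (map_one _) ≠ 1 := fun e => one_ne_zero (congrArg M.z e)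
  generalize ew (1 : K) (map_one _) = z at z0 z1
  have y1 := pf.maps (hZ z0)
  obtain ⟨⟨⟨i, hi⟩, ⟨a, ha⟩⟩, e⟩ := (inj.bijective_of_nat_card_le (by
    rw [Nat.card_prod, card_ZZ]; exact low f hf)).2 ⟨cm (f z) w, wE _ y1, (cm_Q12 _ _).2⟩
  replace e : i * a = cm (f z) w := congrArg Subtype.val e
  obtain ⟨b, hb, e'⟩ := exists_cm (y := f z) (fun k => z1 (st f hf z z0 ⟨y1, k⟩)) (inv_mem ha)
  have key : b * w * f z * (b * w)⁻¹ = f z * i := by
    have k1 : w * f z * w⁻¹ = f z * (i * a) := by rw [e, cm]; group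
    have k2 : b * f z * b⁻¹ = f z * a⁻¹ := by rw [← e', cm]; group
    have k3 := comm_Z2 hb (mul_mem hi.1.2 (hZC ha).2)
    calc _ = b * (w * f z * w⁻¹) * b⁻¹ := by group
      _ = b * f z * b⁻¹ * (b * (i * a) * b⁻¹) := by rw [k1]; group
      _ = f z * (a⁻¹ * (i * a)) := by rw [k2, ← k3]; group
      _ = _ := by rw [comm_ZZ ha i]; group
  have xE : b * w ∉ E := fun k => by
    obtain ⟨-, l, hl, e⟩ := ca_s yu yt (yc _ k) (mul_mem hb.2.1 hw.2 : b * w ∈ Q2 K)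
    refine ws l hl ?_
    rw [← e]
    mdl [hb.1, hb.2.2.1]
  refine z1 (st _ (h.conj f _ hf (mul_mem (hN b hb) (mem_normalizer_of_cm wE)) xE) z z0 ?_)
  rw [Perm.mul_apply, Perm.mul_apply, cj_apply, key, pf.symm.map_mul y1 hi.1.1, perm_inv_apply]
  exact mul_mem (hZC z0) ((mem_img pf hC).1 hi.2)

end Cfsg.Lib.D4F
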