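import Cfsg.Agent.D4F.E3
import Cfsg.Agent.D4F.R1e

/-! An essential subgroup between `Z2` and `Q2` contains `U`. -/

set_option autoImplicit false
set_option linter.unusedSectionVars false

namespace Cfsg.Lib.D4F

open Cfsg Cfsg.FusionSystem Subgroup Equiv Cfsg.Lib.Fus

variable {K : Type*} [Field K] [Cub K] [Finite K] {p : ℕ} [Fact p.Prime]
  {F : FusionSystem (⊤ : Subgroup (M K))} {E : Subgroup (M K)} {O : Perm (M K) → Prop} [CharP K p]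

open E3

include p in
theorem e4 (h : SE F E O) (hX : NoX E) (hZ : Z2 K ≤ E) (hQ : E ≤ Q2 K) : UU K ≤ E := by
  intro x0 hx0
  by_contra hx
  have hN : ∀ x ∈ UU K, x ∈ normalizer (E : Set (M K)) := fun x k =>
    mem_normalizer_of_cm fun g _ => hZ (cm_Z2_right g k)
  obtain ⟨f, hf, mx, -⟩ := h.mx _ hZ
  have pf := h.piso f hf
  obtain ⟨z, hz, k0⟩ := ci2 h hf hx hZ (fun g _ => cm_Z2_right g hx0) fun g hg => comm_Z2 hg hx0.2.1
  have hP : ∀ y ∈ img (Z2 K) f, y ∈ E ∧ (∀ g ∈ E, g * y = y * g) ∧ y ^ p = 1 := fun y hy => by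
    obtain ⟨d, hd, rfl⟩ := (pf.mor.restrict hZ).mem_img.1 hy
    refine ⟨pf.maps (hZ hd), fun g hg => cen_map pf (hZ hd) (fun g hg => comm_Z2 hd (hQ hg)) hg, ?_⟩
    rw [← pf.mor.mulOn.map_pow (hZ hd), pow_UU (Z2_le_UU hd), pf.mor.mulOn.map_one]
  have sq : ∀ y ∈ img (Z2 K) f, y ∉ Z2 K → ∀ x ∈ UU K, x ∉ E → cm y x ∉ Z2 K ⊓ img (Z2 K) f :=
    fun y hy k x hx xE => h.sq _ hZ f hf mx x (hN x hx) xE (fun g hg => comm_Z2 hg hx.2.1) y hy k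
  have cU : ∀ y ∈ img (Z2 K) f, y ∉ Z2 K → ∀ x ∈ UU K, x * y = y * x → x ∈ E := fun y hy k x hx e =>
    by_contra fun xE => sq y hy k x hx xE (by rw [cm_eq_one.2 e]; exact one_mem _)
  have nU : ∀ y ∈ img (Z2 K) f, y ∉ Z2 K → y ∉ UU K := fun y hy k e => hx (cU y hy k x0 hx0 (comm_UU e hx0))
  have ind : ∀ y ∈ img (Z2 K) f, y ∉ Z2 K → Ind y.t y.s := fun y hy k => by_contra fun n => by
    obtain ⟨y1, y2, y3⟩ := hP y hy
    obtain ⟨a, b, hd, ha⟩ := exists_XL (hQ y1) n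
    exact hX a b hd fun g hg => r1 hd ha (nU y hy k) y3 (hQ hg) (y2 g hg)
  have hy0 : f z ∈ img (Z2 K) f := mem_img_of_mem f hz
  generalize f z = y0 at k0 hy0
  obtain ⟨a1, a2, a3⟩ := hP y0 hy0
  have i0 := ind y0 hy0 k0
  have h2 : (2 : K) ≠ 0 := fun e => not_ind_of_sq (hQ a1) e (by rw [← _root_.sq, ← eq_two_of (p := p) e, a3]) i0
  have tU : ∀ y ∈ img (Z2 K) f, y ∈ UU K → y = 1 := fun y hy yU => by_contra fun y1 => by
    have yZ : y ∈ Z2 K := by_contra fun k => nU y hy k yU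
    obtain ⟨d, hd, e⟩ := exists_cm_Z2 (hQ (inv_mem a1)) (ind _ (inv_mem hy0) fun k => k0 (inv_mem_iff.1 k))
      (inv_mem yZ)
    have e' : cm y0 d⁻¹ = y := by rw [cm_inv, inv_inv, e, inv_inv]
    exact sq y0 hy0 k0 _ (inv_mem hd) (fun dE => y1 (e' ▸ cm_eq_one.2 (a2 _ dE))) (e' ▸ ⟨yZ, hy⟩)
  have par : ∀ y : img (Z2 K) f, ∃ a : kk K, y.1.t = a * y0.t ∧ y.1.s = a * y0.s := fun ⟨y, hy⟩ => by
    obtain ⟨y1, y2, -⟩ := hP y hy
    have k : ∀ r, tr (y0.t * r) = 0 → tr (y0.s * r) = 0 → tr (y.t * r) = 0 ∧ tr (y.s * r) = 0 := fun r k1 k2 => by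
      have hr : ed r ∈ UU K := ⟨rfl, rfl, rfl⟩
      have := (comm_UU_iff hr).1 (y2 _ (cU y0 hy0 k0 _ hr ((comm_UU_iff hr).2
        ⟨k1, by rw [show y0.u = 0 from hQ a1, zero_mul]; exact k2.symm⟩).symm)).symm
      exact ⟨this.1, by rw [show y.u = 0 from hQ y1, zero_mul] at this; exact this.2.symm⟩
    obtain ⟨a, b, ha, hb, e1⟩ := of_perp2 fun r k1 k2 => (k r k1 k2).1
    obtain ⟨c, d, hc, hd, e2⟩ := of_perp2 fun r k1 k2 => (k r k1 k2).2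
    have e := cm_r (g := y) (x := y0) (hQ y1) (hQ a1)
    rw [cm_eq_one.2 (y2 _ a1), M.one_r] at e
    exact ⟨⟨a, ha⟩, iso_span h2 i0 ha hb hc hd e1 e2 (sub_eq_zero.1 e.symm)⟩
  choose φ hφ using par
  have k := Nat.card_le_card_of_injective φ fun y y' e => Subtype.ext (inv_mul_eq_one.1
    (tU _ (mul_mem (inv_mem y.2) y'.2) (by
      have u1 : y.1.u = 0 := hQ (hP _ y.2).1
      have u2 : y'.1.u = 0 := hQ (hP _ y'.2).1
      refine ⟨?_, ?_, ?_⟩ <;> mdl [u1, u2, (hφ y).1, (hφ y).2, (hφ y').1, (hφ y').2, e])))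
  rw [(pf.mor.restrict hZ).card_img, card_Z2] at k
  have : 1 < Nat.card (kk K) := Finite.one_lt_card
  nlinarith

end Cfsg.Lib.D4F
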