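import Cfsg.Agent.D4F.F1
import Cfsg.Agent.D4F.F3
import Cfsg.Agent.D4F.F4
import Cfsg.Agent.D4F.R1e

/-! Fusion systems over a Sylow subgroup of `³D₄(q)`: the images of `U` have rank one. -/

set_option autoImplicit false
set_option linter.unusedSectionVars false

namespace Cfsg.Lib.D4F

open Cfsg Cfsg.FusionSystem Subgroup Equiv Cfsg.Lib.Fus

variable {K : Type*} [Field K] [Cub K] [Finite K] {p : ℕ} [Fact p.Prime]
  {F : FusionSystem (⊤ : Subgroup (M K))} {E : Subgroup (M K)}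

namespace E5a

variable {A : Subgroup (M K)}

theorem perp {t s e r : K} (h : Ind t s) (he : ¬ ∃ a b, σ a = a ∧ σ b = b ∧ e = a * t + b * s)
    (h1 : tr (t * r) = 0) (h2 : tr (s * r) = 0) (h3 : tr (e * r) = 0) : r = 0 := by
  by_contra hr
  refine he (of_perp2 fun x x1 x2 => ?_)
  let φ : kk K → {x : K // tr (t * x) = 0 ∧ tr (s * x) = 0} := fun l => ⟨l * r, by
    rw [mul_left_comm, tr_fix_mul l.2, h1, mul_zero], by rw [mul_left_comm, tr_fix_mul l.2, h2, mul_zero]⟩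
  obtain ⟨l, hl⟩ := ((Nat.bijective_iff_injective_and_card φ).2 ⟨fun a b e =>
    Subtype.ext (mul_right_cancel₀ hr (congrArg Subtype.val e)), (card_perp2 h).symm⟩).2 ⟨x, x1, x2⟩
  rw [← show l * r = x from congrArg Subtype.val hl, mul_left_comm, tr_fix_mul l.2, h3, mul_zero]

theorem card_le (hA : A ≤ Q2 K) {β γ : Type*} [Finite β] [Finite γ] (φ : A → β) (ψ : ↥(A ⊓ UU K) → γ)
    (h1 : ∀ x y, φ x = φ y → x.1.t = y.1.t ∧ x.1.s = y.1.s) (h2 : Function.Injective ψ) :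
    Nat.card A ≤ Nat.card (Set.range φ) * Nat.card γ := by
  classical
  choose g hg using fun b : Set.range φ => b.2
  have k : ∀ x : A, (g ⟨_, x, rfl⟩).1⁻¹ * x ∈ A ⊓ UU K := fun x => by
    obtain ⟨e1, e2⟩ := h1 _ _ (hg ⟨_, x, rfl⟩)
    have e3 : (g ⟨_, x, rfl⟩).1.u = 0 := hA (g _).2
    have e4 : x.1.u = 0 := hA x.2
    refine ⟨A.mul_mem (A.inv_mem (g _).2) x.2, ?_, ?_, ?_⟩ <;> mdl [e1, e2, e3, e4]
  rw [← Nat.card_prod]
  refine Nat.card_le_card_of_injective (fun x => (⟨_, x, rfl⟩, ψ ⟨_, k x⟩)) fun x y e => ?_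
  obtain ⟨e1, e2⟩ := Prod.mk.inj e
  have := congrArg Subtype.val (h2 e2)
  simp only [e1] at this
  exact Subtype.ext (mul_left_cancel this)

theorem no_ind (hA : A ≤ Q2 K) (hc : ∀ x ∈ A, ∀ y ∈ A, x * y = y * x) (hn : Nat.card A = Nat.card (kk K) ^ 5)
    (h2 : (2 : K) ≠ 0) {y : M K} (hy : y ∈ A) : ¬ Ind y.t y.s := fun hi => by
  have q : 1 < Nat.card (kk K) := Finite.one_lt_card
  have c1 : ∀ x ∈ A, ∀ x' ∈ A, cr x.t x'.s = cr x'.t x.s := fun x hx x' hx' => by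
    have := cm_r (hA hx') (hA hx)
    rwa [cm_eq_one.2 (hc _ hx _ hx'), M.one_r, eq_comm, sub_eq_zero] at this
  have c2 : ∀ x ∈ A, ∀ g : ↥(A ⊓ UU K), tr (x.t * g.1.r) = 0 ∧ tr (x.s * g.1.r) = 0 := fun x hx g => by
    have := (comm_UU_iff g.2.2).1 (hc _ hx _ g.2.1)
    rwa [mem_Q2.1 (hA hx), zero_mul, eq_comm (a := (0 : K))] at this
  have ex : ∀ g g' : ↥(A ⊓ UU K), g.1.r = g'.1.r → g.1.v = g'.1.v → g.1.z = g'.1.z → g = g' := fun g g' a b c =>
    Subtype.ext (M.ext (g.2.2.1.trans g'.2.2.1.symm) (g.2.2.2.1.trans g'.2.2.2.1.symm)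
      (g.2.2.2.2.trans g'.2.2.2.2.symm) a b c)
  by_cases hs : ∀ x ∈ A, (∃ a b, σ a = a ∧ σ b = b ∧ x.t = a * y.t + b * y.s) ∧
      ∃ a b, σ a = a ∧ σ b = b ∧ x.s = a * y.t + b * y.s
  · have k : ∀ x : A, ∃ a : kk K, x.1.t = a * y.t ∧ x.1.s = a * y.s := fun x => by
      obtain ⟨⟨a, b, ha, hb, e1⟩, c, d, hc, hd, e2⟩ := hs x x.2
      exact ⟨⟨a, ha⟩, iso_span h2 hi ha hb hc hd e1 e2 (c1 _ hy _ x.2)⟩
    choose φ hφ using k
    have := card_le hA φ (γ := {x : K // tr (y.t * x) = 0 ∧ tr (y.s * x) = 0} × kk K × kk K)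
      (fun g => (⟨g.1.r, c2 _ hy g⟩, ⟨g.1.v, g.1.hv⟩, ⟨g.1.z, g.1.hz⟩))
      (fun x x' e => by simp only [hφ, e, and_self]) fun g g' e => by
        simp only [Prod.mk.injEq, Subtype.mk.injEq] at e
        exact ex _ _ e.1 (congrArg Subtype.val e.2.1) (congrArg Subtype.val e.2.2)
    rw [hn, Nat.card_prod, Nat.card_prod, card_perp2 hi] at this
    have h3 := this.trans (Nat.mul_le_mul_right _ (Nat.card_le_card_of_injective _ Subtype.val_injective))
    have h4 := Nat.pow_lt_pow_right q (show 4 < 5 by decide)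
    nlinarith
  have r0 : ∀ g : ↥(A ⊓ UU K), g.1.r = 0 := fun g => by
    by_contra hr
    exact hs fun x hx => ⟨by_contra fun h => hr (perp hi h (c2 _ hy g).1 (c2 _ hy g).2 (c2 _ hx g).1),
      by_contra fun h => hr (perp hi h (c2 _ hy g).1 (c2 _ hy g).2 (c2 _ hx g).2)⟩
  have un : ∀ {s s' : K}, cr y.t s = cr y.t s' → s = s' := fun {s s'} e =>
    sub_eq_zero.1 ((cr_eq_zero h2 (by rw [cr_sub, e, sub_self])).resolve_left hi.ne)
  have := card_le hA (fun x => x.1.t) (γ := kk K × kk K) (fun g => (⟨g.1.v, g.1.hv⟩, ⟨g.1.z, g.1.hz⟩))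
    (fun x x' e => ⟨e, un (by rw [c1 _ hy _ x.2, c1 _ hy _ x'.2, e])⟩) fun g g' e => by
      simp only [Prod.mk.injEq] at e
      exact ex _ _ ((r0 g).trans (r0 g').symm) (congrArg Subtype.val e.1) (congrArg Subtype.val e.2)
  rw [hn, Nat.card_prod, show 5 = 3 + 1 + 1 from rfl, pow_succ, pow_succ, mul_assoc, ← card_K] at this
  have h3 := Set.eq_univ_iff_forall.1 ((Set.eq_univ_iff_ncard _).2 (le_antisymm
    (Set.ncard_le_card _) (Nat.le_of_mul_le_mul_right this (by positivity))))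
  choose g hg using h3
  have e : ∀ t, cr y.t (g t).1.s = cr t y.s := fun t => by rw [c1 _ hy _ (g t).2, show (g t).1.t = t from hg t]
  obtain ⟨l, hl, h4⟩ := sym_scalar (fun t => (g t).1.s) (fun a b => un (by rw [cr_add, e, e, e, add_cr]))
    (fun l x hl => un (by rw [cr_fix_mul hl, e, e, fix_mul_cr hl])) fun t t' => by
      have := c1 _ (g t).2 _ (g t').2
      rwa [show (g t).1.t = t from hg t, show (g t').1.t = t' from hg t'] at this
  exact hi.ne_mul hl ((un (e y.t)).symm.trans (h4 _))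

end E5a

variable [CharP K p]

include p in
theorem e5a (hU : UU K ≤ E) (hQ : E ≤ Q2 K) {f : Perm (M K)} (hf : PIso F f E E)
    (hne : ∃ g ∈ UU K, f g ∉ UU K) : ∃ a b, Dir a b ∧ ∀ g ∈ UU K, f g ∈ XL a b := by
  obtain ⟨g, hg, hn⟩ := hne
  have h := hf.restrict hU
  have c : ∀ x ∈ UU K, ∀ y ∈ UU K, f x * f y = f y * f x := fun x hx y hy => by
    rw [← h.map_mul hx hy, comm_UU hy hx, h.map_mul hy hx]
  have hp : f g ^ p = 1 := by rw [← h.mor.map_pow hg, pow_UU hg, h.mor.map_one]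
  have hy := hQ (hf.maps (hU hg))
  obtain ⟨a, b, hd, hx⟩ := exists_XL hy (by
    by_cases h2 : (2 : K) = 0
    · exact not_ind_of_sq hy h2 (by rwa [eq_two_of (p := p) h2, sq] at hp)
    · refine E5a.no_ind (A := img (UU K) f) (fun x hx => ?_) (fun x hx y hy => ?_) (h.card_eq.trans card_UU) h2
        (h.maps hg)
      · simpa using hQ (hf.maps (hU (h.inv_maps hx)))
      · simpa using c _ (h.inv_maps hx) _ (h.inv_maps hy))
  exact ⟨a, b, hd, fun x h1 => r1 hd hx hn hp (hQ (hf.maps (hU h1))) (c _ h1 _ hg)⟩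

end Cfsg.Lib.D4F
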