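import Cfsg.Agent.D4F.E5a

/-! Fusion systems over a Sylow subgroup of `³D₄(q)`: `E` contains one of the groups `XL a b`. -/

set_option autoImplicit false
set_option linter.unusedSectionVars false

namespace Cfsg.Lib.D4F

open Cfsg Cfsg.FusionSystem Subgroup Equiv Cfsg.Lib.Fus

variable {K : Type*} [Field K] [Cub K] [Finite K] {p : ℕ} [Fact p.Prime]
  {F : FusionSystem (⊤ : Subgroup (M K))} {E : Subgroup (M K)} {O : Perm (M K) → Prop}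

theorem E5b.gen (hX : NoX E) (hQ : E ≤ Q2 K) {z : M K} (hz : z ∈ Z2 K) :
    ∃ d ∈ UU K, ∃ g ∈ E, ∃ d' ∈ UU K, ∃ g' ∈ E, z = cm d g * cm d' g' := by
  by_cases hi : ∃ g ∈ E, Ind g.t g.s
  · obtain ⟨g, hg, hi⟩ := hi
    obtain ⟨d, hd, e⟩ := exists_cm_Z2 (hQ hg) hi hz
    exact ⟨d, hd, g, hg, 1, one_mem _, g, hg, by simp [← e, cm]⟩
  obtain ⟨g, hg, hU⟩ := SetLike.not_le_iff_exists.1 fun h : E ≤ UU K =>
    hX 1 0 ⟨map_one _, map_zero _, .inl one_ne_zero⟩ (h.trans (UU_le_XL 1 0))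
  obtain ⟨a, b, hd, hx⟩ := exists_XL (hQ hg) fun h => hi ⟨g, hg, h⟩
  obtain ⟨g', hg', hU'⟩ := SetLike.not_le_iff_exists.1 (hX a b hd)
  obtain ⟨a', b', hd', hx'⟩ := exists_XL (hQ hg') fun h => hi ⟨g', hg', h⟩
  have D : a * b' - a' * b ≠ 0 := fun D => hU' ⟨hx'.1, by
    have := hx'.2
    rcases hd'.2.2 with h | h <;> apply mul_left_cancel₀ h
    · linear_combination a * this + g'.t * D
    · linear_combination b * this + g'.s * D⟩
  obtain ⟨l, hl, e⟩ : ∃ l, σ l = l ∧ l * (a * b' - a' * b) = z.v * b' + z.z * a' :=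
    ⟨_, by simp [hd.1, hd.2.1, hd'.1, hd'.2.1], div_mul_cancel₀ _ D⟩
  let w : M K := ⟨0, 0, 0, 0, l * a, -(l * b), by simp, by simp [hl, hd.1], by simp [hl, hd.2.1]⟩
  have hw : w ∈ Z2 K := ⟨rfl, rfl, rfl, rfl⟩
  obtain ⟨d, h1, e1⟩ := exists_cm_LL hd hx hU (l := w) ⟨hw, by simp only [w]; ring⟩
  obtain ⟨d', h2, e2⟩ := exists_cm_LL hd' hx' (fun h => hU' (UU_le_XL _ _ h)) (l := w⁻¹ * z)
    ⟨mul_mem ((Z2 K).inv_mem hw) hz, by
      simp only [M.mul_z, M.mul_v, M.inv_z, M.inv_v, M.inv_t, M.inv_u, M.inv_r, w, hz.2.1, hz.2.2.1, hz.2.2.2]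
      simp
      linear_combination -e⟩
  exact ⟨d, h1, g, hg, d', h2, g', hg', by rw [e1, e2, mul_inv_cancel_left]⟩

variable [CharP K p]

include p in
theorem e5b (h : SE F E O) (hX : NoX E) (hU : UU K ≤ E) (hQ : E ≤ Q2 K) (hne : E ≠ Q2 K) :
    ∃ a b, Dir a b ∧ XL a b ≤ E := by
  have hN : ∀ x ∈ Q2 K, x ∈ normalizer (E : Set (M K)) := fun x hx =>
    mem_normalizer_of_cm fun g hg => hU (cm_UU (hQ hg) hx)
  obtain ⟨x', hx', hE'⟩ := SetLike.exists_of_lt (lt_of_le_of_ne hQ hne)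
  obtain ⟨f, hO⟩ := h.ex
  have hf := h.piso f hO
  have hZ := Z2_le_UU.trans hU
  by_cases hfU : ∀ g ∈ UU K, f g ∈ UU K
  · refine absurd (.step hU hfU (St_cj.2 fun g hg => cm_UU (hQ hg) hx') (.step Z2_le_UU (fun z hz => ?_)
      (St_cj.2 fun g hg => cm_Z2_left hg _) (.step bot_le (fun g hg => ?_)
        (St_cj.2 fun g hg => cm_eq_one.2 (comm_Z2 hg hx')) .bot))) (h.ci f x' hO (hN _ hx') hE')
    · obtain ⟨d, hd, g, hg, d', hd', g', hg', rfl⟩ := E5b.gen hX hQ hz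
      rw [hf.map_mul (hZ (cm_Z2_left hd _)) (hZ (cm_Z2_left hd' _)), hf.map_cm (hU hd) hg, hf.map_cm (hU hd') hg']
      exact mul_mem (cm_Z2_left (hfU _ hd) _) (cm_Z2_left (hfU _ hd') _)
    · rw [mem_bot.1 hg, hf.mor.map_one]; exact one_mem _
  push Not at hfU
  obtain ⟨a, b, hd, hx⟩ := e5a (p := p) hU hQ hf hfU
  refine ⟨a, b, hd, fun x hxX => by_contra fun hE => h.chain f x x' hO (hN _ (XL_le_Q2 _ _ hxX)) hE (hN _ hx') hE' ?_⟩
  have u := hf.restrict hU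
  have z := hf.restrict hZ
  have i1 : img (UU K) f ≤ XL a b ⊓ E := fun g hg => by
    simpa using And.intro (hx _ (u.inv_maps hg)) (hf.maps (hU (u.inv_maps hg)))
  have i2 : img (Z2 K) f ≤ img (UU K) f := fun g hg => by simpa using u.maps (Z2_le_UU (z.inv_maps hg))
  have i3 : LL a b ≤ img (Z2 K) f := fun l hl => by
    obtain ⟨y, hy, hn⟩ := hfU
    obtain ⟨d, h1, rfl⟩ := exists_cm_LL hd (hx y hy) hn hl
    have := z.maps (cm_Z2_right (f⁻¹ d) hy)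
    rwa [hf.map_cm (hf.inv_maps (hU h1)) (hU hy), perm_apply_inv] at this
  have k : ∀ g ∈ E, g⁻¹ * (f * cj x' * f⁻¹ : Perm (M K)) g = f (cm (f⁻¹ g) x') := fun g hg => by
    have h1 := hf.inv_maps hg
    rw [cm, hf.map_mul (E.inv_mem h1) ((mem_normalizer_iff.1 (hN _ hx') _).1 h1), hf.mor.map_inv h1, perm_apply_inv]
    rfl
  have k1 : ∀ g ∈ E, g⁻¹ * (f * cj x' * f⁻¹ : Perm (M K)) g ∈ img (UU K) f := fun g hg =>
    k g hg ▸ u.maps (cm_UU (hQ (hf.inv_maps hg)) hx')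
  have k2 : ∀ g ∈ img (Z2 K) f, g⁻¹ * (f * cj x' * f⁻¹ : Perm (M K)) g = 1 := fun g hg => by
    rw [k g (i1 (i2 hg)).2, cm_eq_one.2 (comm_Z2 (z.inv_maps hg) hx'), hf.mor.map_one]
  exact .step inf_le_right (St_cj.2 fun g hg => have := cm_UU (hQ hg) (XL_le_Q2 _ _ hxX); ⟨UU_le_XL _ _ this, hU this⟩)
    (fun g hg => i1 (k1 g hg)) (.step i1 (St_cj.2 fun g hg => i2 (i3 (cm_XL hd hg.1 hxX))) (fun g hg => k1 g hg.2)
    (.step i2 (St_cj.2 fun g hg => i3 (cm_XL hd (i1 hg).1 hxX))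
      (fun g hg => k g (i1 hg).2 ▸ z.maps (cm_Z2_left (u.inv_maps hg) _))
    (.step i3 (St_cj.2 fun g hg => cm_XL hd (i1 (i2 hg)).1 hxX) (fun g hg => k2 g hg ▸ one_mem _)
    (.step bot_le (St_cj.2 fun g hg => cm_eq_one.2 (comm_Z2 hg.1 (XL_le_Q2 _ _ hxX))) (fun g hg => k2 g (i3 hg)) .bot))))

end Cfsg.Lib.D4F
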