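import Cfsg.Agent.D4F.F4

/-! Fusion systems over a Sylow subgroup of `³D₄(q)`: `XL a b ≤ E ≤ Q2` forces `E = Q2`. -/

set_option autoImplicit false
set_option linter.unusedSectionVars false

namespace Cfsg.Lib.D4F

open Cfsg Cfsg.FusionSystem Subgroup Equiv Cfsg.Lib.Fus

variable {K : Type*} [Field K] [Cub K] [Finite K]
  {F : FusionSystem (⊤ : Subgroup (M K))} {E : Subgroup (M K)} {O : Perm (M K) → Prop}

namespace E5c

theorem inv_cent {R : Subgroup (M K)} {f : Perm (M K)} (hf : PIso F f E E) (hR : R ≤ E) (h : ∀ g ∈ R, f g ∈ R)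
    (h' : ∀ g ∈ R, f⁻¹ g ∈ R) : ∀ g ∈ R ⊓ centralizer R, f g ∈ R ⊓ centralizer R := fun g hg => ⟨h g hg.1, fun y hy => by
  rw [← perm_apply_inv f y, ← hf.map_mul (hR (h' y hy)) (hR hg.1), hg.2 _ (h' y hy), hf.map_mul (hR hg.1) (hR (h' y hy))]⟩

/-- The second centre. -/
def R (hQ : E ≤ Q2 K) : Subgroup (M K) where
  carrier := {g | g ∈ E ∧ ∀ h ∈ E, cr h.t g.s = cr g.t h.s}
  one_mem' := ⟨one_mem _, fun _ _ => by simp [M.one_s, M.one_t]⟩
  mul_mem' := fun {a b} ha hb => ⟨mul_mem ha.1 hb.1, fun h hh => by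
    rw [M.mul_s, M.mul_t, mem_Q2.1 (hQ hb.1), zero_mul, add_zero, cr_add, add_cr, ha.2 h hh, hb.2 h hh]⟩
  inv_mem' := fun {a} ha => ⟨E.inv_mem ha.1, fun h hh => by
    rw [M.inv_s, M.inv_t, mem_Q2.1 (hQ ha.1), zero_mul, add_zero, cr_neg, ha.2 h hh, cr_comm (-_), cr_neg, cr_comm]⟩

theorem R_eq_1' : type_of% @R.eq_1 := @R.eq_1

theorem mem_R {hQ : E ≤ Q2 K} {g : M K} : g ∈ R hQ ↔ g ∈ E ∧ ∀ h ∈ E, cm g h ∈ Z2 K :=
  and_congr_right fun hg => forall₂_congr fun h hh => by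
    have := cm_UU (hQ hg) (hQ hh)
    rw [mem_Z2, cm_r (hQ hg) (hQ hh), sub_eq_zero]
    exact ⟨fun e => ⟨this.1, this.2.1, this.2.2, e⟩, fun e => e.2.2.2⟩

theorem exists_w {a b : K} (hd : Dir a b) {g : M K} (e : a * g.s = b * g.t) : ∃ w, g.t = a * w ∧ g.s = b * w := by
  rcases hd.2.2 with h | h
  · exact ⟨g.t / a, by field_simp, by field_simp; linear_combination e⟩
  · exact ⟨g.s / b, by field_simp; linear_combination -e, by field_simp⟩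

end E5c

open E5c

theorem e5c (h : SE F E O) (hX : NoX E) {a b : K} (hd : Dir a b) (hE : XL a b ≤ E)
    (hQ : E ≤ Q2 K) : E = Q2 K := by
  by_contra hne
  have hU := (UU_le_XL a b).trans hE
  obtain ⟨x, hx, hxE⟩ := SetLike.exists_of_lt (lt_of_le_of_ne hQ hne)
  obtain ⟨f, hO⟩ := h.ex
  obtain ⟨g0, h0, n0⟩ := SetLike.not_le_iff_exists.1 (hX a b hd)
  have e0 : a * g0.s - b * g0.t ≠ 0 := fun e => n0 ⟨hQ h0, sub_eq_zero.1 e⟩
  have hw : ∀ w, ∃ y ∈ E, y.t = a * w ∧ y.s = b * w := fun w =>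
    ⟨⟨a * w, 0, b * w, 0, 0, 0, by simp, by simp, by simp⟩, hE ⟨rfl, by ring⟩, rfl, rfl⟩
  have iZ : ∀ f, PIso F f E E → ∀ g ∈ Z2 K, f g ∈ Z2 K := fun f hf g hg => by
    have hg' := hU (Z2_le_UU hg)
    have c : ∀ y ∈ E, y * f g = f g * y := fun y hy => by
      rw [← perm_apply_inv f y, ← hf.map_mul (hf.inv_maps hy) hg', comm_Z2 hg (hQ (hf.inv_maps hy)),
        hf.map_mul hg' (hf.inv_maps hy)]
    have h1 := mem_UU_of_comm fun y hy => (c y (hU hy)).symm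
    have h2 : ∀ w, tr (a * (f g).r * w) = 0 ∧ tr (b * (f g).r * w) = 0 := fun w => by
      obtain ⟨y, hy, e1, e2⟩ := hw w
      have := (comm_UU_iff h1).1 (c y hy)
      rw [e1, e2, mem_Q2.1 (hQ hy), zero_mul, mul_right_comm a, mul_right_comm b] at this
      exact ⟨this.1, this.2.symm⟩
    refine ⟨h1.1, h1.2.1, h1.2.2, ?_⟩
    exact hd.2.2.elim (mul_eq_zero.1 (eq_zero_of_tr fun w => (h2 w).1)).resolve_left
      (mul_eq_zero.1 (eq_zero_of_tr fun w => (h2 w).2)).resolve_left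
  have iR : ∀ f, PIso F f E E → ∀ g ∈ R hQ, f g ∈ R hQ := fun f hf g hg => mem_R.2 ⟨hf.maps hg.1, fun y hy => by
    rw [← perm_apply_inv f y, ← hf.map_cm hg.1 (hf.inv_maps hy)]
    exact iZ f hf _ ((mem_R.1 hg).2 _ (hf.inv_maps hy))⟩
  have hf := h.piso f hO
  have UR : UU K ≤ R hQ := fun g hg => mem_R.2 ⟨hU hg, fun y _ => cm_Z2_left hg y⟩
  have k : ∀ g ∈ R hQ, ∃ c, σ c = c ∧ 2 * c = 0 ∧ g.t = a * (c * (a * g0.s - b * g0.t)) ∧
      g.s = b * (c * (a * g0.s - b * g0.t)) := fun g hg => by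
    obtain ⟨w, e1, e2⟩ := exists_w hd (g := g) (sub_eq_zero.1 (eq_zero_of_cr fun w => by
      obtain ⟨y, hy, e1, e2⟩ := hw w
      have := hg.2 y hy
      rw [e1, e2, fix_mul_cr hd.1, cr_fix_mul hd.2.1] at this
      rw [cr_sub, cr_fix_mul hd.1, cr_fix_mul hd.2.1, this, cr_comm, sub_self]))
    obtain ⟨c, h1, h2, rfl⟩ := eq_of_cr (t := w) e0 (by
      have := hg.2 g0 h0
      rw [e1, e2, fix_mul_cr hd.1, cr_fix_mul hd.2.1] at this
      rw [cr_sub, cr_fix_mul hd.1, cr_fix_mul hd.2.1, ← this, cr_comm, sub_self])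
    exact ⟨c, h1, h2, e1, e2⟩
  refine h.ci f x hO (mem_normalizer_of_cm fun g hg => hU (cm_UU (hQ hg) hx)) hxE
    (.step (Y := R hQ) (fun g hg => hg.1) (iR f hf) (St_cj.2 fun g hg => UR (cm_UU (hQ hg) hx))
    (.step inf_le_left (inv_cent hf (fun g hg => hg.1) (iR f hf) (iR _ hf.symm)) (St_cj.2 fun g hg => ?_)
    (.step (fun g hg => ⟨UR (Z2_le_UU hg), fun y hy => comm_Z2 hg (hQ hy.1)⟩) (iZ f hf)
      (St_cj.2 fun g hg => cm_Z2_left (mem_UU_of_comm fun y hy => (hg.2 y (UR hy)).symm) x)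
    (.step bot_le (fun g hg => by rw [mem_bot.1 hg, hf.mor.map_one]; exact one_mem _)
      (St_cj.2 fun g hg => cm_eq_one.2 (comm_Z2 hg hx)) .bot))))
  have h1 := cm_UU (hQ hg.1) hx
  refine ⟨UR h1, fun y hy => (comm_UU_iff h1).2 ?_⟩
  obtain ⟨c, c1, c2, e1, e2⟩ := k g hg
  obtain ⟨c', c3, -, e3, e4⟩ := k y hy
  rw [cm_r (hQ hg.1) hx, e1, e2, e3, e4, mem_Q2.1 (hQ hy.1), zero_mul]
  generalize a * g0.s - b * g0.t = e
  have h3 : ∀ d, σ d = d → tr (d * (c' * e) * (cr x.t (b * (c * e)) - cr (a * (c * e)) x.s)) = 0 := fun d hd' => by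
    have : tr (d * (c' * e) * (cr x.t (b * (c * e)) - cr (a * (c * e)) x.s)) =
      2 * c * (d * c' * (b * tr (sh e * x.t) - a * tr (sh e * x.s))) := by cub [hd', c1, c3, hd.1, hd.2.1]
    rw [this, c2, zero_mul]
  exact ⟨h3 a hd.1, (h3 b hd.2.1).symm⟩

end Cfsg.Lib.D4F
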