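import Cfsg.Agent.D4F.E3
import Cfsg.Agent.D4F.R1e

/-! An essential subgroup over `Z2` outside `Q1` and `Q2` contains `U`. -/

set_option autoImplicit false
set_option linter.unusedSectionVars false

namespace Cfsg.Lib.D4F

open Cfsg Cfsg.FusionSystem Subgroup Equiv Cfsg.Lib.Fus

variable {K : Type*} [Field K] [Cub K] [Finite K] {p : ℕ} [Fact p.Prime]
  {F : FusionSystem (⊤ : Subgroup (M K))} {E : Subgroup (M K)} {O : Perm (M K) → Prop} [CharP K p]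

open E3

include p in
theorem e6 (h : SE F E O) (hZ : Z2 K ≤ E) (h1 : ¬ E ≤ Q1 K) (h2 : ¬ E ≤ Q2 K) : UU K ≤ E := by
  intro x0 hx0
  by_contra hx
  obtain ⟨e0, he0, t0, u0⟩ := exists_tu h1 h2
  have hZZ : ZZ K ≤ E := ZZ_le_Z2.trans hZ
  have hN : ∀ x ∈ UU K, x ∈ normalizer (E : Set (M K)) := fun x k =>
    mem_normalizer_of_cm fun g _ => hZ (cm_Z2_right g k)
  obtain ⟨f, hf, mx, -⟩ := h.mx _ hZ
  have pf := h.piso f hf
  obtain ⟨z, hz, k0⟩ := ci2 h hf hx hZ (fun g _ => cm_Z2_right g hx0) fun g hg => comm_Z2 hg hx0.2.1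
  have hP : img (Z2 K) f ≤ E := img_le_iff.2 fun d hd => pf.maps (hZ hd)
  have sq : ∀ y ∈ img (Z2 K) f, y ∉ Z2 K → ∀ x ∈ UU K, x ∉ E → cm y x ∉ Z2 K ⊓ img (Z2 K) f :=
    fun y hy k x hx xE => h.sq _ hZ f hf mx x (hN x hx) xE (fun g hg => comm_Z2 hg hx.2.1) y hy k
  have cU : ∀ y ∈ img (Z2 K) f, y ∉ Z2 K → ∀ x ∈ UU K, x * y = y * x → x ∈ E := fun y hy k x hx e =>
    by_contra fun xE => sq y hy k x hx xE (by rw [cm_eq_one.2 e]; exact one_mem _)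
  have nU : ∀ y ∈ img (Z2 K) f, y ∉ Z2 K → y ∉ UU K := fun y hy k e => hx (cU y hy k x0 hx0 (comm_UU e hx0))
  have hB : ∀ y ∈ img (Z2 K) f, ∀ e ∈ E, cm y e ∈ img (ZZ K) f := fun y hy e he => by
    obtain ⟨d, hd, rfl⟩ := (pf.mor.restrict hZ).mem_img.1 hy
    rw [← perm_apply_inv f e, ← pf.map_cm (hZ hd) (pf.inv_maps he)]
    exact mem_img_of_mem f (cm_ZZ_left hd _)
  have hC : ∀ a ∈ img (ZZ K) f, (∀ g ∈ E, g * a = a * g) ∧ a ^ p = 1 := fun a ha => by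
    obtain ⟨d, hd, rfl⟩ := (pf.mor.restrict hZZ).mem_img.1 ha
    refine ⟨fun g hg => cen_map pf (hZZ hd) (fun g _ => comm_ZZ hd g) hg, ?_⟩
    rw [← pf.mor.mulOn.map_pow (hZZ hd), pow_UU (Z2_le_UU (ZZ_le_Z2 hd)), pf.mor.mulOn.map_one]
  have cZ := (pf.mor.restrict hZZ).card_img
  by_cases hQ : img (Z2 K) f ≤ Q2 K
  · have hQ1 : img (Z2 K) f ≤ Q12 K := fun y hy => ⟨by_contra fun yt => by
      have a := hC _ (hB y hy e0 he0)
      have := r1 (p := p) (a := 0) (b := 1) (y := cm y e0) ⟨map_zero _, map_one _, .inr one_ne_zero⟩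
        ⟨cm_u, by rw [cm_t]; ring⟩ (fun k => by
          have k' := k.2.2
          rw [cm_s, show y.u = 0 from hQ hy, mul_zero, zero_sub, neg_eq_zero] at k'
          exact mul_ne_zero yt u0 k') a.2 (hQ hy) (a.1 y (hP hy))
      exact yt (by simpa using this.2.symm), hQ hy⟩
    have e : img (ZZ K) f = ZZ K := eq_of_le_of_card_ge (img_le_iff.2 fun a ha => by
      have m := mem_img_of_mem f (ZZ_le_Z2 ha)
      have k : f a ∈ Z2 K := by_contra fun n => nU _ m n (by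
        obtain ⟨d, hd, rfl⟩ := exists_cm_ZZ u0 ha
        rw [pf.map_cm (hZ hd) he0]
        exact cm_UU_left (hQ1 (mem_img_of_mem f hd)) _)
      exact ⟨k.1, k.2.1, k.2.2.1, k.2.2.2, by_contra fun n =>
        u0 (mem_Q2_of_comm k n ((hC _ (mem_img_of_mem f ha)).1 e0 he0))⟩) cZ.ge
    have k := cm_ZZ (hQ1 (mem_img_of_mem f hz)).1 hx0.1
    exact sq _ (mem_img_of_mem f hz) k0 x0 hx0 hx ⟨ZZ_le_Z2 k, img_mono f ZZ_le_Z2 (e.ge k)⟩
  obtain ⟨y, hy, yu⟩ := SetLike.not_le_iff_exists.1 hQ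
  rw [mem_Q2] at yu
  have yZ : y ∉ Z2 K := fun k => yu k.2.1
  have e : ZZ K = img (ZZ K) f := eq_of_le_of_card_ge (fun a ha => by
    obtain ⟨d, hd, rfl⟩ := exists_cm yu ha
    exact hB y hy d (hZ hd)) cZ.le
  rw [← e] at hB
  have yt : y.t ≠ 0 := fun k => by
    have k' := (hB y hy e0 he0).2.2.1
    rw [cm_s, k, zero_mul, sub_zero] at k'
    exact mul_ne_zero t0 yu k'
  have dec : ∀ g ∈ E, ∃ d ∈ Z2 K, ∃ c, c * y = y * c ∧ g = d * c := fun g hg => by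
    obtain ⟨d, hd, k⟩ := exists_cm yu (hB y hy g hg)
    rw [cm, cm, mul_right_inj] at k
    refine ⟨d, hd, d⁻¹ * g, ?_, by group⟩
    calc _ = d⁻¹ * (g * y * g⁻¹) * g := by group
      _ = _ := by rw [← k]; group
  obtain ⟨w, hw, ws, wc⟩ := n1 yt yu
  have wE : ∀ g ∈ E, cm g w ∈ UU K ∧ cm g w * y = y * cm g w := fun g hg => by
    obtain ⟨d, hd, c, hc, rfl⟩ := dec g hg
    have : cm (d * c) w = cm c w := by
      rw [cm, cm, ← mul_assoc w, comm_Z2 hd hw.2]; group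
    rw [this]; exact wc c hc
  have wE' : ∀ g ∈ E, cm g w ∈ E := fun g hg => cU y hy yZ _ (wE g hg).1 (wE g hg).2
  refine h.ci f w hf (mem_normalizer_of_cm wE') (fun k => ?_)
    (.step (Y := E ⊓ centralizer E) inf_le_left (fun g hg => ⟨pf.maps hg.1, fun a ha =>
      cen_map pf hg.1 hg.2 ha⟩) (St_cj.2 fun g hg => ⟨wE' g hg, fun a ha => ?_⟩)
    (.step (Y := ZZ K) (fun a ha => ⟨hZZ ha, fun g _ => comm_ZZ ha g⟩)
      (fun a ha => e.ge (mem_img_of_mem f ha)) (St_cj.2 fun g hg => ?_)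
    (.step bot_le (fun g hg => ?_) (St_cj.2 fun g hg => mem_bot.2 (cm_eq_one.2 (comm_ZZ hg w))) .bot)))
  · have k' := (hB y hy w k).2.2.2.1
    rw [cm_r_right hw, neg_eq_zero, cr_comm] at k'
    obtain ⟨l, hl, -, e⟩ := eq_of_cr yt k'
    exact ws l hl e
  · obtain ⟨d, hd, c, hc, rfl⟩ := dec a ha
    rw [mul_assoc, ca yt yu hc (wE g hg).2, ← mul_assoc, ← comm_Z2 hd (wE g hg).1.2.1, mul_assoc]
  · have hv : ee (1 : K) (map_one _) ∈ Z2 K := ⟨rfl, rfl, rfl, rfl⟩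
    exact cm_ZZ (ca_s yu yt (hg.2 y (hP hy)).symm
      (mem_Q2_of_comm hv one_ne_zero (hg.2 _ (hZ hv)).symm)).1.1 hw.1
  · rw [mem_bot.1 hg, pf.mor.mulOn.map_one]; exact one_mem _

end Cfsg.Lib.D4F
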