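import Cfsg.Agent.D4F.F4
import Cfsg.Agent.D4F.R1e

/-! Fusion systems over a Sylow subgroup of `³D₄(q)`: images of the layers when `U ≤ E ≰ Q1, Q2`. -/

set_option autoImplicit false
set_option linter.unusedSectionVars false

namespace Cfsg.Lib.D4F

open Cfsg Cfsg.FusionSystem Subgroup Equiv Cfsg.Lib.Fus

variable {K : Type*} [Field K] [Cub K] [Finite K] {p : ℕ} [Fact p.Prime]
  {F : FusionSystem (⊤ : Subgroup (M K))} {E : Subgroup (M K)} {f : Perm (M K)}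

namespace E7a

theorem fm_conj {y : M K} (hy : y.t = 0) (e : M K) : (cm (e * y * e⁻¹) y).z =
    y.u ^ 2 * nm e.t + 2 * (y.u * tr (e.t * y.r) - tr (e.t * sh y.s)) := by
  rw [cm_z (by mdl [hy]) hy, vb_conj hy]
  simp only [fm, vb, xV, xf, Equiv.coe_fn_mk]
  cub [y.hu]

theorem map_cm' (hf : PIso F f E E) {g x : M K} (hg : g ∈ E) (hx : x ∈ E) : cm (f g) x = f (cm g (f⁻¹ x)) := by
  rw [hf.map_cm hg (hf.inv_maps hx), perm_apply_inv]

theorem comm_map (hf : PIso F f E E) {g x : M K} (hg : g ∈ E) (hx : x ∈ E) (h : g * x = x * g) :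
    f g * f x = f x * f g := by rw [← hf.map_mul hg hx, h, hf.map_mul hx hg]

variable [CharP K p]

include p in
theorem maps_U (hU : UU K ≤ E) {e : M K} (he : e ∈ E) (ht : e.t ≠ 0) (hu : e.u ≠ 0) (hf : PIso F f E E) {g : M K}
    (hg : g ∈ UU K) : f g ∈ Q12 K := by
  have c : ∀ x ∈ E, f g * cm (f g) x = cm (f g) x * f g := fun x hx => by
    have := Z2_le_UU (cm_Z2_left hg (f⁻¹ x))
    rw [map_cm' hf (hU hg) hx]
    exact comm_map hf (hU hg) (hU this) (comm_UU this hg)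
  have h1 : (f g).u = 0 := by
    by_contra h1
    by_cases h2 : (f g).t = 0
    swap
    · obtain ⟨r, hr⟩ := exists_tr h2 (map_one σ)
      have h3 : ed r ∈ UU K := ⟨rfl, rfl, rfl⟩
      exact h1 (mem_Q2_of_comm (cm_Z2_right _ h3) (by rw [cm_v_right h3]; simp [ed, hr]) (c _ (hU h3)))
    have z := cm_Z2_left hg (f⁻¹ e)
    have s : (cm (f g) e).s = (f g).u * e.t := by rw [cm_s, h2]; ring
    have h3 : (cm (cm (f g) e) e) ∈ ZZ K := by
      rw [map_cm' hf (hU hg) he, map_cm' hf (hU (Z2_le_UU z)) he]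
      refine Perm.perm_symm_on_of_perm_on_finite (f := f⁻¹) (p := (· ∈ ZZ K)) (fun w hw => ?_) (cm_ZZ_left z _)
      obtain ⟨d, hd, rfl⟩ := exists_cm_ZZ' (cm_Q12 (f g) e) (s ▸ mul_ne_zero h1 ht) hw
      rw [hf.symm.map_cm (hU hd) (map_cm' hf (hU hg) he ▸ hf.maps (hU (Z2_le_UU z))), map_cm' hf (hU hg) he,
        perm_inv_apply]
      exact cm_ZZ_right _ z
    have h4 := h3.2.2.2.1
    rw [cm_r_left (cm_Q12 _ _), s, cr_fix_mul (f g).hu, cr_self] at h4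
    have h5 := fm_conj h2 e
    rw [cm_eq_one.2 (by
      have := c e he
      rw [cm, mul_inv_cancel_left] at this
      rw [← mul_inv_cancel_left (f g) (e * f g * e⁻¹ * f g), ← mul_assoc _ _ (f g), ← this]), M.one_z,
      show (2 : K) = 0 by simpa [h1, ht] using h4] at h5
    simp [h1, ht] at h5
  refine ⟨by_contra fun h2 => h2 ?_, h1⟩
  have := (r1 (p := p) (a := 0) (b := 1) (y := cm (f g) e) ⟨map_zero _, map_one _, .inr one_ne_zero⟩
    ⟨cm_u, by simp [cm_t]⟩ (fun h => by simpa [cm_s, h1, h2, hu] using h.2.2) (by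
      have := Z2_le_UU (cm_Z2_left hg (f⁻¹ e))
      rw [map_cm' hf (hU hg) he, ← hf.mor.map_pow (hU this), pow_UU this, hf.mor.map_one]) h1 (c e he)).2
  simpa using this.symm

end E7a

open E7a

variable [CharP K p]

include p in
theorem e7a (hU : UU K ≤ E) (h1 : ¬ E ≤ Q1 K) (h2 : ¬ E ≤ Q2 K) {f : Perm (M K)}
    (hf : PIso F f E E) : (∀ g ∈ UU K, f g ∈ Q12 K) ∧ (∀ g ∈ Z2 K, f g ∈ UU K) ∧
      (∀ g ∈ ZZ K, f g ∈ ZZ K) ∧ ∀ g ∈ E, g ∈ Q1 K → f g ∈ Q1 K := by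
  obtain ⟨e, he, ht, hu⟩ := exists_tu h1 h2
  have a : ∀ g ∈ UU K, f g ∈ Q12 K := fun g => maps_U (p := p) hU he ht hu hf
  have a' : ∀ d ∈ UU K, f (cm d e) ∈ UU K := fun d hd => hf.map_cm (hU hd) he ▸ cm_UU_left (a d hd) _
  have b : ∀ g ∈ Z2 K, f g ∈ UU K := fun g hg => by
    obtain ⟨r, hr⟩ := exists_tr ht g.hv
    have h3 : ed r ∈ UU K := ⟨rfl, rfl, rfl⟩
    have h4 := cm_Z2_left h3 e
    have h5 := mul_mem ((Z2 K).inv_mem h4) hg
    obtain ⟨d, hd, e1⟩ := exists_cm_ZZ hu (z := (cm (ed r) e)⁻¹ * g) ⟨h5.1, h5.2.1, h5.2.2.1, h5.2.2.2, by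
      have : (cm (ed r) e).v = g.v := (cm_v_left h3).trans hr
      mdl [h4.1, h4.2.1, this]⟩
    rw [← mul_inv_cancel_left (cm (ed r) e) g, hf.map_mul (hU (Z2_le_UU h4)) (hU (Z2_le_UU h5)), ← e1]
    exact mul_mem (a' _ h3) (a' _ (Z2_le_UU hd))
  have c : ∀ g ∈ ZZ K, f g ∈ ZZ K := fun g hg => by
    obtain ⟨d, hd, e1⟩ := exists_cm_ZZ hu hg
    have h3 : f g ∈ Z2 K := by rw [← e1, hf.map_cm (hU (Z2_le_UU hd)) he]; exact cm_Z2_left (b d hd) _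
    refine ⟨h3.1, h3.2.1, h3.2.2.1, h3.2.2.2, by_contra fun h => hu (mem_Q2_of_comm h3 h ?_)⟩
    simpa using comm_map hf (hf.inv_maps he) (hU (Z2_le_UU (ZZ_le_Z2 hg))) (comm_ZZ hg _)
  refine ⟨a, b, c, fun g hg hQ => eq_zero_of_tr fun r => ?_⟩
  have h3 : ed r ∈ UU K := ⟨rfl, rfl, rfl⟩
  have h4 := c _ (cm_ZZ (Q12_le_Q1 (maps_U (p := p) hU he ht hu hf.symm h3)) hQ)
  rw [hf.map_cm (hf.inv_maps (hU h3)) hg, perm_apply_inv] at h4
  exact (cm_v_left h3).symm.trans h4.2.2.2.2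

end Cfsg.Lib.D4F
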