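import Cfsg.Agent.D4F.E7a
import Cfsg.Agent.D4F.E5c

/-! Fusion systems over a Sylow subgroup of `³D₄(q)`: `Q1 ≤ E` and the easy cases. -/

set_option autoImplicit false
set_option linter.unusedSectionVars false

namespace Cfsg.Lib.D4F

open Cfsg Cfsg.FusionSystem Subgroup Equiv Cfsg.Lib.Fus

variable {K : Type*} [Field K] [Cub K] [Finite K] {p : ℕ} [Fact p.Prime]
  {F : FusionSystem (⊤ : Subgroup (M K))} {E : Subgroup (M K)} {O : Perm (M K) → Prop}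

namespace E7b

variable (E) in
/-- The elements of `Q12` central in `E` modulo `Z2`. -/
def R : Subgroup (M K) where
  carrier := {g | g ∈ Q12 K ∧ ∀ h ∈ E, cr h.t g.s = 0}
  one_mem' := ⟨one_mem _, fun _ _ => by simp [M.one_s]⟩
  mul_mem' := fun {a b} ha hb => ⟨mul_mem ha.1 hb.1, fun h hh => by
    rw [M.mul_s, hb.1.2, zero_mul, add_zero, cr_add, ha.2 h hh, hb.2 h hh, add_zero]⟩
  inv_mem' := fun {a} ha => ⟨(Q12 K).inv_mem ha.1, fun h hh => by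
    rw [M.inv_s, ha.1.2, zero_mul, add_zero, cr_neg, ha.2 h hh, neg_zero]⟩

theorem R_eq_1' : type_of% @R.eq_1 := @R.eq_1

theorem mem_R {g : M K} : g ∈ R E ↔ g ∈ Q12 K ∧ ∀ h ∈ E, cm g h ∈ Z2 K :=
  and_congr_right fun hg => forall₂_congr fun h _ => by
    have := cm_UU_left hg h
    rw [mem_Z2, cm_r_left hg]
    exact ⟨fun e => ⟨this.1, this.2.1, this.2.2, e⟩, fun e => e.2.2.2⟩

theorem not_le (hQ : Q1 K ≤ E) : ¬ E ≤ Q2 K := fun h =>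
  one_ne_zero (mem_Q2.1 (h (hQ (show eb 1 (map_one σ) ∈ Q1 K from rfl))))

theorem inv_bot {f : Perm (M K)} (hf : PIso F f E E) : ∀ g ∈ (⊥ : Subgroup (M K)), f g ∈ (⊥ : Subgroup (M K)) :=
  fun g hg => by rw [mem_bot.1 hg, hf.mor.map_one]; exact one_mem _

end E7b

open E7a E7b

variable [CharP K p]

include p in
theorem e7b (h : SE F E O) (hU : UU K ≤ E) (h1 : ¬ E ≤ Q1 K) (h2 : ¬ E ≤ Q2 K) : Q1 K ≤ E := by
  by_contra hn
  obtain ⟨x, hx, hN, hE⟩ := Ess.exists_step_of_not_le (isPGroup_top (p := p)) le_top le_top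
    (fun x _ => mem_normalizer_of_cm fun g _ => Q12_le_Q1 (cm_Q12 g x)) hn
  obtain ⟨f, hO⟩ := h.ex
  have hf := h.piso f hO
  obtain ⟨-, -, c, d⟩ := e7a (p := p) hU h1 h2 hf
  exact h.ci f x hO hN hE (.step (Y := E ⊓ Q1 K) inf_le_left (fun g hg => ⟨hf.maps hg.1, d g hg.1 hg.2⟩)
    (St_cj.2 fun g hg => ⟨mul_mem (E.inv_mem hg) ((mem_normalizer_iff.1 hN _).1 hg), Q12_le_Q1 (cm_Q12 g x)⟩)
    (.step (fun g hg => ⟨hU (Z2_le_UU (ZZ_le_Z2 hg)), hg.1⟩) c (St_cj.2 fun g hg => cm_ZZ hg.2 hx)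
    (.step bot_le (inv_bot hf) (St_cj.2 fun g hg => cm_eq_one.2 (comm_ZZ hg x)) .bot)))

include p in
theorem e7c (h : SE F E O) (hQ : Q1 K ≤ E) (h1 : ¬ E ≤ Q1 K) {f : Perm (M K)} (hf : O f) :
    ¬ ∀ g ∈ Z2 K, f g ∈ Z2 K := fun iZ => by
  have h12 := Q12_le_Q1.trans hQ
  have hU := UU_le_Q12.trans h12
  have hZ := Z2_le_UU.trans hU
  obtain ⟨x, -, hx⟩ := SetLike.exists_of_lt (lt_top_iff_ne_top.2 h.ne)
  obtain ⟨e, he, ht⟩ := SetLike.not_le_iff_exists.1 h1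
  have iZ' : ∀ g ∈ Z2 K, f⁻¹ g ∈ Z2 K := fun g => Perm.perm_symm_on_of_perm_on_finite (p := (· ∈ Z2 K)) iZ
  have k : ∀ f, PIso F f E E → (∀ g ∈ Z2 K, f g ∈ Z2 K) → (∀ g ∈ Z2 K, f⁻¹ g ∈ Z2 K) →
      (∀ g ∈ Q12 K, f g ∈ Q12 K) ∧ ∀ g ∈ R E, f g ∈ R E := fun f hf a b => by
    have c : ∀ g ∈ Q12 K, f g ∈ Q12 K := fun g hg => by
      have h3 : ee 1 (map_one σ) ∈ Z2 K := ⟨rfl, rfl, rfl, rfl⟩
      refine ⟨(e7a (p := p) hU h1 (not_le hQ) hf).2.2.2 g (h12 hg) hg.1, mem_Q2_of_comm h3 one_ne_zero ?_⟩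
      simpa using comm_map hf (h12 hg) (hZ (b _ h3)) (comm_Z2 (b _ h3) hg.2)
    exact ⟨c, fun g hg => mem_R.2 ⟨c g hg.1, fun y hy =>
      map_cm' hf (h12 hg.1) hy ▸ a _ ((mem_R.1 hg).2 _ (hf.inv_maps hy))⟩⟩
  have hf' := h.piso f hf
  obtain ⟨i1, i2⟩ := k f hf' iZ iZ'
  have UR : UU K ≤ R E := fun g hg => mem_R.2 ⟨UU_le_Q12 hg, fun y _ => cm_Z2_left hg y⟩
  refine h.ci f x hf (mem_normalizer_of_cm fun g _ => h12 (cm_Q12 g x)) hx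
    (.step h12 i1 (St_cj.2 fun g _ => cm_Q12 g x)
    (.step (Y := R E) (fun g hg => hg.1) i2 (St_cj.2 fun g hg => UR (cm_UU_left hg x))
    (.step inf_le_left (E5c.inv_cent hf' (fun g hg => h12 hg.1) i2 (k _ hf'.symm iZ' iZ).2) (St_cj.2 fun g hg => ?_)
    (.step (fun g hg => ⟨UR (Z2_le_UU hg), fun y hy => comm_Z2 hg hy.1.2⟩) iZ
      (St_cj.2 fun g hg => cm_Z2_left (mem_UU_of_comm fun y hy => (hg.2 y (UR hy)).symm) x)
    (.step ZZ_le_Z2 (e7a (p := p) hU h1 (not_le hQ) hf').2.2.1 (St_cj.2 fun g hg => cm_ZZ_left hg x)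
    (.step bot_le (inv_bot hf') (St_cj.2 fun g hg => cm_eq_one.2 (comm_ZZ hg x)) .bot))))))
  have h3 := cm_UU_left hg.1 x
  refine ⟨UR h3, fun y hy => (comm_UU_iff h3).2 ?_⟩
  obtain ⟨c, c1, c2, e1⟩ := eq_of_cr ht ((cr_comm _ _).trans (hg.2 e he))
  obtain ⟨c', c3, -, e2⟩ := eq_of_cr ht ((cr_comm _ _).trans (hy.2 e he))
  have : tr (c' * e.t * cr x.t (c * e.t)) = 2 * c * (c' * tr (sh e.t * x.t)) := by cub [c1, c3]
  rw [cm_r_left hg.1, e1, e2, hy.1.1, hy.1.2, this, c2]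
  simp

include p in
theorem e7d (h2 : (2 : K) = 0) (hQ : Q1 K ≤ E) (h1 : ¬ E ≤ Q1 K) {f : Perm (M K)}
    (hf : PIso F f E E) : ∀ g ∈ Z2 K, f g ∈ Z2 K := fun g hg => by
  have h12 := Q12_le_Q1.trans hQ
  have hU := UU_le_Q12.trans h12
  obtain ⟨e, he, ht⟩ := SetLike.not_le_iff_exists.1 h1
  have c : ∀ y ∈ Q12 K, f⁻¹ y ∈ Q12 K := fun y hy => by
    have h3 := (e7a (p := p) hU h1 (not_le hQ) hf.symm).2.2.2 y (h12 hy) hy.1
    refine ⟨h3, ?_⟩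
    have h4 : f e * y * (f e)⁻¹ ∈ Q1 K := by rw [mem_Q1]; mdl [hy.1]
    have h5 := cm_ZZ h4 hy.1
    have h6 := congrArg (f⁻¹ : Perm _) (eq_one_of_Z2 (ZZ_le_Z2 h5) h5.2.2.2.2 (by rw [fm_conj hy.1, h2, hy.2]; simp))
    rw [hf.symm.map_cm (hQ h4) (h12 hy), hf.symm.map_conj (hf.maps he) (h12 hy), perm_inv_apply,
      hf.symm.mor.map_one] at h6
    have h7 := fm_conj h3 e
    rw [h6, h2, M.one_z] at h7
    simpa [show e.t ≠ 0 from ht] using h7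
  have h3 := (e7a (p := p) hU h1 (not_le hQ) hf).2.1 g hg
  refine ⟨h3.1, h3.2.1, h3.2.2, eq_zero_of_tr fun s => ?_⟩
  have h4 : ec s ∈ Q12 K := ⟨rfl, rfl⟩
  have h5 := ((comm_UU_iff h3 (x := ec s)).1 (by
    simpa using comm_map hf (h12 (c _ h4)) (hU (Z2_le_UU hg)) (comm_Z2 hg (c _ h4).2))).2
  rw [mul_comm]
  simpa [ec] using h5.symm

end Cfsg.Lib.D4F
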