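import Cfsg.Agent.D4F.E7a
import Cfsg.Agent.D4F.E3
import Cfsg.Agent.D4F.R1e

/-! The structure of an overgroup of `Q1` with an automorphism moving `Z2`. -/

set_option autoImplicit false
set_option linter.unusedSectionVars false

namespace Cfsg.Lib.D4F

open Cfsg Cfsg.FusionSystem Subgroup Equiv Cfsg.Lib.Fus

variable {K : Type*} [Field K] [Cub K] [Finite K] {p : ℕ} [Fact p.Prime]
  {F : FusionSystem (⊤ : Subgroup (M K))} {E : Subgroup (M K)} {O : Perm (M K) → Prop} [CharP K p]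

namespace E7e

theorem comm_map {f : Perm (M K)} (hf : PIso F f E E) {a b : M K} (ha : a ∈ E) (hb : b ∈ E) :
    f a * f b = f b * f a ↔ a * b = b * a := by
  rw [← hf.map_mul ha hb, ← hf.map_mul hb ha, f.apply_eq_iff_eq]

theorem comm_Q1 {g x : M K} (hg : g ∈ Q1 K) (hx : x ∈ Q1 K) : x * g = g * x ↔ fm (vb x) (vb g) = 0 := by
  rw [← cm_eq_one, ← cm_z hg hx]
  have := cm_ZZ hg hx
  exact ⟨fun e => by rw [e]; rfl, eq_one_of_Z2 (ZZ_le_Z2 this) this.2.2.2.2⟩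

theorem mem_Z2_of_comm {g : M K} (hg : g ∈ Q1 K) (h : ∀ x ∈ Q12 K, g * x = x * g) : g ∈ Z2 K := by
  have hU := mem_UU_of_comm fun x hx => h x (UU_le_Q12 hx)
  refine ⟨hg, hU.2.1, hU.2.2, eq_zero_of_tr fun s => ?_⟩
  have := ((comm_UU_iff hU).1 (h (ec s) ⟨rfl, rfl⟩).symm).2
  rw [mul_comm g.r]
  exact this.symm.trans (zero_mul _)

theorem mem_Q2_of_Z2 {g : M K} (h : ∀ x ∈ Z2 K, g * x = x * g) : g ∈ Q2 K :=
  mem_Q2_of_comm (g := ee (1 : K) (map_one _)) ⟨rfl, rfl, rfl, rfl⟩ one_ne_zero (h _ ⟨rfl, rfl, rfl, rfl⟩)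

theorem not_le_Q2 (hQ : Q1 K ≤ E) : ¬ E ≤ Q2 K := fun k =>
  one_ne_zero (k (hQ (show eb (1 : K) (map_one _) ∈ Q1 K from rfl)))

end E7e

open E3 E7e

include p in
theorem e7e (h2 : (2 : K) ≠ 0) (hQ : Q1 K ≤ E) {f : Perm (M K)} (hf : PIso F f E E)
    (hZ : ¬ ∀ g ∈ Z2 K, f g ∈ Z2 K) {e : M K} (he : e ∈ E) (ht : e.t ≠ 0) :
    (3 : K) = 0 ∧ (∀ g ∈ E, ∃ l, σ l = l ∧ g.t = l * e.t) ∧
      (∀ g ∈ Z2 K, ∃ l, σ l = l ∧ (f g).r = l * sh e.t) ∧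
      ∀ g ∈ UU K, ∃ l, σ l = l ∧ (f g).s = l * e.t := by
  have q12 : Q12 K ≤ E := Q12_le_Q1.trans hQ
  have hU : UU K ≤ E := UU_le_Q12.trans q12
  have z2 : Z2 K ≤ E := Z2_le_UU.trans hU
  obtain ⟨a1, a2, a3, a4⟩ := e7a (p := p) hU (fun k => ht (k he)) (not_le_Q2 hQ) hf
  obtain ⟨-, -, -, b4⟩ := e7a (p := p) hU (fun k => ht (k he)) (not_le_Q2 hQ) hf.symm
  push Not at hZ
  obtain ⟨g1, hg1, k1⟩ := hZ
  have wU := a2 g1 hg1
  have r1 : (f g1).r ≠ 0 := fun k => k1 ⟨wU.1, wU.2.1, wU.2.2, k⟩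
  have S : ∀ d ∈ Z2 K, ∃ c, σ c = c ∧ (f d).r = c * (f g1).r ∧ (f d).v = c * (f g1).v := by
    let φ : kk K × kk K → img (Z2 K) f := fun a =>
      ⟨⟨0, 0, 0, a.1 * (f g1).r, a.1 * (f g1).v, a.2, map_zero _, by simp, a.2.2⟩, by
        set g : M K := ⟨0, 0, 0, a.1 * (f g1).r, a.1 * (f g1).v, a.2, map_zero _, by simp, a.2.2⟩
        have gU : g ∈ UU K := ⟨rfl, rfl, rfl⟩
        refine (mem_img hf z2).2 (mem_Z2_of_comm (b4 g (hU gU) rfl) fun x hx => ?_)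
        have k := (comm_UU_iff wU).1 ((comm_map hf (q12 hx) (z2 hg1)).2 (comm_Z2 hg1 hx.2))
        rw [← comm_map hf (hf.inv_maps (hU gU)) (q12 hx), perm_apply_inv, eq_comm, comm_UU_iff gU]
        change tr (_ * ((a.1 : K) * _)) = 0 ∧ _ * ((a.1 : K) * _) = tr (_ * ((a.1 : K) * _))
        rw [mul_left_comm, tr_fix_mul a.1.2, k.1, mul_zero, mul_left_comm, k.2, mul_left_comm,
          tr_fix_mul a.1.2]
        exact ⟨rfl, rfl⟩⟩
    have hφ : Function.Injective φ := fun a b k => Prod.ext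
      (Subtype.ext (mul_right_cancel₀ r1 (congrArg (fun g => g.1.r) k))) (Subtype.ext (congrArg (fun g => g.1.z) k))
    intro d hd
    obtain ⟨a, k⟩ := (hφ.bijective_of_nat_card_le (by
      rw [(hf.mor.restrict z2).card_img, card_Z2, Nat.card_prod, sq])).2 ⟨f d, mem_img_of_mem f hd⟩
    exact ⟨a.1, a.1.2, (congrArg (fun g => g.1.r) k).symm, (congrArg (fun g => g.1.v) k).symm⟩
  have T : tr (e.t * (f g1).r) = 0 := by
    rw [← cm_v_left wU, ← perm_apply_inv f e, ← hf.map_cm (z2 hg1) (hf.inv_maps he)]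
    exact (a3 _ (cm_ZZ_left hg1 _)).2.2.2.2
  have C : ∀ a ∈ E, ∃ l, σ l = l ∧ 2 * sh a.t = l * (f g1).r := fun a ha => by
    refine of_perp r1 fun s hs => ?_
    have sQ : ec s ∈ Q12 K := ⟨rfl, rfl⟩
    have cE := hf.inv_maps (q12 sQ)
    have cQ : f⁻¹ (ec s) ∈ Q12 K := ⟨b4 _ (q12 sQ) rfl, mem_Q2_of_Z2 fun x hx => by
      obtain ⟨c, hc, k, -⟩ := S x hx
      rw [← comm_map hf cE (z2 hx), perm_apply_inv, comm_UU_iff (a2 x hx), k]
      refine ⟨by simp [ec], ?_⟩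
      change 0 * _ = tr (s * _)
      rw [mul_left_comm, tr_fix_mul hc, mul_comm s, hs, zero_mul, mul_zero]⟩
    have aE := hf.inv_maps ha
    have m := cm_UU_left cQ (f⁻¹ a)
    obtain ⟨c, -, k, k'⟩ := S _ (cm_Z2_left m (f⁻¹ a))
    rw [hf.map_cm (hU m) aE, hf.map_cm cE aE, perm_apply_inv, perm_apply_inv] at k k'
    have m' := cm_UU_left sQ a
    rw [(cm_Z2_left m' a).2.2.2] at k
    rw [(mul_eq_zero.1 k.symm).resolve_right r1, zero_mul, cm_v_left m', cm_r_left sQ, tr_mul_cr_self] at k'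
    rw [mul_assoc, tr_fix_mul (map_ofNat _ 2)]
    exact k'
  have s0 : sh e.t ≠ 0 := sh_eq_zero.not.2 ht
  obtain ⟨c, hc, R⟩ : ∃ c, σ c = c ∧ (f g1).r = c * sh e.t := by
    obtain ⟨l, hl, k⟩ := C e he
    have l0 : l ≠ 0 := fun n => mul_ne_zero h2 s0 (by rw [k, n, zero_mul])
    exact ⟨2 / l, σ_div_fix (map_ofNat _ 2) hl, by field_simp; linear_combination -k⟩
  have c0 : c ≠ 0 := fun n => r1 (by rw [R, n, zero_mul])
  refine ⟨?_, fun g hg => ?_, fun g hg => ?_, fun g hg => ?_⟩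
  · rw [R, mul_left_comm, tr_fix_mul hc, tr_mul_sh] at T
    exact (mul_eq_zero.1 ((mul_eq_zero.1 T).resolve_left c0)).resolve_right (nm_eq_zero.not.2 ht)
  · rcases eq_or_ne g.t 0 with g0 | g0
    · exact ⟨0, map_zero _, by rw [g0, zero_mul]⟩
    obtain ⟨l, hl, k⟩ := C g hg
    have hl' : σ (l * c / 2) = l * c / 2 := σ_div_fix (by rw [map_mul, hl, hc]) (map_ofNat _ 2)
    have k' : sh g.t = l * c / 2 * sh e.t := by rw [R] at k; field_simp; linear_combination k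
    have k2 := congrArg sh k'
    rw [sh_mul, sh_sh, sh_sh, sh_fix hl'] at k2
    have n0 := nm_eq_zero.not.2 g0
    refine ⟨(l * c / 2) ^ 2 * nm e.t / nm g.t, σ_div_fix (by rw [map_mul, map_pow, hl', σ_nm]) (σ_nm _), ?_⟩
    rw [div_mul_eq_mul_div, eq_div_iff n0]
    linear_combination k2
  · obtain ⟨l, hl, k, -⟩ := S g hg
    exact ⟨l * c, by rw [map_mul, hl, hc], by rw [k, R, mul_assoc]⟩
  · obtain ⟨l, hl, k, -⟩ := S _ (cm_Z2_left hg (f⁻¹ e))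
    rw [hf.map_cm (hU hg) (hf.inv_maps he), perm_apply_inv, cm_r_left (a1 g hg), R] at k
    have hl' : σ (l * c / 2) = l * c / 2 := σ_div_fix (by rw [map_mul, hl, hc]) (map_ofNat _ 2)
    refine ⟨l * c / 2, hl', sub_eq_zero.1 ((cr_eq_zero h2 (t := e.t) ?_).resolve_left ht)⟩
    rw [cr_sub, cr_fix_mul hl', cr_self, k]
    field_simp
    ring

end Cfsg.Lib.D4F
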