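import Cfsg.Agent.D4F.E7e

/-! For odd `p` an essential overgroup of `Q1` has `Z2` invariant. -/

set_option autoImplicit false
set_option linter.unusedSectionVars false

namespace Cfsg.Lib.D4F

open Cfsg Cfsg.FusionSystem Subgroup Equiv Cfsg.Lib.Fus

variable {K : Type*} [Field K] [Cub K] [Finite K] {p : ℕ} [Fact p.Prime]
  {F : FusionSystem (⊤ : Subgroup (M K))} {E : Subgroup (M K)} {O : Perm (M K) → Prop} [CharP K p]

open E3 E7e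

namespace E7f

theorem st_sup {A B Y : Subgroup (M K)} {x : M K} (hA : A ≤ E) (hB : B ≤ E)
    (hY : ∀ e ∈ E, ∀ y ∈ Y, e * y * e⁻¹ ∈ Y) (h1 : ∀ g ∈ A, cm g x ∈ Y) (h2 : ∀ g ∈ B, cm g x ∈ Y) :
    St (cj x) (A ⊔ B) Y := fun g hg => by
  let S : Subgroup (M K) :=
    { carrier := {g | g ∈ E ∧ cm g x ∈ Y}
      one_mem' := ⟨one_mem _, by simp [cm]⟩
      mul_mem' := fun {a b} ha hb => ⟨mul_mem ha.1 hb.1, by
        have := mul_mem (hY _ (inv_mem hb.1) _ ha.2) hb.2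
        convert this using 1
        simp only [cm]; group⟩
      inv_mem' := fun {a} ha => ⟨inv_mem ha.1, by
        have := hY _ ha.1 _ (inv_mem ha.2)
        convert this using 1
        simp only [cm]; group⟩ }
  exact ((sup_le (fun a ha => ⟨hA ha, h1 a ha⟩) fun a ha => ⟨hB ha, h2 a ha⟩ : A ⊔ B ≤ S) hg).2

theorem st_conj {f : Perm (M K)} (hf : PIso F f E E) {x : M K} (hx : ∀ g ∈ E, cm g x ∈ E)
    {X Y X' Y' : Subgroup (M K)} (hE : X ≤ E) (h1 : ∀ g ∈ X, f⁻¹ g ∈ X') (h2 : ∀ g ∈ Y', f g ∈ Y)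
    (h : St (cj x) X' Y') : St (f * cj x * f⁻¹ : Perm (M K)) X Y := fun g hg => by
  have k := hf.inv_maps (hE hg)
  have := h2 _ (h _ (h1 g hg))
  have e : x * f⁻¹ g * x⁻¹ ∈ E := by simpa [cm] using mul_mem k (hx _ k)
  rwa [cj_apply, hf.map_mul (inv_mem k) e, hf.mor.map_inv k, perm_apply_inv] at this

theorem img_le {f : Perm (M K)} (hf : PIso F f E E) {A : Subgroup (M K)} (hA : A ≤ E) : img A f ≤ E :=
  img_le_iff.2 fun _ ha => hf.maps (hA ha)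

theorem map_img {f : Perm (M K)} (hf : PIso F f E E) {A : Subgroup (M K)} (hA : A ≤ E) {g : M K}
    (hg : g ∈ img A ⇑f⁻¹) : f g ∈ A := by simpa using (mem_img hf.symm hA).1 hg

theorem map_sup {f : Perm (M K)} (hf : PIso F f E E) {A : Subgroup (M K)} (hA : A ≤ E) :
    ∀ g ∈ A ⊔ img A ⇑f⁻¹, f g ∈ A ⊔ img A f := by
  rw [← img_le_iff, img_sup (hf.mor.mulOn.mono (sup_le hA (img_le hf.symm hA)))]
  exact sup_le le_sup_right (img_le_iff.2 fun g hg => mem_sup_left (map_img hf hA hg))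

theorem map_inf {f : Perm (M K)} (hf : PIso F f E E) {A : Subgroup (M K)} (hA : A ≤ E) :
    ∀ g ∈ A ⊓ img A ⇑f⁻¹, f g ∈ A ⊓ img A f := fun _ hg => ⟨map_img hf hA hg.2, mem_img_of_mem f hg.1⟩

theorem map_cen {f : Perm (M K)} (hf : PIso F f E E) {A B : Subgroup (M K)} (hA : A ≤ E) (hB : B ≤ E)
    (h : ∀ g ∈ E, g ∈ B → f g ∈ B) :
    ∀ g ∈ B ⊓ (centralizer A ⊓ centralizer (img A ⇑f⁻¹)), f g ∈ B ⊓ (centralizer A ⊓ centralizer (img A f)) :=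
  fun g hg => ⟨h g (hB hg.1) hg.1, fun a ha => by
    rw [← perm_apply_inv f a]
    exact (comm_map hf (hf.inv_maps (hA ha)) (hB hg.1)).2 (hg.2.2 _ (mem_img_of_mem _ ha)), fun a ha => by
    obtain ⟨b, hb, rfl⟩ := (hf.mor.restrict hA).mem_img.1 ha
    exact (comm_map hf (hA hb) (hB hg.1)).2 (hg.2.1 b hb)⟩

include p in
theorem claim (h2 : (2 : K) ≠ 0) (hQ : Q1 K ≤ E) {f : Perm (M K)} (hf : PIso F f E E)
    (hZ : ¬ ∀ g ∈ Z2 K, f g ∈ Z2 K) {e : M K} (he : e ∈ E) (ht : e.t ≠ 0) {t : K} (h : tr (sh e.t * t) = 0) :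
    St (cj (ea t)) (Q1 K) (Q1 K ⊓ (centralizer (Z2 K) ⊓ centralizer (img (Z2 K) f))) ∧
    UU K ⊔ img (UU K) f ≤ Q1 K ⊓ (centralizer (Z2 K) ⊓ centralizer (img (Z2 K) f)) ∧
    St (cj (ea t)) (UU K ⊔ img (UU K) f) (UU K ⊓ img (UU K) f) ∧
    Z2 K ⊔ img (Z2 K) f ≤ UU K ⊓ img (UU K) f ∧ St (cj (ea t)) (Z2 K ⊔ img (Z2 K) f) (ZZ K) := by
  have q12 : Q12 K ≤ E := Q12_le_Q1.trans hQ
  have hU : UU K ≤ E := UU_le_Q12.trans q12
  have z2 : Z2 K ≤ E := Z2_le_UU.trans hU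
  obtain ⟨a1, a2, -, -⟩ := e7a (p := p) hU (fun k => ht (k he)) (not_le_Q2 hQ) hf
  obtain ⟨-, b2, -, -⟩ := e7a (p := p) hU (fun k => ht (k he)) (not_le_Q2 hQ) hf.symm
  obtain ⟨-, -, c1, c2⟩ := e7e (p := p) h2 hQ hf hZ he ht
  have d1 : ∀ y ∈ img (Z2 K) f, y ∈ UU K ∧ tr (t * y.r) = 0 := fun y hy => by
    obtain ⟨d, hd, rfl⟩ := (hf.mor.restrict z2).mem_img.1 hy
    obtain ⟨l, hl, k⟩ := c1 d hd
    exact ⟨a2 d hd, by rw [k, mul_left_comm, tr_fix_mul hl, mul_comm t, h, mul_zero]⟩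
  have d2 : ∀ y ∈ img (UU K) f, y ∈ Q12 K ∧ ∃ l, σ l = l ∧ y.s = l * e.t := fun y hy => by
    obtain ⟨d, hd, rfl⟩ := (hf.mor.restrict hU).mem_img.1 hy
    exact ⟨a1 d hd, c2 d hd⟩
  have d3 : Z2 K ≤ img (UU K) f := fun g hg => (mem_img hf hU).2 (b2 g hg)
  have nU : ∀ a, ∀ y ∈ UU K, a * y * a⁻¹ ∈ UU K := fun a y hy => by
    simpa [cm] using mul_mem hy (Z2_le_UU (cm_Z2_left hy a))
  refine ⟨St_cj.2 fun g hg => ⟨cm_t, fun a ha => (comm_Z2 ha cm_u).symm, fun a ha => ?_⟩,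
    sup_le (fun g hg => ⟨hg.1, fun a ha => comm_UU hg (Z2_le_UU ha), fun a ha => comm_UU hg (d1 a ha).1⟩)
      (fun g hg => ⟨(d2 g hg).1.1, fun a ha => (comm_Z2 ha (d2 g hg).1.2).symm, fun a ha => ?_⟩),
    st_sup hU (img_le hf hU) (fun a ha y hy => ⟨nU a y hy.1, ?_⟩)
      (fun g hg => ⟨Z2_le_UU (cm_Z2_left hg _), d3 (cm_Z2_left hg _)⟩) fun g hg => ?_,
    sup_le (le_inf Z2_le_UU d3) (le_inf (fun g hg => (d1 g hg).1) (img_mono f Z2_le_UU)),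
    st_sup z2 (img_le hf z2) (fun a _ y hy => by rw [comm_ZZ hy a]; simpa using hy)
      (fun g hg => cm_ZZ_left hg _) fun g hg => ?_⟩
  · obtain ⟨k1, k2⟩ := d1 a ha
    rw [eq_comm, comm_UU_iff k1, cm_t, cm_u, cm_s, show g.t = 0 from hg]
    refine ⟨by simp, ?_⟩
    change 0 * _ = tr ((t * g.u - 0 * 0) * a.r)
    rw [zero_mul, zero_mul, sub_zero, mul_comm t, mul_assoc, tr_fix_mul g.hu, k2, mul_zero]
  · obtain ⟨d, hd, rfl⟩ := (hf.mor.restrict hU).mem_img.1 hg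
    obtain ⟨b, hb, rfl⟩ := (hf.mor.restrict z2).mem_img.1 ha
    exact (comm_map hf (z2 hb) (hU hd)).2 (comm_UU hd (Z2_le_UU hb))
  · obtain ⟨d, hd, rfl⟩ := (hf.mor.restrict hU).mem_img.1 hy.2
    rw [← perm_apply_inv f a, ← hf.map_conj (hf.inv_maps ha) (hU hd)]
    exact mem_img_of_mem f (nU _ d hd)
  · obtain ⟨k1, l, hl, k2⟩ := d2 g hg
    have m := cm_UU_left k1 (ea t)
    refine ⟨m, (mem_img hf hU).2 (mem_UU_of_comm fun d hd => ?_)⟩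
    obtain ⟨k3, l', hl', k4⟩ := d2 _ (mem_img_of_mem f hd)
    rw [← comm_map hf (hf.inv_maps (hU m)) (hU hd), perm_apply_inv, eq_comm, comm_UU_iff m, k3.1, k3.2, k4,
      cm_r_left k1, k2]
    refine ⟨by simp, ?_⟩
    change 0 * _ = tr (_ * cr t _)
    rw [cr_fix_mul hl, mul_assoc, tr_fix_mul hl', mul_left_comm, tr_fix_mul hl, cr_comm, tr_mul_cr_self, h]
    simp
  · obtain ⟨k1, k2⟩ := d1 g hg
    have m := cm_Z2_left k1 (ea t)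
    exact ⟨m.1, m.2.1, m.2.2.1, m.2.2.2, (cm_v_left k1).trans k2⟩

end E7f

open E7f

include p in
theorem e7f (h2 : (2 : K) ≠ 0) (h : SE F E O) (hQ : Q1 K ≤ E) (h1 : ¬ E ≤ Q1 K) {f : Perm (M K)}
    (hf : O f) : ∀ g ∈ Z2 K, f g ∈ Z2 K := by
  by_contra hZ
  have pf := h.piso f hf
  have q12 : Q12 K ≤ E := Q12_le_Q1.trans hQ
  have hU : UU K ≤ E := UU_le_Q12.trans q12
  have z2 : Z2 K ≤ E := Z2_le_UU.trans hU
  have hZ' : ¬ ∀ g ∈ Z2 K, f⁻¹ g ∈ Z2 K := fun k => hZ fun g hg => by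
    simpa using ((pf.symm.mor.restrict z2).piso_of_maps k).inv_maps hg
  obtain ⟨e, he, ht⟩ := SetLike.not_le_iff_exists.1 h1
  obtain ⟨t, t1, t2⟩ := exists_perp_not (sh e.t) ht
  obtain ⟨-, -, a3, a4⟩ := e7a (p := p) hU h1 (not_le_Q2 hQ) pf
  obtain ⟨-, -, b3, b4⟩ := e7a (p := p) hU h1 (not_le_Q2 hQ) pf.symm
  obtain ⟨c1, c2, c3, c4, c5⟩ := claim (p := p) h2 hQ pf hZ he ht t1
  obtain ⟨d1, -, d3, -, d5⟩ := claim (p := p) h2 hQ pf.symm hZ' he ht t1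
  have hx : ∀ g ∈ E, cm g (ea t) ∈ E := fun g _ => q12 (cm_Q12 g _)
  have xE : ea t ∉ E := fun k => by
    obtain ⟨l, hl, e⟩ := (e7e (p := p) h2 hQ pf hZ he ht).2.1 _ k
    exact t2 l hl e
  have s0 : St (cj (ea t)) E (Q1 K) := St_cj.2 fun g _ => cm_t
  have s2 : ∀ (A B : Subgroup (M K)), St (cj (ea t)) (Q1 K ⊓ (centralizer (Z2 K) ⊓ A)) (UU K ⊔ B) :=
    fun A B => St_cj.2 fun g hg => mem_sup_left
      (cm_UU_left ⟨hg.1, mem_Q2_of_Z2 fun a ha => (hg.2.1 a ha).symm⟩ _)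
  have s4 : ∀ (A B : Subgroup (M K)), St (cj (ea t)) (UU K ⊓ A) (Z2 K ⊔ B) :=
    fun A B => St_cj.2 fun g hg => mem_sup_left (cm_Z2_left hg.1 _)
  have s6 : St (cj (ea t)) (ZZ K) ⊥ := St_cj.2 fun g hg => mem_bot.2 (cm_eq_one.2 (comm_ZZ hg _))
  have m2 := map_cen pf.symm z2 hQ b4
  have m3 := map_sup pf.symm hU
  have m4 := map_inf pf.symm hU
  have m5 := map_sup pf.symm z2
  rw [inv_inv] at m2 m3 m4 m5
  refine h.chain f _ _ hf (mem_normalizer_of_cm hx) xE (mem_normalizer_of_cm hx) xE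
    (.step hQ s0 (st_conj pf hx le_rfl (fun g hg => pf.inv_maps hg) (fun g hg => a4 g (hQ hg) hg) s0)
    (.step inf_le_left c1 (st_conj pf hx hQ (fun g hg => b4 g (hQ hg) hg) (map_cen pf z2 hQ a4) d1)
    (.step c2 (s2 _ _) (st_conj pf hx (inf_le_left.trans hQ) m2 (map_sup pf hU) (s2 _ _))
    (.step (inf_le_left.trans le_sup_left) c3
      (st_conj pf hx (sup_le hU (img_le pf hU)) m3 (map_inf pf hU) d3)
    (.step c4 (s4 _ _) (st_conj pf hx (inf_le_left.trans hU) m4 (map_sup pf z2) (s4 _ _))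
    (.step (ZZ_le_Z2.trans le_sup_left) c5 (st_conj pf hx (sup_le z2 (img_le pf z2)) m5 a3 d5)
    (.step bot_le s6 (st_conj pf hx (ZZ_le_Z2.trans z2) b3 (fun g hg => ?_) s6) .bot)))))))
  rw [mem_bot.1 hg, pf.mor.mulOn.map_one]; exact one_mem _

end Cfsg.Lib.D4F
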