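import Cfsg.Agent.D4F.E2c

/-! Essential subgroups inside `Q1` or `XL 1 l`. -/

set_option autoImplicit false

namespace Cfsg.Lib.D4F

open Cfsg Cfsg.FusionSystem Subgroup Equiv Cfsg.Lib.Fus

theorem lemX {G : Type*} [Group G] [Finite G] {F : FusionSystem (⊤ : Subgroup G)}
    {E X L : Subgroup G} {O : Perm G → Prop}
    (h : SE F E O) (hEX : E ≤ X) (h1 : ∀ l ∈ L, l ∈ X ∧ ∀ x ∈ X, x * l = l * x)
    (h2 : ∀ g ∈ X, ∀ x ∈ X, g⁻¹ * (x * g * x⁻¹) ∈ L)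
    (h3 : ∀ y ∈ X, ∀ l ∈ L, ∃ a ∈ X, ∃ b ∈ X, a * y = y * a ∧ b * y = y * b ∧
      l = a⁻¹ * (b * a * b⁻¹)) : E = X := by
  have LE : L ≤ E := fun l hl => h.cen l fun g hg => ((h1 l hl).2 g (hEX hg)).symm
  by_contra ne
  obtain ⟨x, hx, xE⟩ := SetLike.exists_of_lt (lt_of_le_of_ne hEX ne)
  have N : ∀ x ∈ X, x ∈ normalizer (E : Set G) := fun x hx => mem_normalizer_of_finite fun g hg => by
    have := mul_mem hg (LE (h2 g (hEX hg) x hx))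
    rwa [mul_inv_cancel_left] at this
  obtain ⟨f, hf, mx, -⟩ := h.mx L LE
  have hi := h.piso f hf
  by_cases c : ∀ l ∈ L, f l ∈ L
  · exact h.ci f x hf (N x hx) xE (.step LE c (fun g hg => h2 g (hEX hg) x hx) (.step bot_le
      (fun g hg => by rw [mem_bot.1 hg, hi.mor.map_one]; exact one_mem _)
      (fun l hl => by simp [cj_apply, (h1 l hl).2 x hx]) .bot))
  push Not at c
  obtain ⟨l, hl, n⟩ := c
  have C : ∀ a ∈ X, a * f l = f l * a → a ∈ E := fun a ha e => by_contra fun aE =>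
    h.sq L LE f hf mx a (N a ha) aE (fun z hz => (h1 z hz).2 a ha) (f l) (mem_img_of_mem f hl) n
      (by rw [e]; simp)
  obtain ⟨a, ha, b, hb, e1, e2, e⟩ := h3 (f l) (hEX (hi.maps (LE hl))) l hl
  have aE := C a ha e1
  have bE := C b hb e2
  rw [e, hi.map_mul (inv_mem aE) (mul_mem (mul_mem bE aE) (inv_mem bE)), hi.map_conj bE aE,
    hi.mor.map_inv aE] at n
  exact n (h2 _ (hEX (hi.maps aE)) _ (hEX (hi.maps bE)))

variable {K : Type*} [Field K] [Cub K] [Finite K]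
  {F : FusionSystem (⊤ : Subgroup (M K))} {E : Subgroup (M K)} {O : Perm (M K) → Prop}

theorem eq_Q1 (h : SE F E O) (hE : E ≤ Q1 K) : E = Q1 K := by
  refine lemX (L := ZZ K) h hE (fun l hl => ⟨hl.1, fun x _ => comm_ZZ hl x⟩) (fun g hg x hx => cm_ZZ hg hx)
    fun y hy l hl => ?_
  have c : ∀ a ∈ Q1 K, fm (vb a) (vb y) = 0 → a * y = y * a := fun a ha e =>
    cm_eq_one.1 (eq_one_of_Z2 (ZZ_le_Z2 (cm_ZZ hy ha)) (cm_ZZ hy ha).2.2.2.2 ((cm_z hy ha).trans e))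
  obtain ⟨s, r, e1, e2, e3⟩ := exists_pair y.r y.s l.hz
  have m : cm (ec s) (ed r) ∈ ZZ K := cm_ZZ rfl rfl
  refine ⟨ec s, rfl, ed r, rfl, c _ rfl ?_, c _ rfl ?_, Z2_ext (ZZ_le_Z2 hl) (ZZ_le_Z2 m)
    (hl.2.2.2.2.trans m.2.2.2.2.symm) ((cm_z (g := ec s) (x := ed r) rfl rfl).trans ?_).symm⟩
  · simpa [fm, vb, ec, mul_comm s] using e1
  · simpa [fm, vb, ed, mul_comm r] using e2
  · simpa [fm, vb, ec, ed, mul_comm r] using e3

theorem eq_XL (h : SE F E O) {l : K} (hl : σ l = l) (hE : E ≤ XL 1 l) : E = XL 1 l := by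
  have d := E2c.dir hl
  refine lemX (L := LL 1 l) h hE
    (fun a ha => ⟨UU_le_XL 1 l (Z2_le_UU ha.1), fun x hx => comm_Z2 ha.1 hx.1⟩)
    (fun g hg x hx => cm_XL d hg hx) fun y hy a ha => ?_
  have c : ∀ a ∈ XL 1 l, Bf (co l y) (co l a) = 0 → a * y = y * a := fun a ha e =>
    cm_eq_one.1 (E2c.LL_ext (cm_XL d hy ha) (one_mem _) ((cm_v_co hl hy ha).trans e))
  obtain ⟨s, r, e1, e2, e3⟩ := exists_pair (co l y).2 (co l y).1 a.hv
  obtain ⟨u, hu, eu⟩ := exists_co (l := l) (s, 0)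
  obtain ⟨w, hw, ew⟩ := exists_co (l := l) (0, r)
  refine ⟨w, hw, u, hu, c _ hw ?_, c _ hu ?_,
    E2c.LL_ext ha (cm_XL d hw hu) ((cm_v_co hl hw hu).trans ?_).symm⟩
  · simpa [ew, Bf] using e2
  · simpa [eu, Bf] using e1
  · simpa [eu, ew, Bf, mul_comm r] using e3

end Cfsg.Lib.D4F
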