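import Cfsg.Agent.D4F.SEa
import Cfsg.Agent.U5F.EssL

/-! The facts used about an essential subgroup. -/

set_option autoImplicit false

namespace Cfsg.Lib.D4F

open Cfsg Cfsg.FusionSystem Subgroup Equiv Cfsg.Lib.Fus Cfsg.Lib.Fus.Ess Cfsg.Lib.Solv

variable {p : ℕ} [Fact p.Prime] {G : Type*} [Group G] [Finite G]

theorem SE.ch_of_ci {F : FusionSystem (⊤ : Subgroup G)} {E : Subgroup G} {f : Perm G}
    (hf : PIso F f E E) {x : G} (hx : x ∈ normalizer (E : Set G)) {X : Subgroup G}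
    (h : Ci f x X) : (∀ g ∈ X, f g ∈ X) → X ≤ E → Ch (cj x) (f * cj x * f⁻¹ : Perm G) X := by
  induction h with
  | bot => exact fun _ _ => .bot
  | step hY h1 h2 _ ih =>
    refine fun hX hE => .step hY h2 (fun g hg => ?_) (ih h1 (hY.trans hE))
    have hg' := SEa.inv_maps hX hg
    have := h1 _ (h2 _ hg')
    rwa [cj_apply, hf.map_mul (inv_mem (hE hg')) (Fus.conj_mem_of_mem_normalizer hx (hE hg')),
      hf.mor.map_inv (hE hg'), perm_apply_inv] at this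

theorem SE.le_of_pgroup {E : Subgroup G} {D M R : Subgroup (MulAut E)} (h : U5F.SEm p E D M)
    (hR : R ≤ D) (hp : IsPGroup p R) {t : MulAut E} (ht : t ∈ autInducedBy ⊤ E) (ht' : t ∉ Inn E)
    (htR : t ∈ R) : R ≤ M := fun r hr => by
  obtain ⟨d, hd, k⟩ := h.syl.exists_conj hR hp
  have := h.mem d hd t ht ht' (h.le (k t htR))
  exact (mul_mem_cancel_left this).1 ((mul_mem_cancel_right (inv_mem this)).1 (h.le (k r hr)))

theorem exists_SE {F : FusionSystem (⊤ : Subgroup G)} (hS : IsPGroup p (⊤ : Subgroup G))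
    (hF : F.IsSaturated p) {E : Subgroup G} (hE : F.IsEssential p E) : ∃ O, SE F E O := by
  obtain ⟨M, h⟩ := U5F.sem_of_essential (hS.of_equiv topEquiv) hF hE
  have hC := isCentric_self hE.1
  have cT : ∀ {x} (hx : x ∈ normalizer (E : Set G)), conjAut E x hx ∈ autInducedBy ⊤ E :=
    fun hx => conjAut_mem_autInducedBy (mem_top _) hx
  have cI : ∀ {x} (hx : x ∈ normalizer (E : Set G)), x ∉ E → conjAut E x hx ∉ Inn E :=
    fun hx n k => n ((conjAut_mem_inn_iff hC le_top ⟨mem_top _, hx⟩).1 k)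
  have cD : ∀ {f x} (hf : PIso F f E E) (hx : x ∈ normalizer (E : Set G)),
      hf.aut * conjAut E x hx * hf.aut⁻¹ ∈ F.autGroup E := fun hf hx =>
    mul_mem (mul_mem hf.aut_mem (h.syl.le (cT hx))) (inv_mem hf.aut_mem)
  have chain : ∀ f x x', (∃ hf : PIso F f E E, hf.aut ∉ M) → x ∈ normalizer (E : Set G) → x ∉ E →
      x' ∈ normalizer (E : Set G) → x' ∉ E → ¬ Ch (cj x) (f * cj x' * f⁻¹ : Perm G) E := by
    rintro f x x' ⟨hf, n⟩ hx hxE hx' hxE' c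
    exact n (h.mem _ hf.aut_mem _ (cT hx') (cI hx' hxE') (SE.le_of_pgroup h
      ((closure_le _).2 (Set.pair_subset (h.syl.le (cT hx)) (cD hf hx')))
      (c.pgroup (hS.to_le le_top) (fun _ => rfl) fun _ => rfl) (cT hx) (cI hx hxE)
      (subset_closure (.inl rfl)) (subset_closure (.inr rfl))))
  obtain ⟨α, hα, hαM⟩ := SetLike.not_le_iff_exists.1 h.not_le
  have ex : ∃ f, ∃ hf : PIso F f E E, hf.aut ∉ M := ⟨_, piso_pext_of_mem le_top hα, fun k =>
    hαM ((show (piso_pext_of_mem le_top hα).aut = α from MulEquiv.ext fun x => Subtype.ext (pext_coe α x)) ▸ k)⟩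
  refine ⟨fun f => ∃ hf : PIso F f E E, hf.aut ∉ M,
    fun x hx => hC (mem_centralizerIn.2 ⟨trivial, fun y hy => (hx y hy).symm⟩),
    (lt_of_isEssential hS hF hE).ne, fun f hf => hf.1, ex,
    fun f ⟨hf, n⟩ => ⟨hf.symm, fun k => n (inv_mem_iff.1 k)⟩, fun f x ⟨hf, n⟩ hx hxE =>
      ⟨(hf.trans (PIso.cj F le_top ⟨mem_top _, hx⟩)).trans hf.symm, fun k => n (inv_mem_iff.1
        (h.mem _ (inv_mem hf.aut_mem) _ (cT hx) (cI hx hxE)
          (by convert k using 1; exact MulEquiv.ext fun _ => Subtype.ext rfl)))⟩, chain,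
    fun f x hf hx hxE c => chain f x x hf hx hxE hx hxE
      (SE.ch_of_ci hf.1 hx c (fun _ => hf.1.maps) le_rfl), fun Z hZ => ?_, ?_⟩
  · obtain ⟨f, hf, k⟩ := Set.exists_max_image _ (fun g : Perm G => Nat.card ↥(Z ⊓ img Z g))
      (Set.toFinite _) ex
    refine ⟨f, hf, k, fun g hg => (k g hg).trans_eq (Nat.card_congr (Equiv.subtypeEquiv f⁻¹ fun y => ?_))⟩
    rw [mem_inf, mem_inf, mem_img_perm (hf.1.mor.mulOn.mono hZ),
      mem_img_perm (hf.1.symm.mor.mulOn.mono hZ), inv_inv, perm_apply_inv, and_comm]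
  rintro Z hZ f ⟨hf, n⟩ mx x hx hxE xZ y hy yZ hd
  have iZ : ∀ {f : Perm G}, PIso F f E E → ∀ {y}, y ∈ img Z f ↔ f⁻¹ y ∈ Z :=
    fun hf _ => mem_img_perm (hf.mor.mulOn.mono hZ)
  let I := (Z ⊓ img Z f).subgroupOf E
  let y' : E := ⟨y, by simpa using hf.maps (hZ ((iZ hf).1 hy))⟩
  let H := subgroupOfFinite {g | g ∈ F.autGroup E ∧ (∀ i ∈ I, g i = i) ∧ y'⁻¹ * g y' ∈ I}
    ⟨one_mem _, fun _ _ => rfl, by simp⟩ fun a b ha hb => ⟨mul_mem ha.1 hb.1,
      fun i hi => by rw [MulAut.mul_apply, hb.2.1 i hi, ha.2.1 i hi], by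
        have := mul_mem ha.2.2 hb.2.2
        rwa [← ha.2.1 _ hb.2.2, mul_assoc, ← map_mul, mul_inv_cancel_left] at this⟩
  let H₀ := H ⊓ MulAction.stabilizer (MulAut E) y'
  obtain ⟨R, hR, xR⟩ := exists_sylIn_ge (A := H) (zpowers_le.2 ⟨h.syl.le (cT hx), fun i hi =>
    Subtype.ext (mul_inv_eq_iff_eq_mul.2 (xZ i hi.1)), hd⟩) (h.syl.pgroup.to_le (zpowers_le.2 (cT hx)))
  have fx : ∀ i : E, i.1 ∈ img Z f → (hf.aut * conjAut E x hx * hf.aut⁻¹) i = i := fun i hi =>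
    Subtype.ext (show f (x * f⁻¹ i * x⁻¹) = i by
      rw [xZ _ ((iZ hf).1 hi), mul_inv_cancel_right, perm_apply_inv])
  obtain ⟨j, hj⟩ := PG.exists_pow_prime_pow_eq_one h.syl.pgroup (cT hx)
  obtain ⟨k, ⟨⟨hk, kI, -⟩, ky⟩, e⟩ := (hR.inf_normal (N := H₀) inf_le_left fun g hg =>
    mem_normalizer_of_finite fun b hb => ⟨H.mul_mem (H.mul_mem hg hb.1) (H.inv_mem hg), by
      have := (H.inv_mem hg).2.2
      show g (b (g⁻¹ y')) = y'
      rw [← mul_inv_cancel_left y' (g⁻¹ y'), map_mul b, hb.1.2.1 _ this, show b y' = y' from hb.2,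
        mul_inv_cancel_left, MulAut.apply_inv_self]⟩).exists_conj
    (zpowers_le.2 ⟨⟨cD hf hx, fun i hi => fx i hi.2, by rw [fx y' hy]; simp⟩, fx y' hy⟩)
    (isPGroup_zpowers_of_pow (p := p) (j := j) (by rw [conj_pow, hj]; simp))
  have m := h.mem (k * hf.aut) (mul_mem hk hf.aut_mem) _ (cT hx) (cI hx hxE) (by
    simpa [mul_assoc] using SE.le_of_pgroup h (fun a ha => (hR.le ha).1) hR.pgroup (cT hx)
      (cI hx hxE) (xR (mem_zpowers _)) (e _ (mem_zpowers _)).1)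
  have hg := (hf.trans (piso_pext_of_mem le_top (inv_mem hk))).trans hf.symm
  have fy : ∀ i : E, i.1 ∈ img Z f → k i = i → f⁻¹ i ∈ Z ⊓ img Z (f⁻¹ * (pext E k⁻¹ * f) : Perm G) :=
    fun i hi e => ⟨(iZ hf).1 hi, (iZ hg).2 (by simpa [← map_inv, e] using (iZ hf).1 hi)⟩
  have lt : img (Z ⊓ img Z f) (f⁻¹ : Perm G) < Z ⊓ img Z (f⁻¹ * (pext E k⁻¹ * f) : Perm G) :=
    lt_of_le_of_ne (img_le_iff.2 fun i hi => fy ⟨i, hZ hi.1⟩ hi.2 (kI _ hi)) fun e => yZ (by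
      have := e.ge (fy y' hy ky)
      rw [mem_img_perm (hf.symm.mor.mulOn.mono (inf_le_left.trans hZ)), inv_inv,
        perm_apply_inv] at this
      exact this.1)
  have := card_lt_card_of_lt lt
  rw [(hf.symm.mor.restrict (inf_le_left.trans hZ)).card_img] at this
  refine this.not_ge (mx _ ⟨hg, fun c => n ?_⟩)
  rw [show hg.aut = (k * hf.aut)⁻¹ * hf.aut from MulEquiv.ext fun i => Subtype.ext
    (congrArg (f⁻¹ : Perm G) (pext_coe k⁻¹ (hf.aut i)))] at c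
  exact (mul_mem_cancel_left (inv_mem m)).1 c

end Cfsg.Lib.D4F
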