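import Cfsg.Agent.D4F.EX
import Cfsg.Agent.D4F.E4
import Cfsg.Agent.D4F.E5b
import Cfsg.Agent.D4F.E6
import Cfsg.Agent.D4F.E7b
import Cfsg.Agent.D4F.E7f
import Cfsg.Agent.D4F.SE
import Cfsg.Agent.D4F.E2o
import Cfsg.Agent.D4F.E2e

/-! The essential subgroups are among `Q1` and `Q2`. -/

set_option autoImplicit false

namespace Cfsg.Lib.D4F

open Cfsg Cfsg.FusionSystem Subgroup Equiv Cfsg.Lib.Fus

variable {K : Type*} [Field K] [Cub K] [Finite K] {p : ℕ} [Fact p.Prime]
  {F : FusionSystem (⊤ : Subgroup (M K))} {E : Subgroup (M K)} [CharP K p]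

theorem ess (hF : F.IsSaturated p) (hE : F.IsEssential p E) : E = Q1 K ∨ E = Q2 K := by
  obtain ⟨O, h⟩ := exists_SE isPGroup_top hF hE
  by_cases h1 : E ≤ Q1 K
  · exact .inl (eq_Q1 h h1)
  have hX : NoX E := fun a b hd hle => by
    by_cases ha : a = 0
    · exact h1 fun g hg => by
        have := (hle hg).2
        rw [ha, zero_mul] at this
        exact (mul_eq_zero.1 this.symm).resolve_left (hd.2.2.resolve_left fun k => k ha)
    have hl := σ_div_fix hd.2.1 hd.1
    obtain rfl := eq_XL h hl fun g hg => ⟨(hle hg).1, by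
      have := (hle hg).2
      field_simp
      rw [mul_comm, this]⟩
    by_cases hp : p = 2
    exacts [e2e hp hl h, e2o hp hF hl hE]
  have hZ := e3 h h1
  by_cases h2 : E ≤ Q2 K
  · refine .inr (by_contra fun hne => ?_)
    obtain ⟨a, b, hd, hle⟩ := e5b (p := p) h hX (e4 (p := p) h hX hZ h2) h2 hne
    exact hne (e5c h hX hd hle h2)
  have hQ := e7b (p := p) h (e6 (p := p) h hZ h1 h2) h1 h2
  obtain ⟨f, hf⟩ := h.ex
  refine (e7c (p := p) h hQ h1 hf ?_).elim
  by_cases h0 : (2 : K) = 0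
  exacts [e7d (p := p) h0 hQ h1 (h.piso f hf), e7f (p := p) h0 h hQ h1 hf]

end Cfsg.Lib.D4F
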