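import Cfsg.Agent.D4F.Defs2

/-! Fusion systems over a Sylow subgroup of `³D₄(q)`: the trace form. -/

set_option autoImplicit false

namespace Cfsg.Lib.D4F

variable {K : Type*} [Field K] [Cub K]

theorem orderOf_σ : orderOf (σ : K ≃+* K) = 3 :=
  haveI : Fact (Nat.Prime 3) := ⟨Nat.prime_three⟩
  orderOf_eq_prime (RingEquiv.ext fun x => σ3 x) fun h => by
    obtain ⟨x, hx⟩ := Cub.ne (K := K)
    exact hx (by rw [h]; rfl)

theorem of_perp {t r : K} (ht : t ≠ 0) (h : ∀ s, tr (t * s) = 0 → tr (r * s) = 0) :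
    ∃ l, σ l = l ∧ r = l * t := by
  obtain ⟨s₀, h₀⟩ := exists_tr ht (map_one σ)
  refine ⟨tr (r * s₀), σ_tr _, sub_eq_zero.1 (eq_zero_of_tr fun s => ?_)⟩
  have := h (s - tr (t * s) * s₀) (by
    rw [mul_sub, tr_sub, mul_left_comm, tr_fix_mul (σ_tr _), h₀]; ring)
  rw [mul_sub, tr_sub, mul_left_comm, tr_fix_mul (σ_tr _)] at this
  rw [sub_mul, tr_sub, mul_assoc, tr_fix_mul (σ_tr _)]
  linear_combination this

theorem Ind.symm {t s : K} (h : Ind t s) : Ind s t := fun a b ha hb e =>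
  (h b a hb ha (by rw [← e]; ring)).symm

theorem Ind.ne {t s : K} (h : Ind t s) : t ≠ 0 := fun e =>
  one_ne_zero (h 1 0 (map_one _) (map_zero _) (by simp [e])).1

theorem Ind.ne_mul {t s l : K} (h : Ind t s) (hl : σ l = l) : s ≠ l * t := fun e =>
  one_ne_zero (h (-l) 1 (by simp [hl]) (map_one _) (by rw [e]; ring)).2

theorem ind_of {t s : K} (ht : t ≠ 0) (h : ∀ l, σ l = l → s ≠ l * t) : Ind t s := by
  intro a b ha hb e
  obtain rfl : b = 0 := by
    by_contra hb0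
    exact h (-a / b) (σ_div_fix (by simp [ha]) hb) (by field_simp; linear_combination e)
  simpa [ht] using e

theorem exists_tr2' {t s m : K} (h : Ind t s) (hm : σ m = m) :
    ∃ r, tr (t * r) = 0 ∧ tr (s * r) = m := by
  obtain ⟨x, h1, h2⟩ : ∃ x, tr (t * x) = 0 ∧ tr (s * x) ≠ 0 := by
    by_contra! hc
    obtain ⟨l, hl, e⟩ := of_perp h.ne hc
    exact h.ne_mul hl e
  have := σ_div_fix hm (σ_tr (s * x))
  exact ⟨m / tr (s * x) * x, by rw [mul_left_comm, tr_fix_mul this, h1, mul_zero],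
    by rw [mul_left_comm, tr_fix_mul this, div_mul_cancel₀ _ h2]⟩

theorem exists_tr2 {t s l m : K} (h : Ind t s) (hl : σ l = l) (hm : σ m = m) :
    ∃ r, tr (t * r) = l ∧ tr (s * r) = m := by
  obtain ⟨x, h1, h2⟩ := exists_tr2' h hm
  obtain ⟨y, h3, h4⟩ := exists_tr2' h.symm hl
  exact ⟨x + y, by rw [mul_add, tr_add, h1, h4, zero_add], by rw [mul_add, tr_add, h2, h3, add_zero]⟩

theorem of_perp2 {t s r : K} (h : ∀ x, tr (t * x) = 0 → tr (s * x) = 0 → tr (r * x) = 0) :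
    ∃ a b, σ a = a ∧ σ b = b ∧ r = a * t + b * s := by
  by_cases ht : t = 0
  · by_cases hs : s = 0
    · exact ⟨0, 0, by simp, by simp, by
        simpa using eq_zero_of_tr fun x => h x (by simp [ht]) (by simp [hs])⟩
    obtain ⟨l, hl, e⟩ := of_perp hs fun x => h x (by simp [ht])
    exact ⟨0, l, by simp, hl, by simpa using e⟩
  by_cases hi : ∃ l, σ l = l ∧ s = l * t
  · obtain ⟨l, hl, rfl⟩ := hi
    obtain ⟨l, hl, e⟩ := of_perp ht fun x hx => h x hx (by rw [mul_assoc, tr_fix_mul hl, hx, mul_zero])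
    exact ⟨l, 0, hl, by simp, by simpa using e⟩
  have hi' : Ind t s := ind_of ht fun l hl e => hi ⟨l, hl, e⟩
  obtain ⟨x, x1, x2⟩ := exists_tr2 hi' (map_one σ) (map_zero σ)
  obtain ⟨y, y1, y2⟩ := exists_tr2 hi' (map_zero σ) (map_one σ)
  refine ⟨tr (r * x), tr (r * y), σ_tr _, σ_tr _, sub_eq_zero.1 (eq_zero_of_tr fun w => ?_)⟩
  have k : ∀ c, tr (c * (w - tr (t * w) * x - tr (s * w) * y)) =
      tr (c * w) - tr (t * w) * tr (c * x) - tr (s * w) * tr (c * y) := fun c => by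
    rw [mul_sub, mul_sub, tr_sub, tr_sub, mul_left_comm, tr_fix_mul (σ_tr _), mul_left_comm c,
      tr_fix_mul (σ_tr _)]
  have := h (w - tr (t * w) * x - tr (s * w) * y) (by rw [k, x1, y1]; ring) (by rw [k, x2, y2]; ring)
  rw [k] at this
  rw [sub_mul, add_mul, tr_sub, tr_add, mul_assoc, mul_assoc, tr_fix_mul (σ_tr _),
    tr_fix_mul (σ_tr _)]
  linear_combination this

theorem indep_sh {t s a b c : K} (h : Ind t s) (ha : σ a = a) (hb : σ b = b) (hc : σ c = c)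
    (e : a * sh t + b * cr t s + c * sh s = 0) : a = 0 ∧ b = 0 ∧ c = 0 := by
  have hs := h.symm.ne
  obtain ⟨x, rfl⟩ : ∃ x, t = x * s := ⟨t / s, by field_simp⟩
  have hx : σ x - x ≠ 0 := fun e => h.symm.ne_mul (sub_eq_zero.1 e) rfl
  have e1 : a * (σ x * σ (σ x)) + b * (σ x + σ (σ x)) + c = 0 :=
    mul_left_cancel₀ (sh_eq_zero.not.2 hs) (by rw [mul_zero, ← e]; cub [])
  have e2 := congrArg σ e1
  simp only [map_add, map_mul, ha, hb, hc, σ3, map_zero] at e2
  have e3 : a * σ (σ x) + b = 0 := mul_left_cancel₀ hx (by linear_combination e1 - e2)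
  have e4 := congrArg σ e3
  have e5 := congrArg σ e4
  simp only [map_add, map_mul, ha, hb, σ3, map_zero] at e4 e5
  obtain rfl : a = 0 := mul_left_cancel₀ hx (by linear_combination e5 - e4)
  obtain rfl : b = 0 := by linear_combination e3
  exact ⟨rfl, rfl, by linear_combination e1⟩

theorem exists_perp_not (a : K) {t : K} (ht : t ≠ 0) :
    ∃ s, tr (a * s) = 0 ∧ ∀ l, σ l = l → s ≠ l * t := by
  by_cases ha : a = 0
  · exact (exists_not_fix_mul ht).imp fun s hs => ⟨by simp [ha], hs⟩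
  by_contra! hc
  obtain ⟨y, hy⟩ := Cub.ne (K := K)
  have k : ∀ x, ∃ l, σ l = l ∧ (x - σ x) / a = l * t := fun x =>
    hc _ (by rw [mul_div_cancel₀ _ ha]; cub [])
  obtain ⟨l, hl, e⟩ := k y
  obtain ⟨m, hm, e'⟩ := k (σ y)
  obtain ⟨n, hn, e''⟩ := k (y * y)
  have d : y - σ y ≠ 0 := fun e => hy (sub_eq_zero.1 e).symm
  have hl0 : l ≠ 0 := by rintro rfl; simp [ha, d] at e
  rw [div_eq_iff ha] at e e' e''
  have f : l * (y + σ y) = n := mul_right_cancel₀ d (by
    rw [map_mul] at e''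
    linear_combination l * e'' - n * e)
  have f1 := congrArg σ f
  have f2 := congrArg σ f1
  simp only [map_mul, map_add, hl, hn, σ3] at f1 f2
  exact d (mul_left_cancel₀ hl0 (by linear_combination f2 - f1))

theorem exists_ind_perp (e : K) : ∃ r₁ r₂, Ind r₁ r₂ ∧ tr (e * r₁) = 0 ∧ tr (e * r₂) = 0 := by
  obtain ⟨r₁, h1, h2⟩ := exists_perp_not e (one_ne_zero (α := K))
  have h0 : r₁ ≠ 0 := fun e => h2 0 (map_zero _) (by simp [e])
  obtain ⟨r₂, h3, h4⟩ := exists_perp_not e h0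
  exact ⟨r₁, r₂, ind_of h0 h4, h1, h3⟩

theorem exists_perp (a b : K) : ∃ s, s ≠ 0 ∧ tr (a * s) = 0 ∧ tr (b * s) = 0 := by
  obtain ⟨r₁, r₂, h, h1, h2⟩ := exists_ind_perp a
  by_cases h3 : tr (b * r₁) = 0
  · exact ⟨r₁, h.ne, h1, h3⟩
  refine ⟨tr (b * r₂) * r₁ - tr (b * r₁) * r₂, fun e => h3 (neg_eq_zero.1
    (h (tr (b * r₂)) (-tr (b * r₁)) (σ_tr _) (by simp) (by rw [← e]; ring)).2), ?_, ?_⟩ <;>
  rw [mul_sub, tr_sub, mul_left_comm, tr_fix_mul (σ_tr _), mul_left_comm, tr_fix_mul (σ_tr _)]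
  · rw [h1, h2]; ring
  · ring

theorem exists_pair (r s : K) {l : K} (hl : σ l = l) :
    ∃ s₁ r₁, tr (r * s₁) = 0 ∧ tr (s * r₁) = 0 ∧ tr (s₁ * r₁) = l := by
  classical
  obtain ⟨r₁, h1, h2⟩ := exists_perp_not s (t := if r = 0 then 1 else r) (by split_ifs <;> simp_all)
  have h0 : r₁ ≠ 0 := fun e => h2 0 (map_zero _) (by simp [e])
  by_cases hr : r = 0
  · obtain ⟨s₁, h3⟩ := exists_tr h0 hl
    exact ⟨s₁, r₁, by simp [hr], h1, by rw [mul_comm, h3]⟩
  rw [if_neg hr] at h2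
  obtain ⟨s₁, h3, h4⟩ := exists_tr2' (ind_of hr h2) hl
  exact ⟨s₁, r₁, h3, h1, by rw [mul_comm, h4]⟩

theorem exists_cr_add (r : K) : ∃ a b c d, r = cr a b + cr c d := by
  obtain ⟨y, hy⟩ := Cub.ne (K := K)
  have d : σ (σ y) - y ≠ 0 := fun e => hy (by simpa using (congrArg σ (sub_eq_zero.1 e)).symm)
  obtain ⟨x, hx⟩ : ∃ x, σ (σ x) = r / (σ (σ y) - y) := ⟨σ (r / (σ (σ y) - y)), σ3 _⟩
  refine ⟨-σ (σ y), x, 1, y * x, ?_⟩
  rw [eq_div_iff d] at hx
  rw [← hx]; cub []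

variable [Finite K]

theorem finrank_K : Module.finrank (kk K) K = 3 := by
  classical
  have : Finite (K ≃+* K) :=
    Finite.of_injective (fun σ : K ≃+* K => (σ : K → K)) DFunLike.coe_injective
  have : Fintype (Subgroup.zpowers (σ : K ≃+* K)) := Fintype.ofFinite _
  have e : kk K = FixedPoints.subfield (Subgroup.zpowers (σ : K ≃+* K)) K := by
    ext t
    refine ⟨fun h => ?_, fun h => h ⟨σ, Subgroup.mem_zpowers σ⟩⟩
    rintro ⟨_, k, rfl⟩
    exact (Subgroup.zpowers_le (H := MulAction.stabilizer (K ≃+* K) t)).2 h ⟨k, rfl⟩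
  rw [e, FixedPoints.finrank_eq_card, ← Nat.card_eq_fintype_card, Nat.card_zpowers, orderOf_σ]

theorem card_K : Nat.card K = Nat.card (kk K) ^ 3 := by
  rw [← finrank_K (K := K), Module.natCard_eq_pow_finrank (K := kk K)]

theorem card_ker_mul {A B : Type*} [AddCommGroup A] [AddCommGroup B] (f : A →+ B)
    (h : Function.Surjective f) : Nat.card A = Nat.card B * Nat.card f.ker := by
  rw [AddSubgroup.card_eq_card_quotient_mul_card_addSubgroup f.ker,
    Nat.card_congr (QuotientAddGroup.quotientKerEquivOfSurjective f h).toEquiv]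

omit [Finite K] in
/-- The trace form as an additive map to `k`. -/
def trH (t : K) : K →+ kk K :=
  AddMonoidHom.mk' (fun s => ⟨tr (t * s), σ_tr _⟩) fun a b => Subtype.ext (by
    show tr (t * (a + b)) = tr (t * a) + tr (t * b)
    rw [mul_add, tr_add])

theorem trH_eq_1' : type_of% @trH.eq_1 := @trH.eq_1

theorem card_perp {t : K} (ht : t ≠ 0) :
    Nat.card {s : K // tr (t * s) = 0} = Nat.card (kk K) ^ 2 := by
  have h := card_ker_mul (trH t) fun c => (exists_tr ht c.2).imp fun _ h => Subtype.ext h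
  have e : Nat.card (trH t).ker = Nat.card {s : K // tr (t * s) = 0} :=
    Nat.card_congr (Equiv.subtypeEquivRight fun _ => Subtype.ext_iff)
  rw [card_K, e, pow_succ'] at h
  exact (Nat.eq_of_mul_eq_mul_left Nat.card_pos h).symm

theorem card_perp2 {t s : K} (h : Ind t s) :
    Nat.card {x : K // tr (t * x) = 0 ∧ tr (s * x) = 0} = Nat.card (kk K) := by
  have h := card_ker_mul ((trH t).prod (trH s)) fun c => (exists_tr2 h c.1.2 c.2.2).imp
    fun _ h => Prod.ext (Subtype.ext h.1) (Subtype.ext h.2)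
  have e : Nat.card ((trH t).prod (trH s)).ker =
      Nat.card {x : K // tr (t * x) = 0 ∧ tr (s * x) = 0} :=
    Nat.card_congr (Equiv.subtypeEquivRight fun _ =>
      Prod.ext_iff.trans (and_congr Subtype.ext_iff Subtype.ext_iff))
  rw [card_K, e, Nat.card_prod, pow_succ, sq] at h
  exact (Nat.eq_of_mul_eq_mul_left (Nat.mul_pos Nat.card_pos Nat.card_pos) h).symm

theorem exists_cr (h2 : (2 : K) ≠ 0) {t : K} (ht : t ≠ 0) (r : K) : ∃ s, cr t s = r :=
  Finite.surjective_of_injective (f := cr t) (fun a b e => sub_eq_zero.1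
    ((cr_eq_zero h2 (by rw [cr_sub, e, sub_self])).resolve_left ht)) r

end Cfsg.Lib.D4F
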