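import Cfsg.Agent.D4F.A1

/-! Fusion systems over a Sylow subgroup of `³D₄(q)`: the stabiliser of `Z` in `Aut_F(Q2)`. -/

set_option autoImplicit false
set_option linter.unusedSectionVars false

namespace Cfsg.Lib.D4F

open Cfsg Cfsg.FusionSystem Subgroup Equiv Cfsg.Lib.Fus

variable {K : Type*} [Field K] [Cub K] [Finite K] {p : ℕ} [Fact p.Prime]
  {F F' : FusionSystem (⊤ : Subgroup (M K))} {E : Subgroup (M K)} {O : Perm (M K) → Prop}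
  {H : Subgroup (Gm K)} {X : Subgroup (Perm (V K))}

section AO

variable {P : Subgroup (M K)} {f f' : Perm (M K)} {g x : M K}

theorem AutOn.mp (h : AutOn P f) (hg : g ∈ P) : f g ∈ P := (h.2 g).2 hg

theorem AutOn.iv (h : AutOn P f) : AutOn P f⁻¹ :=
  have k : ∀ g, f⁻¹ g ∈ P ↔ g ∈ P := fun g => by rw [← h.2, perm_apply_inv]
  ⟨fun a ha b hb => f.injective (by rw [h.1 _ ((k a).2 ha) _ ((k b).2 hb)]; simp), k⟩

theorem AutOn.ml (h : AutOn P f) (h' : AutOn P f') : AutOn P (f * f') :=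
  ⟨fun a ha b hb => by
    rw [Perm.mul_apply, h'.1 a ha b hb, h.1 _ (h'.mp ha) _ (h'.mp hb)]; rfl,
    fun g => (h.2 _).trans (h'.2 g)⟩

theorem AutOn.mcm (h : AutOn P f) (hg : g ∈ P) (hx : x ∈ P) : f (cm g x) = cm (f g) (f x) := by
  rw [cm, cm, h.1 _ (inv_mem hg) _ (mul_mem (mul_mem hx hg) (inv_mem hx)), h.1.map_conj hx hg,
    h.1.map_inv hg]

theorem AutOn.ex (h : AutOn P f) (hg : g ∈ P) : ∃ x ∈ P, f x = g :=
  ⟨_, h.iv.mp hg, perm_apply_inv _ _⟩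

theorem AutOn.cmm (h : AutOn P f) (hg : g ∈ P) (hx : x ∈ P) (e : g * x = x * g) :
    f g * f x = f x * f g := by rw [← h.1 g hg x hx, e, h.1 x hx g hg]

theorem ivm {A : Subgroup (M K)} (h : ∀ g ∈ A, f g ∈ A) : ∀ g ∈ A, f⁻¹ g ∈ A :=
  fun _ hg => SEa.inv_maps (s := (A : Set (M K))) h hg

end AO

theorem mem_Z2_of_comm {g : M K} (h : ∀ x ∈ Q2 K, x * g = g * x) : g ∈ Z2 K :=
  have hU := mem_UU_of_comm fun d hd => (h d (UU_le_Q12 hd).2).symm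
  ⟨hU.1, hU.2.1, hU.2.2, eq_zero_of_tr fun s => by
    rw [mul_comm]; exact ((comm_UU_iff hU).1 (h (ea s) rfl)).1⟩

theorem mem_UU_of_cm2 {g : M K} (hg : g ∈ Q2 K) (h : ∀ x ∈ Q2 K, cm g x ∈ Z2 K) : g ∈ UU K :=
  ⟨eq_zero_of_cr fun s => by
    simpa [ec, cr_comm s] using (cm_r hg (x := ec s) rfl).symm.trans (h (ec s) rfl).2.2.2, hg,
    eq_zero_of_cr fun s => by
      simpa [ea] using (cm_r hg (x := ea s) rfl).symm.trans (h (ea s) rfl).2.2.2⟩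

theorem q2_layers {f : Perm (M K)} (hf : AutOn (Q2 K) f) :
    (∀ g ∈ Z2 K, f g ∈ Z2 K) ∧ ∀ g ∈ UU K, f g ∈ UU K := by
  have h1 : ∀ g ∈ Z2 K, f g ∈ Z2 K := fun g hg => mem_Z2_of_comm fun x hx => by
    obtain ⟨y, hy, rfl⟩ := hf.ex hx
    exact hf.cmm hy hg.2.1 (comm_Z2 hg hy)
  refine ⟨h1, fun g hg => mem_UU_of_cm2 (hf.mp hg.2.1) fun x hx => ?_⟩
  obtain ⟨y, hy, rfl⟩ := hf.ex hx
  exact hf.mcm hg.2.1 hy ▸ h1 _ (cm_Z2_left hg y)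

theorem conj_Q1 (x : M K) {g : M K} (hg : g ∈ Q1 K) : x * g * x⁻¹ ∈ Q1 K := by
  show _ = _; mdl [mem_Q1.1 hg]

theorem conj_Q2 (x : M K) {g : M K} (hg : g ∈ Q2 K) : x * g * x⁻¹ ∈ Q2 K := by
  show _ = _; mdl [mem_Q2.1 hg]

theorem Ca.low {f : M K → M K} (h1 : ∀ g ∈ UU K, f g ∈ UU K) (h2 : ∀ g ∈ Z2 K, f g ∈ Z2 K)
    (h3 : ∀ g ∈ ZZ K, f g ∈ ZZ K) (h4 : f 1 = 1) : Ca f (Q12 K) :=
  .step UU_le_Q12 h1 (fun x _ hg => cm_UU_left hg x) (.step Z2_le_UU h2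
    (fun x _ hg => cm_Z2_left hg x) (.step ZZ_le_Z2 h3 (fun x _ hg => cm_ZZ_left hg x)
      (.step bot_le (fun _ hg => by rw [mem_bot.1 hg, h4]; rfl)
        (fun x _ hg => cm_eq_one.2 (comm_ZZ hg x)) .bot)))

variable [CharP K p]

theorem NF.res_of_ca (h : NF p F H) {P : Subgroup (M K)} (hP : ∀ x, ∀ g ∈ P, x * g * x⁻¹ ∈ P)
    {f : Perm (M K)} (hf : PIso F f P P) (hc : Ca f P) : Res H P f := by
  obtain ⟨f', h1, h2⟩ := ext_of_ca isPGroup_top h.sat hP hf hc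
  obtain ⟨x, γ, hγ, e⟩ := (h.aut f').1 h1
  exact ⟨x, γ, hγ, fun g hg => (h2 g hg).symm.trans (e g)⟩

theorem g2a (h : NF p F H) {f : Perm (M K)} (hf : PIso F f (Q2 K) (Q2 K))
    (hZ : ∀ g ∈ ZZ K, f g ∈ ZZ K) : Res H (Q2 K) f := by
  obtain ⟨h2, h3⟩ := q2_layers hf.autOn
  refine h.res_of_ca (fun x _ => conj_Q2 x) hf (.step Q12_le_Q2 (fun g hg => ⟨?_, hf.maps hg.2⟩)
    (fun x g _ => cm_Q12 g x) (.low h3 h2 hZ hf.mor.map_one))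
  refine mem_Q1_of_cm fun d hd => ?_
  have h4 := ivm h3 d hd
  have := hZ _ (cm_ZZ h4.1 hg.1)
  rwa [hf.map_cm h4.2.1 hg.2, perm_apply_inv] at this

end Cfsg.Lib.D4F
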