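import Cfsg.Agent.D4F.G1L
import Cfsg.Agent.D4F.Ess
import Cfsg.Agent.D4F.G2a

/-! Systems with at most one essential subgroup. -/

set_option autoImplicit false

namespace Cfsg.Lib.D4F

open Cfsg Cfsg.FusionSystem Subgroup Equiv Cfsg.Lib.Fus G1L

variable {K : Type*} [Field K] [Cub K] [Finite K] {p : ℕ} [Fact p.Prime] [CharP K p]
  {F : FusionSystem (⊤ : Subgroup (M K))} {H : Subgroup (Gm K)}

theorem Fa.constr (h : NF p F H) {P Q : Subgroup (M K)} (he : ∀ E, F.IsEssential p E → E = P ∨ E = Q)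
    (hP : ∀ f, PIso F f P P → Res H P f) (hU : UU K ≤ Q)
    (hQ : ∀ x γ, ∀ g ∈ Q, x * Gm.aut γ g * x⁻¹ ∈ Q) : F.IsRealizable p := by
  have nP : ¬ F.IsEssential p P := fun e => closure_extendable_ne_of_isEssential isPGroup_top h.sat e
    (le_antisymm ((closure_le _).2 fun _ k => k.mem) fun α hα => subset_closure (by
      obtain ⟨x, γ, hγ, r⟩ := hP _ (piso_pext_of_mem le_top hα)
      obtain ⟨f, hf, ef⟩ := ((h.aut fun g => x * Gm.aut γ g * x⁻¹).2 ⟨x, γ, hγ, fun _ => rfl⟩).exists_perm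
      exact ⟨⊤, f, lt_of_isEssential isPGroup_top h.sat e, hf, fun g hg =>
        (ef g trivial).trans (r g hg).symm⟩))
  refine Class.FusH.isRealizable_of_isConstrained isPGroup_top ⟨h.sat, Q,
    isNormal_of_essential isPGroup_top h.sat fun R hR => ?_,
    isCentric_of_isFullyCentralized (sat_centralized isPGroup_top h.sat
      (isFullyNormalized_of_le_normalizer le_top fun x _ => mem_normalizer_of_finite fun g hg => by
        simpa using hQ x 1 g hg))
      fun x hx => hU (mem_UU_of_comm fun g hg => ((mem_centralizerIn.1 hx).2 g (hU hg)).symm)⟩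
  rcases hR with rfl | hR
  · refine ⟨le_top, fun f hf g hg => ?_⟩
    obtain ⟨x, γ, -, e⟩ := (h.aut f).1 hf.mor
    exact e g ▸ hQ x γ g hg
  · obtain rfl := (he R hR).resolve_left fun e => nP (e ▸ hR)
    exact ⟨le_rfl, fun f hf x hx => hf.maps hx⟩

theorem realizable_of_not_mv (h : NF p F H) (hm : ¬ Mv1 F ∨ ¬ Mv2 F) : F.IsRealizable p := by
  rcases hm with hm | hm
  · exact Fa.constr h (fun E => ess h.sat) (fun f hf => stab h hf fun g hg => by_contra fun n =>
      hm ⟨f, hf, g, hg, n⟩) (UU_le_Q12.trans Q12_le_Q2)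
      fun x γ g hg => mem_Q2.2 (by mdl [Gm.aut_u, mem_Q2.1 hg])
  · exact Fa.constr h (fun E hE => (ess h.sat hE).symm) (fun f hf => g2a h hf fun g hg =>
      by_contra fun n => hm ⟨f, hf, g, hg, n⟩) (UU_le_Q12.trans Q12_le_Q1)
      fun x γ g hg => conj_Q1 x (aut_Q1 γ hg)

end Cfsg.Lib.D4F
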