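import Cfsg.Agent.D4F.F1

/-! Fusion systems over a Sylow subgroup of `³D₄(q)`: linear algebra of `V = Q1 / Z`. -/

set_option autoImplicit false

namespace Cfsg.Lib.D4F

open Subgroup Equiv

variable {K : Type*} [Field K] [Cub K] {H : Subgroup (Gm K)}

theorem ksmul (c : kk K) (x : K) : c • x = c * x := rfl

/-- Expands coordinates of vectors. -/
macro "vec" " [" l:Lean.Parser.Tactic.simpLemma,* "]" : tactic =>
  `(tactic| (simp only [fm, qf, xV_apply, gV_apply, xf, gf, w0, w1, Prod.fst_add, Prod.snd_add,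
      Prod.smul_fst, Prod.smul_snd, Prod.fst_neg, Prod.snd_neg, Prod.fst_sub, Prod.snd_sub,
      Prod.fst_zero, Prod.snd_zero, Subfield.coe_add, Subfield.coe_mul, Subfield.coe_neg,
      Subfield.coe_sub, Subfield.coe_zero, Subfield.coe_one, ksmul, smul_eq_mul, σ_coe, tr, sh, nm,
      cr, map_add, map_sub, map_mul, map_neg, map_zero, map_one, map_pow, map_ofNat, σ3,
      $l,*] <;> ring))

theorem fm_add (y y' z : V K) : fm (y + y') z = fm y z + fm y' z := by vec []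
theorem fm_smul (c : kk K) (y z : V K) : fm (c • y) z = c * fm y z := by vec []
theorem fm_swap (y z : V K) : fm y z = -fm z y := by vec []
theorem fm_self (y : V K) : fm y y = 0 := by vec []
theorem σ_fm (y z : V K) : σ (fm y z) = fm y z := by vec []
theorem fm_add' (y z z' : V K) : fm y (z + z') = fm y z + fm y z' := by vec []
theorem fm_smul' (c : kk K) (y z : V K) : fm y (c • z) = c * fm y z := by vec []
theorem fm_neg (y z : V K) : fm (-y) z = -fm y z := by vec []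
theorem fm_sub (y y' z : V K) : fm (y - y') z = fm y z - fm y' z := by vec []
theorem fm_w0 (y : V K) : fm y w0 = y.1 := by vec []
theorem fm_w1 (y : V K) : fm y w1 = -y.2.2.2 := by vec []
theorem fm_s (y : V K) (s : K) : fm y (0, s, 0, 0) = tr (y.2.2.1 * s) := by vec []
theorem fm_r (y : V K) (r : K) : fm y (0, 0, r, 0) = -tr (y.2.1 * r) := by vec []

theorem eq_zero_of_fm {y : V K} (h : ∀ z, fm y z = 0) : y = 0 :=
  V.ext' ((fm_w0 y).symm.trans (h _)) (eq_zero_of_tr fun r => neg_eq_zero.1 ((fm_r y r).symm.trans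
    (h _))) (eq_zero_of_tr fun s => (fm_s y s).symm.trans (h _))
    (neg_eq_zero.1 ((fm_w1 y).symm.trans (h _)))

theorem exists_tr_rep [Finite K] (ζ : K → K) (h0 : ∀ y, σ (ζ y) = ζ y)
    (h1 : ∀ y z, ζ (y + z) = ζ y + ζ z) (h2 : ∀ (c : kk K) y, ζ (c * y) = c * ζ y) :
    ∃ a, ∀ y, ζ y = tr (a * y) := by
  let T : K →ₗ[kk K] Module.Dual (kk K) K := LinearMap.mk₂ (kk K)
    (fun a y => ⟨tr (a * y), σ_tr _⟩) (fun a b y => Subtype.ext (by vec []))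
    (fun c a y => Subtype.ext (by vec [])) (fun a y z => Subtype.ext (by vec []))
    fun c a y => Subtype.ext (by vec [])
  have hi : Function.Injective T := (injective_iff_map_eq_zero T).2 fun a h =>
    eq_zero_of_tr fun s => congrArg Subtype.val (LinearMap.congr_fun h s)
  obtain ⟨a, ha⟩ := (LinearMap.injective_iff_surjective_of_finrank_eq_finrank
    Subspace.dual_finrank_eq.symm).1 hi
    { toFun := fun y => ⟨ζ y, h0 y⟩
      map_add' := fun y z => Subtype.ext (h1 y z)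
      map_smul' := fun c y => Subtype.ext (h2 c y) }
  exact ⟨a, fun y => (congrArg Subtype.val (LinearMap.congr_fun ha y)).symm⟩

theorem V.split (y : V K) : y = y.1 • w1 + (0, y.2.1, 0, 0) + (0, 0, y.2.2.1, 0) + y.2.2.2 • w0 := by
  refine V.ext' ?_ ?_ ?_ ?_ <;> vec []

theorem exists_fm [Finite K] (ζ : V K → K) (h0 : ∀ y, σ (ζ y) = ζ y)
    (h1 : ∀ y z, ζ (y + z) = ζ y + ζ z) (h2 : ∀ (c : kk K) y, ζ (c • y) = c * ζ y) :
    ∃ x, ∀ y, ζ y = fm x y := by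
  obtain ⟨a, ha⟩ := exists_tr_rep (fun s => ζ (0, s, 0, 0)) (fun _ => h0 _)
    (fun y z => by rw [← h1]; simp) fun c y => by rw [← h2]; simp [ksmul]
  obtain ⟨b, hb⟩ := exists_tr_rep (fun s => ζ (0, 0, s, 0)) (fun _ => h0 _)
    (fun y z => by rw [← h1]; simp) fun c y => by rw [← h2]; simp [ksmul]
  refine ⟨(⟨ζ w0, h0 _⟩, -b, a, ⟨-ζ w1, by simp [h0]⟩), fun y => ?_⟩
  conv_lhs => rw [V.split y, h1, h1, h1, h2, h2, ha, hb]
  simp only [fm, neg_mul, tr_neg]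
  ring

theorem on_w0 {y : V K} : On y w0 ↔ y.1 = 0 ∧ y.2.1 = 0 ∧ y.2.2.1 = 0 :=
  ⟨by rintro ⟨c, rfl⟩; simp [w0], fun h => ⟨y.2.2.2, by
    refine V.ext' ?_ ?_ ?_ ?_ <;> vec [h.1, h.2.1, h.2.2]⟩⟩

theorem on_w1 {y : V K} : On y w1 ↔ y.2.1 = 0 ∧ y.2.2.1 = 0 ∧ y.2.2.2 = 0 :=
  ⟨by rintro ⟨c, rfl⟩; simp [w1], fun h => ⟨y.1, by
    refine V.ext' ?_ ?_ ?_ ?_ <;> vec [h.1, h.2.1, h.2.2]⟩⟩

theorem On.refl (y : V K) : On y y := ⟨1, (one_smul _ _).symm⟩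

theorem On.symm {y z : V K} (h : On y z) (hy : y ≠ 0) : On z y := by
  obtain ⟨c, rfl⟩ := h
  exact ⟨c⁻¹, by rw [smul_smul, inv_mul_cancel₀ (left_ne_zero_of_smul hy), one_smul]⟩

theorem On.trans {x y z : V K} (h : On x y) (h' : On y z) : On x z := by
  obtain ⟨c, rfl⟩ := h
  obtain ⟨d, rfl⟩ := h'
  exact ⟨c * d, smul_smul _ _ _⟩

theorem On.map {y z : V K} {g : V K → V K} (hg : LinV g) (h : On y z) : On (g y) (g z) := by
  obtain ⟨c, rfl⟩ := h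
  exact ⟨c, hg.2 _ _⟩

theorem ln_eq_iff {y z : V K} (hy : y ≠ 0) : ln y = ln z ↔ On y z := by
  have k : ∀ {y z : V K}, ln y ≤ ln z ↔ On y z := by
    intro y z
    rw [ln, ln, Submodule.span_singleton_le_iff_mem, Submodule.mem_span_singleton]
    exact exists_congr fun _ => eq_comm
  exact ⟨fun h => k.1 h.le, fun h => le_antisymm (k.2 h) (k.2 (h.symm hy))⟩

theorem w0_ne : (w0 : V K) ≠ 0 := fun h => one_ne_zero (congrArg (·.2.2.2) h)
theorem w1_ne : (w1 : V K) ≠ 0 := fun h => one_ne_zero (congrArg (·.1) h)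

theorem LinV.zero {g : V K → V K} (hg : LinV g) : g 0 = 0 := by simpa using hg.1 0 0

theorem LinV.neg {g : V K → V K} (hg : LinV g) (y : V K) : g (-y) = -g y := by
  simpa using hg.2 (-1) y

theorem LinV.ne_zero {g : Perm (V K)} (hg : LinV g) {y : V K} (hy : y ≠ 0) : g y ≠ 0 :=
  fun h => hy (g.injective (h.trans hg.zero.symm))

theorem linV_xV (t : K) : LinV (xV t) :=
  ⟨fun _ _ => by refine V.ext' ?_ ?_ ?_ ?_ <;> vec [],
    fun _ _ => by refine V.ext' ?_ ?_ ?_ ?_ <;> vec []⟩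

theorem linV_gV {γ : Gm K} (h : γ.Lin) : LinV (gV γ) :=
  ⟨fun _ _ => by refine V.ext' ?_ ?_ ?_ ?_ <;> vec [],
    fun c _ => by refine V.ext' ?_ ?_ ?_ ?_ <;> vec [h c c.2]⟩

theorem sim_xV (t : K) : Sim (xV t) 1 := fun _ _ => by vec []

theorem sim_gV {γ : Gm K} (h : γ.Lin) : Sim (gV γ) γ.μ := fun y z => by
  rw [← h _ (σ_fm y z)]
  vec [Gm.μ, γ.σc, γ.φσ]

theorem Sim.mul {g h : Perm (V K)} {m n : K} (hg : Sim g m) (hh : Sim h n) :
    Sim (g * h : Perm (V K)) (m * n) := fun y z => by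
  rw [Perm.mul_apply, Perm.mul_apply, hg, hh, mul_assoc]

theorem fm_w1_w0 : fm (w1 : V K) w0 = 1 := fm_w0 _

theorem Sim.inv {g : Perm (V K)} {m : K} (hg : Sim g m) :
    m ≠ 0 ∧ Sim (g⁻¹ : Perm (V K)) m⁻¹ := by
  have k : ∀ y z, fm y z = m * fm (g⁻¹ y) (g⁻¹ z) := fun y z => by rw [← hg]; simp
  have h : m ≠ 0 := fun e => by simpa [fm_w1_w0, e] using k w1 w0
  exact ⟨h, fun y z => by rw [k y z, inv_mul_cancel_left₀ h]⟩

theorem Sim.uniq {g : V K → V K} {m n : K} (hg : Sim g m) (hh : Sim g n) : m = n := by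
  simpa [fm_w1_w0] using (hg w1 w0).symm.trans (hh w1 w0)

theorem Sim.fix {g : V K → V K} {m : K} (hg : Sim g m) : σ m = m := by
  simpa [fm_w1_w0, hg w1 w0] using σ_fm (g w1) (g w0)

theorem Sim.conj {g a : Perm (V K)} {m n : K} (hg : Sim g m) (ha : Sim a n) :
    Sim (a * g * a⁻¹ : Perm (V K)) m := by
  have := (ha.mul hg).mul ha.inv.2
  rwa [mul_right_comm, mul_inv_cancel₀ ha.inv.1, one_mul] at this

theorem xV_w0 (t : K) : xV t w0 = w0 := by refine V.ext' ?_ ?_ ?_ ?_ <;> vec []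

theorem xV_w1_eq (t : K) : xV t w1 = (1, t, sh t, ⟨nm t, σ_nm t⟩) := by
  refine V.ext' ?_ ?_ ?_ ?_ <;> vec []

theorem xV_inj : Function.Injective (xV : K → Perm (V K)) := fun s t h => by
  simpa [xV_w1_eq] using congrArg (fun g : Perm (V K) => (g w1).2.1) h

theorem gV_eq_one {γ : Gm K} (h : gV γ = 1) : γ = 1 := by
  have h1 : γ.c = 1 := by
    simpa [gV_apply, gf, w1] using congrArg (fun g : Perm (V K) => ((g w1).1 : K)) h
  have h2 : ∀ s, γ.a * γ.φ s = s := fun s => by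
    simpa [gV_apply, gf, h1] using congrArg (fun g : Perm (V K) => (g (0, s, 0, 0)).2.1) h
  have h3 : γ.a = 1 := by simpa using h2 1
  exact Gm.ext h3 h1 (RingEquiv.ext fun s => by simpa [h3, Gm.one_φ'] using h2 s)

theorem gV_inj : Function.Injective (gV : Gm K → Perm (V K)) :=
  (injective_iff_map_eq_one gV).2 fun _ => gV_eq_one

theorem gV_xV (γ : Gm K) (t : K) : gV γ * xV t * (gV γ)⁻¹ = xV (γ.a * γ.φ t) := by
  rw [mul_inv_eq_iff_eq_mul]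
  refine Equiv.ext fun y => V.ext' ?_ ?_ ?_ ?_ <;> vec [Perm.mul_apply, γ.σc, γ.φσ]

theorem gV_w0 (γ : Gm K) : On (gV γ w0) w0 :=
  on_w0.2 (by simp [gV_apply, gf, w0, Subtype.ext_iff])
theorem gV_w1 (γ : Gm K) : On (gV γ w1) w1 :=
  on_w1.2 (by simp [gV_apply, gf, w1, Subtype.ext_iff])

theorem xV_w1 {t : K} (h : On (xV t w1) w1) : t = 0 := by simpa [xV_w1_eq] using (on_w1.1 h).1

theorem xV_mul_gV {t : K} {γ : Gm K} (h : xV t * gV γ = 1) : t = 0 ∧ γ = 1 := by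
  have h1 : xV t = gV γ⁻¹ := by rw [map_inv]; exact eq_inv_of_mul_eq_one_left h
  obtain rfl : t = 0 := xV_w1 (h1 ▸ gV_w1 _)
  exact ⟨rfl, gV_eq_one (by rwa [xV_zero, one_mul] at h)⟩

theorem gV_hb (b : K) (h : b ≠ 0) (y : V K) : ((gV (hb b h) y).1 : K) = nm b * y.1 ∧
    (gV (hb b h) y).2.1 = b * y.2.1 ∧ (gV (hb b h) y).2.2.1 = b⁻¹ * y.2.2.1 ∧
    ((gV (hb b h) y).2.2.2 : K) = (nm b)⁻¹ * y.2.2.2 := by
  have h1 : σ b ≠ 0 := by simpa
  have h2 : σ (σ b) ≠ 0 := by simpa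
  refine ⟨rfl, ?_, ?_, ?_⟩ <;>
    simp only [gV_apply, gf, hb, sh, nm, map_div₀, map_mul, σ3, RingAut.one_apply] <;> field_simp

theorem hb_μ (b : K) (h : b ≠ 0) : (hb b h).μ = 1 := by
  have h1 : σ b ≠ 0 := by simpa
  have h2 : σ (σ b) ≠ 0 := by simpa
  simp only [Gm.μ, hb, nm, map_div₀, map_mul, σ3]
  field_simp

theorem eq_hb {γ : Gm K} (h1 : γ.φ = 1) (h2 : γ.μ = 1) : ∃ b h, γ = hb b h := by
  have e : nm (γ.c * γ.a) = γ.c := by
    rw [Gm.μ] at h2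
    rw [nm_mul, nm_fix γ.σc]; linear_combination γ.c * h2
  exact ⟨γ.c * γ.a, mul_ne_zero γ.hc γ.ha, Gm.ext (by
    show _ = _ / nm _
    rw [e, mul_div_cancel_left₀ _ γ.hc]) e.symm h1⟩

theorem hb_ca (b : K) (h : b ≠ 0) : (hb b h).c * (hb b h).a = b :=
  mul_div_cancel₀ _ (nm_eq_zero.not.2 h)

theorem hb_inj {b b' : K} {h : b ≠ 0} {h' : b' ≠ 0} (e : hb b h = hb b' h') : b = b' := by
  rw [← hb_ca b h, e, hb_ca]

theorem gV_t2 (c : K) (h : c ≠ 0) (h' : σ c = c) (y : V K) :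
    ((gV (t2 c h h') y).1 : K) = c ^ 2 * y.1 ∧ (gV (t2 c h h') y).2.1 = c * y.2.1 ∧
    (gV (t2 c h h') y).2.2.1 = y.2.2.1 ∧ ((gV (t2 c h h') y).2.2.2 : K) = c⁻¹ * y.2.2.2 := by
  refine ⟨rfl, ?_, ?_, ?_⟩ <;>
    simp only [gV_apply, gf, t2, sh, nm, map_inv₀, h', RingAut.one_apply] <;> field_simp

theorem t2_μ (c : K) (h : c ≠ 0) (h' : σ c = c) : (t2 c h h').μ = c := by
  simp only [Gm.μ, t2, nm, map_inv₀, h']
  field_simp

theorem T2Le.t2 (hT : T2Le H) (c : K) (h : c ≠ 0) (h' : σ c = c) : t2 c h h' ∈ H :=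
  hT _ rfl (by simp only [D4F.t2, sh, map_inv₀, h']; field_simp)

theorem T2Le.tau (hT : T2Le H) : tau ∈ H := hT _ rfl (by simp [D4F.tau, sh])

theorem eq_t2 {γ : Gm K} (h1 : γ.φ = 1) (h2 : γ.c * sh γ.a = 1) :
    ∃ c h h', γ = t2 c h h' := by
  have e : γ.a = γ.c * nm γ.a := by rw [← mul_sh]; linear_combination -γ.a * h2
  have ha : σ γ.a = γ.a := by rw [e]; simp
  rw [sh_fix ha] at h2
  exact ⟨γ.a⁻¹, inv_ne_zero γ.ha, σ_inv_fix ha, Gm.ext (inv_inv _).symm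
    (by show _ = γ.a⁻¹ ^ 2; rw [inv_pow]; exact eq_inv_of_mul_eq_one_left h2) h1⟩

theorem gV_tau (y : V K) : gV tau y = (y.1, -y.2.1, y.2.2.1, -y.2.2.2) := by
  refine V.ext' ?_ ?_ ?_ ?_ <;> vec [tau, RingAut.one_apply]

theorem tau_μ : (tau : Gm K).μ = -1 := by simp [Gm.μ, tau, nm]

theorem xV_pow (t : K) (n : ℕ) : xV t ^ n = xV (n * t) := by
  induction n with
  | zero => simp [xV_zero]
  | succ n ih => rw [pow_succ, ih, ← xV_add]; push_cast; ring_nf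

theorem AV_pgroup {p : ℕ} [CharP K p] : IsPGroup p (AV K) := by
  rintro ⟨_, t, rfl⟩
  exact ⟨1, Subtype.ext (by simp [xV_pow, xV_zero])⟩

theorem card_AV : Nat.card (AV K) = Nat.card K :=
  (Nat.card_eq_of_bijective (fun t => (⟨xV t, t, rfl⟩ : AV K))
    ⟨fun _ _ h => xV_inj (congrArg Subtype.val h), fun ⟨_, t, h⟩ => ⟨t, Subtype.ext h.symm⟩⟩).symm

theorem Gm.σ_μ (γ : Gm K) : σ γ.μ = γ.μ := by simp [Gm.μ]

theorem Gm.μ_ne (γ : Gm K) : γ.μ ≠ 0 := by simp [Gm.μ, γ.ha, γ.hc]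

theorem Gm.μ_mul (γ δ : Gm K) : (γ * δ).μ = γ.μ * γ.φ δ.μ := by
  cub [Gm.μ, Gm.mul_a, Gm.mul_c, γ.φσ]

theorem torLe_of (h1 : T1Le H) (h2 : T2Le H) : TorLe H := fun γ h => by
  have := h1 (γ * t2 γ.μ⁻¹ (inv_ne_zero γ.μ_ne) (σ_inv_fix γ.σ_μ)) (by rw [Gm.mul_φ, h]; rfl)
    (by rw [Gm.μ_mul, t2_μ, h]; exact mul_inv_cancel₀ γ.μ_ne)
  exact (H.mul_mem_cancel_right (h2.t2 ..)).1 this

end Cfsg.Lib.D4F
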