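import Cfsg.Agent.D4F.G2r
import Cfsg.Agent.D4F.F2
import Cfsg.Agent.D4F.F4
import Cfsg.Agent.D4F.V0

/-! Fusion systems over a Sylow subgroup of `³D₄(q)`: the torus `T2` and the swap of two lines. -/

set_option autoImplicit false
set_option linter.unusedSectionVars false

namespace Cfsg.Lib.D4F

open Cfsg Cfsg.FusionSystem Subgroup Equiv Cfsg.Lib.Fus

variable {K : Type*} [Field K] [Cub K] [Finite K] {p : ℕ} [Fact p.Prime]
  {F : FusionSystem (⊤ : Subgroup (M K))} {H : Subgroup (Gm K)} [CharP K p]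

namespace G2b

variable {g : M K}

theorem conj_r (x : M K) (hg : g ∈ UU K) : (x * g * x⁻¹).r = g.r := by
  mdl [hg.1, hg.2.1, hg.2.2]

theorem conj_v (x : M K) (hg : g ∈ Z2 K) : (x * g * x⁻¹).v = g.v := by
  mdl [hg.1, hg.2.1, hg.2.2.1, hg.2.2.2]

theorem conj_z (x : M K) (hg : g ∈ Z2 K) : (x * g * x⁻¹).z = g.z + x.u * g.v := by
  mdl [hg.1, hg.2.1, hg.2.2.1, hg.2.2.2]

theorem conj_UU (x : M K) (hg : g ∈ UU K) : x * g * x⁻¹ ∈ UU K :=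
  (aut_layers (MulAut.conj x)).2.2.1 g hg

theorem conj_Z2 (x : M K) (hg : g ∈ Z2 K) : x * g * x⁻¹ ∈ Z2 K :=
  (aut_layers (MulAut.conj x)).2.1 g hg

theorem conj_ZZ (x : M K) (hg : g ∈ ZZ K) : x * g * x⁻¹ = g := by
  rw [comm_ZZ hg, mul_inv_cancel_right]

theorem piso_cj (F : FusionSystem (⊤ : Subgroup (M K))) (x : M K) :
    PIso F (cj x) (Q2 K) (Q2 K) :=
  (Mor.cj F le_top trivial).piso_of_maps fun _ => conj_Q2 x

theorem piso_res (h : NF p F H) {f : Perm (M K)} (r : Res H (Q2 K) f) :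
    PIso F f (Q2 K) (Q2 K) :=
  (h.mor_of_res r).piso_of_maps fun g hg => by
    obtain ⟨x, γ, -, e⟩ := r
    rw [e g hg]
    exact conj_Q2 x ((aut_layers _).2.2.2.2.2 g hg)

theorem piso_aut (h : NF p F H) {γ : Gm K} (hγ : γ ∈ H) :
    PIso F (Gm.aut γ).toEquiv (Q2 K) (Q2 K) := piso_res h ⟨1, γ, hγ, fun g _ => by simp⟩

theorem onto {f : Perm (M K)} (hf : PIso F f (Q2 K) (Q2 K)) (h : ∀ g ∈ ZZ K, f g ∈ ZV K) :
    ∀ g ∈ ZV K, f⁻¹ g ∈ ZZ K := fun _ =>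
  ((hf.mor.restrict (Q := ZZ K) fun _ hg => hg.2.1).piso_of_card le_top h (card_ZV.trans card_ZZ.symm).le).inv_maps

theorem inf_eq (h1 : g ∈ ZZ K) (h2 : g ∈ ZV K) : g = 1 :=
  eq_one_of_Z2 (ZZ_le_Z2 h1) h1.2.2.2.2 h2.2.2.2.2

end G2b

open G2b

theorem g2b (h : NF p F H) (hm : Mv2 F) : T2Le H := by
  intro γ h1 h2
  obtain ⟨c, c0, hc, rfl⟩ := eq_t2 h1 h2
  obtain ⟨-, -, -, -, -, k⟩ := g2r h.sat hm
  obtain ⟨f, hf, k1, k2, k3⟩ := k c hc c0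
  obtain ⟨x, δ, hδ, e⟩ := g2a h hf k2
  have er : ∀ r, δ.c * sh δ.a * δ.φ r = r := fun r => by
    have m : ed r ∈ UU K := ⟨rfl, rfl, rfl⟩
    have := k1 _ m
    rwa [e _ m.2.1, conj_r x ((aut_layers _).2.2.1 _ m)] at this
  have e1 : δ.c * sh δ.a = 1 := by simpa using er 1
  obtain ⟨c', c0', hc', rfl⟩ := eq_t2 (RingEquiv.ext fun r => by simpa [e1] using er r) e1
  have m : ee (1 : K) (map_one _) ∈ Z2 K := ⟨rfl, rfl, rfl, rfl⟩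
  have := k3 _ m
  rw [e _ m.2.1, conj_v x ((aut_layers _).2.1 _ m)] at this
  replace this : c' ^ 2 * nm c'⁻¹ * 1 = c⁻¹ * 1 := this
  rw [nm_fix (σ_inv_fix hc')] at this
  obtain rfl : c' = c := by field_simp at this; exact this.symm
  exact hδ

theorem g2c (h : NF p F H) (hm : Mv2 F) (hT : TorLe H) :
    (∀ f, PIso F f (Q2 K) (Q2 K) → (∀ g ∈ ZZ K, f g ∈ ZZ K) ∨
      ∃ x, ∀ g ∈ ZZ K, x * f g * x⁻¹ ∈ ZV K) ∧
    ∃ n, PIso F n (Q2 K) (Q2 K) ∧ (∀ g ∈ UU K, (n g).r = g.r) ∧ (∀ g ∈ ZZ K, n g ∈ ZV K) ∧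
      ∀ g ∈ ZV K, n g ∈ ZZ K := by
  obtain ⟨α, φ, hα, k1, k2, -⟩ := g2r h.sat hm
  obtain ⟨l, hl⟩ : ∃ l : kk K, ∀ x, φ x = l * x := by
    by_cases q : ∀ x : kk K, x = 0 ∨ x = 1
    · exact ⟨φ 1, fun x => by rcases q x with rfl | rfl <;> simp⟩
    push Not at q
    obtain ⟨ν, n0, n1⟩ := q
    have n0' : (ν : K) ≠ 0 := fun e => n0 (Subtype.ext e)
    obtain ⟨a, ha⟩ := exists_nm (σ_inv_fix ν.2)
    have a0 : a ≠ 0 := by rintro rfl; exact inv_ne_zero n0' (by rw [← ha, nm_zero])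
    let γ : Gm K := ⟨a, ν, 1, a0, n0', ν.2, fun _ => rfl⟩
    have ev : ∀ g, (Gm.aut γ g).v = g.v := fun g => by
      show (ν : K) * nm a * g.v = _
      rw [ha, mul_inv_cancel₀ n0', one_mul]
    have ez : ∀ g, (Gm.aut γ g).z = ν * g.z := fun g => by
      show (ν : K) ^ 2 * nm a * g.z = _
      rw [ha]; field_simp
    rcases k2 _ (hα.trans (piso_aut h (hT γ rfl))) with k | ⟨t, k⟩
    · obtain ⟨g, hg, e, -⟩ := k1 1
      exact absurd (e.symm.trans ((ev _).symm.trans (k g hg).2.2.2.2)) one_ne_zero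
    · refine ⟨t / (ν - 1), fun x => ?_⟩
      obtain ⟨g, hg, e1, e2⟩ := k1 x
      have e3 : (Gm.aut γ (α g)).z = t * (Gm.aut γ (α g)).v + φ ⟨(Gm.aut γ (α g)).v, _⟩ := k g hg
      simp only [ev, ez, e1, e2, Subtype.coe_eta] at e3
      have e4 : ν * φ x = t * x + φ x := Subtype.ext e3
      have := sub_ne_zero.2 n1
      field_simp
      linear_combination e4
  have p1 : ∀ f, PIso F f (Q2 K) (Q2 K) → (∀ g ∈ ZZ K, f g ∈ ZZ K) ∨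
      ∃ x, ∀ g ∈ ZZ K, x * f g * x⁻¹ ∈ ZV K := fun f hf => (k2 f hf).imp_right fun ⟨t, k⟩ =>
    ⟨eb ((-(t + l) : kk K) : K) (σ_coe _), fun g hg => by
      have m := (q2_layers hf.autOn).1 g (ZZ_le_Z2 hg)
      obtain ⟨a1, a2, a3, a4⟩ := conj_Z2 (eb ((-(t + l) : kk K) : K) (σ_coe _)) m
      refine ⟨a1, a2, a3, a4, ?_⟩
      rw [conj_z _ m, k g hg, hl]
      simp [eb]; ring⟩
  refine ⟨p1, ?_⟩
  obtain ⟨x, hx⟩ := (p1 α hα).resolve_left fun k => by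
    obtain ⟨g, hg, e, -⟩ := k1 1
    exact one_ne_zero (e.symm.trans (k g hg).2.2.2.2)
  obtain ⟨β, hβ, bz⟩ : ∃ β, PIso F β (Q2 K) (Q2 K) ∧ ∀ g ∈ ZZ K, β g ∈ ZV K :=
    ⟨_, hα.trans (piso_cj F x), hx⟩
  obtain ⟨b, hb⟩ : ∃ b : M K, b.u = 1 := ⟨eb 1 (map_one _), rfl⟩
  obtain ⟨l2, lU⟩ := q2_layers hβ.autOn
  have es : ∀ g ∈ Q2 K, (β * cj b * β⁻¹) g = g * β (cm (β⁻¹ g) b) := fun g hg => by
    have := hβ.map_mul (hβ.inv_maps hg) (cm_Q12 (β⁻¹ g) b).2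
    rw [perm_apply_inv] at this
    rw [← this]
    simp [cm]
  obtain ⟨s, hs, sr, sz⟩ : ∃ s, PIso F s (Q2 K) (Q2 K) ∧ (∀ g ∈ UU K, (s g).r = g.r) ∧
      ¬ ∀ g ∈ ZZ K, s g ∈ ZZ K := by
    refine ⟨β * cj b * β⁻¹, hβ.symm.trans ((piso_cj F b).trans hβ), fun g hg => ?_, fun k => ?_⟩
    · obtain ⟨-, a2, a3, a4⟩ := l2 _ (cm_Z2_left (ivm lU g hg) b)
      rw [es g hg.2.1]
      mdl [a2, a3, a4]
    · have m : ew (1 : K) (map_one _) ∈ ZZ K := ⟨rfl, rfl, rfl, rfl, rfl⟩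
      have m2 := ivm l2 _ (ZZ_le_Z2 m)
      have k3 := k _ m
      rw [es _ m.2.1, mul_mem_cancel_left m] at k3
      have k4 := (hβ.mor.eq_one_iff (cm_Q12 _ b).2).1 (inf_eq k3 (bz _ (cm_ZZ_left m2 b)))
      have k5 := ((comm_UU_iff (Z2_le_UU m2)).1 (cm_eq_one.1 k4)).2
      rw [hb, m2.2.2.2, mul_zero, tr_zero, one_mul] at k5
      have k6 := bz _ ⟨m2.1, m2.2.1, m2.2.2.1, m2.2.2.2, k5⟩
      rw [perm_apply_inv] at k6
      exact one_ne_zero (α := K) k6.2.2.2.2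
  obtain ⟨x1, h1⟩ := (p1 s hs).resolve_left sz
  obtain ⟨x2, h2⟩ := (p1 s⁻¹ hs.symm).resolve_left fun k => sz (by simpa using ivm k)
  have sU := (q2_layers hs.autOn).2
  refine ⟨cj x1 * s * cj x2⁻¹, (piso_cj F _).trans (hs.trans (piso_cj F _)), fun g hg => ?_,
    fun g hg => ?_, fun g hg => ?_⟩
  · rw [Perm.mul_apply, Perm.mul_apply, cj_apply, cj_apply, conj_r _ (sU _ (conj_UU _ hg)),
      sr _ (conj_UU _ hg), conj_r _ hg]
  · rw [Perm.mul_apply, Perm.mul_apply, cj_apply, cj_apply, conj_ZZ _ hg]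
    exact h1 g hg
  · have := onto (hs.symm.trans (piso_cj F x2)) h2 g hg
    rw [mul_inv_rev, inv_inv, ← map_inv] at this
    rw [mul_assoc, Perm.mul_apply, cj_apply, conj_ZZ _ this]
    exact this

end Cfsg.Lib.D4F
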