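import Cfsg.Agent.D4F.G2a
import Cfsg.Agent.D4F.F1
import Cfsg.Agent.D4F.F4

/-! Fusion systems over a Sylow subgroup of `³D₄(q)`: the action on the layers of `Q2`. -/

set_option autoImplicit false
set_option linter.unusedSectionVars false

namespace Cfsg.Lib.D4F

open Cfsg Cfsg.FusionSystem Subgroup Equiv Cfsg.Lib.Fus

variable {K : Type*} [Field K] [Cub K] [Finite K]

namespace G2d

variable {δ : Perm (M K)} {w w' : M K}

theorem cv (hδ : AutOn (Q2 K) δ) (hZ : ∀ g ∈ ZZ K, δ g ∈ ZZ K) (hw : w ∈ Z2 K) (hw' : w' ∈ Z2 K)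
    (e : w.v = w'.v) : (δ w).v = (δ w').v := by
  have m := mul_mem (inv_mem hw) hw'
  obtain ⟨a1, a2, a3, a4, a5⟩ := hZ _ ⟨m.1, m.2.1, m.2.2.1, m.2.2.2, by
    mdl [hw.1, hw.2.1, hw.2.2.1, hw.2.2.2, e]⟩
  rw [← mul_inv_cancel_left w w', hδ.1 _ hw.2.1 _ m.2.1]
  mdl [a2, a3, a4, a5]

theorem cz (hδ : AutOn (Q2 K) δ) (hV : ∀ g ∈ ZV K, δ g ∈ ZV K) (hw : w ∈ Z2 K) (hw' : w' ∈ Z2 K)
    (e : w.z = w'.z) : (δ w).z = (δ w').z := by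
  have m := mul_mem (inv_mem hw) hw'
  obtain ⟨a1, a2, a3, a4, a5⟩ := hV _ ⟨m.1, m.2.1, m.2.2.1, m.2.2.2, by
    mdl [hw.1, hw.2.1, hw.2.2.1, hw.2.2.2, hw'.2.1, hw'.2.2.1, hw'.2.2.2, e]⟩
  rw [← mul_inv_cancel_left w w', hδ.1 _ hw.2.1 _ m.2.1]
  mdl [a2, a3, a4, a5, mem_Q2.1 (hδ.mp hw.2.1)]

theorem edU (r : K) : ed r ∈ UU K := ⟨rfl, rfl, rfl⟩

theorem cmz {g : M K} (hg : g ∈ Q2 K) (hw : w ∈ UU K) : (cm w g).z = -tr (g.s * w.r) := by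
  rw [cm_z_left hw, mem_Q2.1 hg]; ring

end G2d

open G2d in
theorem g2d {δ : Perm (M K)} (hδ : AutOn (Q2 K) δ) (hU : ∀ g ∈ UU K, (δ g).r = g.r)
    (hZ : ∀ g ∈ ZZ K, δ g ∈ ZZ K) (hV : ∀ g ∈ ZV K, δ g ∈ ZV K) :
    ∃ γ : Gm K, γ.φ = 1 ∧ Tv2 fun g => Gm.aut γ (δ g) := by
  obtain ⟨l2, lU⟩ := q2_layers hδ
  have kv : ∀ g ∈ Q2 K, ∀ r, ∀ w ∈ Z2 K, tr (g.t * r) = w.v → tr ((δ g).t * r) = (δ w).v :=
    fun g hg r w hw e => by
      rw [← cv hδ hZ (cm_Z2_left (edU r) g) hw ((cm_v_left (edU r)).trans e),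
        hδ.mcm (edU r).2.1 hg, cm_v_left (lU _ (edU r)), hU _ (edU r)]; rfl
  have kz : ∀ g ∈ Q2 K, ∀ r, ∀ w ∈ Z2 K, -tr (g.s * r) = w.z → -tr ((δ g).s * r) = (δ w).z :=
    fun g hg r w hw e => by
      rw [← cz hδ hV (cm_Z2_left (edU r) g) hw ((cmz hg (edU r)).trans e),
        hδ.mcm (edU r).2.1 hg, cmz (hδ.mp hg) (lU _ (edU r)), hU _ (edU r)]; rfl
  have one : δ 1 = 1 := hδ.1.map_one
  obtain ⟨a, ha, ea1⟩ := of_perp (t := 1) (r := (δ (ea 1)).t) one_ne_zero fun r e => by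
    rw [kv (ea 1) rfl r 1 (one_mem _) e, one]; rfl
  obtain ⟨b, hb, ec1⟩ := of_perp (t := 1) (r := (δ (ec 1)).s) one_ne_zero fun r e => by
    rw [← neg_eq_zero, kz (ec 1) rfl r 1 (one_mem _) (neg_eq_zero.2 e), one]; rfl
  have hv : ∀ w ∈ Z2 K, (δ w).v = a * w.v := fun w hw => by
    obtain ⟨r, e⟩ := exists_tr (t := 1) one_ne_zero w.hv
    rw [← kv (ea 1) rfl r w hw e, ea1, mul_assoc, tr_fix_mul ha, e]
  have hz : ∀ w ∈ Z2 K, (δ w).z = b * w.z := fun w hw => by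
    obtain ⟨r, e⟩ := exists_tr (t := 1) (l := -w.z) one_ne_zero (by simp)
    rw [← kz (ec 1) rfl r w hw (neg_eq_iff_eq_neg.2 e), ec1, mul_assoc, tr_fix_mul hb, e]; ring
  have ht : ∀ g ∈ Q2 K, (δ g).t = a * g.t := fun g hg => sub_eq_zero.1 (eq_zero_of_tr fun r => by
    rw [sub_mul, tr_sub, kv g hg r _ (cm_Z2_left (edU r) g) (cm_v_left (edU r)).symm,
      hv _ (cm_Z2_left (edU r) g), cm_v_left (edU r), mul_assoc, tr_fix_mul ha]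
    exact sub_self _)
  have hs : ∀ g ∈ Q2 K, (δ g).s = b * g.s := fun g hg => sub_eq_zero.1 (eq_zero_of_tr fun r => by
    rw [sub_mul, tr_sub, neg_eq_iff_eq_neg.1 (kz g hg r _ (cm_Z2_left (edU r) g)
      (cmz hg (edU r)).symm), hz _ (cm_Z2_left (edU r) g), cmz hg (edU r), mul_assoc,
      tr_fix_mul hb]
    simp [ed])
  have hab : a * b = 1 := by
    by_contra ne
    refine one_ne_zero (eq_zero_of_cr (t := (1 : K)) fun t => ?_)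
    have k := hU _ (cm_UU (g := ec 1) (x := ea t) rfl rfl)
    rw [hδ.mcm rfl rfl, cm_r (hδ.mp rfl) (hδ.mp rfl), cm_r rfl rfl, ht _ rfl, ht _ rfl, hs _ rfl,
      hs _ rfl, fix_mul_cr ha, cr_fix_mul hb, fix_mul_cr ha] at k
    simp only [ea, ec, zero_cr, mul_zero, sub_zero] at k
    exact (mul_eq_zero.1 (by linear_combination k : (a * b - 1) * cr t 1 = 0)).resolve_left
      (sub_ne_zero.2 ne)
  have a0 : a ≠ 0 := left_ne_zero_of_mul_eq_one hab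
  have ai := σ_inv_fix ha
  refine ⟨t2 a a0 ha, rfl, fun g hg => ⟨?_, ?_⟩, fun g hg => ?_, fun g hg => ?_⟩
  · show a⁻¹ * (δ g).t = _
    rw [ht g hg, inv_mul_cancel_left₀ a0]
  · show a ^ 2 * a⁻¹ * (δ g).s = _
    rw [hs g hg]; field_simp; linear_combination g.s * hab
  · show a ^ 2 * sh a⁻¹ * (δ g).r = _
    rw [hU g hg, sh_fix ai]; field_simp
  · refine Z2_ext ((aut_layers _).2.1 _ (l2 g hg)) hg ?_ ?_
    · show a ^ 2 * nm a⁻¹ * (δ g).v = _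
      rw [hv g hg, nm_fix ai]; field_simp
    · show (a ^ 2) ^ 2 * nm a⁻¹ * (δ g).z = _
      rw [hz g hg, nm_fix ai]; field_simp; linear_combination g.z * hab

end Cfsg.Lib.D4F
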