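import Cfsg.Agent.D4F.G2f
import Cfsg.Agent.D4F.G2b
import Cfsg.Agent.D4F.G2d

/-! Fusion systems over a Sylow subgroup of `³D₄(q)`: uniqueness of `Aut_F(Q2)`. -/

set_option autoImplicit false
set_option linter.unusedSectionVars false

namespace Cfsg.Lib.D4F

open Cfsg Cfsg.FusionSystem Subgroup Equiv Cfsg.Lib.Fus

variable {K : Type*} [Field K] [Cub K] [Finite K] {p : ℕ} [Fact p.Prime]
  {F F' : FusionSystem (⊤ : Subgroup (M K))} {H : Subgroup (Gm K)} [CharP K p]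

open G2b

namespace G2u

theorem onto' {f : Perm (M K)} (hf : PIso F f (Q2 K) (Q2 K)) (h : ∀ g ∈ ZV K, f g ∈ ZZ K) :
    ∀ g ∈ ZZ K, f⁻¹ g ∈ ZV K := fun _ =>
  ((hf.mor.restrict (Q := ZV K) fun _ hg => hg.2.1).piso_of_card le_top h
    (card_ZZ.trans card_ZV.symm).le).inv_maps

theorem aut_ZV (γ : Gm K) {g : M K} (hg : g ∈ ZV K) : Gm.aut γ g ∈ ZV K := by
  obtain ⟨a1, a2, a3, a4, a5⟩ := hg
  refine ⟨?_, ?_, ?_, ?_, ?_⟩ <;>
    simp [Gm.aut_t, Gm.aut_u, Gm.aut_s, Gm.aut_r, Gm.aut_z, a1, a2, a3, a4, a5]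

theorem triv {x : M K} {γ : Gm K} (h : ∀ g ∈ Q2 K, (x * Gm.aut γ g * x⁻¹).t = g.t ∧
    (x * Gm.aut γ g * x⁻¹).s = g.s) : γ = 1 ∧ x ∈ Q2 K := by
  have e1 : ∀ t, γ.a * γ.φ t = t := fun t => by
    have := (h (ea t) rfl).1
    simpa [M.mul_t, M.inv_t, Gm.aut_t, ea] using this
  have e2 : γ.a = 1 := by simpa using e1 1
  have e3 := (h (ec 1) rfl).2
  have e4 := (h (ea 1) rfl).2
  simp only [M.mul_s, M.mul_t, M.inv_s, M.inv_u, Gm.aut_t, Gm.aut_s, Gm.aut_u, ec, ea, e2, map_zero,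
    map_one] at e3 e4
  exact ⟨Gm.ext e2 (by rw [Gm.one_c]; linear_combination e3)
    (RingEquiv.ext fun t => by simpa [e2, Gm.one_φ'] using e1 t), by rw [mem_Q2]; linear_combination -e4⟩

end G2u

open G2u in
theorem g2u (h : NF p F H) (h' : NF p F' H) (hT : TorLe H) (hm : Mv2 F) (hm' : Mv2 F')
    {f : Perm (M K)} (hf : PIso F f (Q2 K) (Q2 K)) : PIso F' f (Q2 K) (Q2 K) := by
  obtain ⟨p1, n, hn, nr, nz, nv⟩ := g2c h hm hT
  obtain ⟨-, n', hn', nr', nz', nv'⟩ := g2c h' hm' hT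
  have tr : ∀ {f}, PIso F f (Q2 K) (Q2 K) → (∀ g ∈ ZZ K, f g ∈ ZZ K) → PIso F' f (Q2 K) (Q2 K) :=
    fun hf hz => piso_res h' (g2a h hf hz)
  have hδ := hn'.autOn.iv.ml hn.autOn
  obtain ⟨γ, hγ, tv⟩ := g2d hδ (fun g hg => by
      have m := (q2_layers hn.autOn).2 g hg
      rw [Perm.mul_apply, ← nr' _ (ivm (q2_layers hn'.autOn).2 _ m), perm_apply_inv, nr g hg])
    (fun g hg => onto hn' nz' _ (nz g hg)) fun g hg => onto' hn' nv' _ (nv g hg)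
  have pγ := piso_aut h' (hT γ hγ)
  obtain ⟨δ, eδ⟩ : ∃ δ : Perm (M K), δ = (Gm.aut γ).toEquiv * (n'⁻¹ * n) := ⟨_, rfl⟩
  have aδ : AutOn (Q2 K) δ := eδ ▸ pγ.autOn.ml hδ
  replace tv : Tv2 δ := eδ ▸ tv
  obtain ⟨x, -, ex⟩ := g2f (p := p) aδ tv fun τ hτ => by
    have pτ := piso_aut h (hT τ hτ)
    have pτ' := piso_aut h' (hT τ hτ)
    obtain ⟨t, et⟩ : ∃ t : Perm (M K), t = (Gm.aut τ).toEquiv := ⟨_, rfl⟩
    have at' : ∀ g, t g = Gm.aut τ g := fun g => by rw [et]; rfl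
    rw [← et] at pτ pτ'
    have tz : ∀ g ∈ ZZ K, t g ∈ ZZ K := fun g hg => at' g ▸ (aut_layers _).1 g hg
    have dz : ∀ g ∈ ZZ K, δ g ∈ ZZ K := fun g hg => by rwa [tv.2.2 g (ZZ_le_Z2 hg)]
    have k1 := tr (hn.symm.trans (pτ.trans hn)) fun g hg => by
      rw [Perm.mul_apply, Perm.mul_apply, at']
      exact nv _ (aut_ZV τ (onto' hn nv g hg))
    have k2 : PIso F' (δ * t * δ⁻¹ * t⁻¹) (Q2 K) (Q2 K) := by
      have := pτ'.symm.trans (pγ.symm.trans (hn'.trans (k1.trans (hn'.symm.trans pγ))))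
      rwa [show (Gm.aut γ).toEquiv * n'⁻¹ * (n * t * n⁻¹) * n' * ((Gm.aut γ).toEquiv)⁻¹ * t⁻¹ =
        δ * t * δ⁻¹ * t⁻¹ by rw [eδ]; group] at this
    obtain ⟨x, γ', -, e⟩ := g2a h' k2 fun g hg => dz _ (tz _ (ivm dz _ (ivm tz g hg)))
    obtain ⟨rfl, hx⟩ := triv (x := x) (γ := γ') fun g hg => by
      have m1 := pτ.inv_maps hg
      have m2 := aδ.iv.mp m1
      obtain ⟨a1, a2⟩ := tv.1 _ m2
      obtain ⟨a3, a4⟩ := tv.1 _ (pτ.maps m2)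
      rw [perm_apply_inv] at a1 a2
      rw [← e g hg]
      simp only [Perm.mul_apply, a3, a4]
      rw [at', Gm.aut_t, Gm.aut_s, ← a1, ← a2, ← Gm.aut_t, ← Gm.aut_s, ← at', perm_apply_inv]
      exact ⟨rfl, rfl⟩
    refine ⟨x, hx, fun g hg => ?_⟩
    have := e _ (pτ.maps (aδ.mp hg))
    simp only [Perm.mul_apply, perm_inv_apply, map_one, MulAut.one_apply] at this
    rwa [at', at'] at this
  have pn : PIso F' n (Q2 K) (Q2 K) :=
    ((piso_cj F' x).trans (pγ.symm.trans hn')).congr fun g hg => by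
      rw [Perm.mul_apply, cj_apply, ← ex g hg, eδ]; simp
  rcases p1 f hf with k | ⟨y, k⟩
  · exact tr hf k
  · have := (tr (hf.trans ((piso_cj F y).trans hn)) fun g hg => nv _ (k g hg)).trans
      (pn.symm.trans (piso_cj F' y).symm)
    rwa [show (cj y)⁻¹ * n⁻¹ * (n * cj y * f) = f by group] at this

end Cfsg.Lib.D4F
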