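import Cfsg.Agent.D4F.L0
import Cfsg.Agent.D4F.F2

/-! Fusion systems over a Sylow subgroup of `³D₄(q)`: finishing lemmas for the counts. -/

set_option autoImplicit false
set_option linter.unusedSectionVars false

namespace Cfsg.Lib.D4F

open Cfsg Cfsg.FusionSystem Subgroup Equiv Cfsg.Lib.Fus

variable {K : Type*} [Field K] [Cub K] [Finite K] {p : ℕ} [Fact p.Prime]
  {F F' : FusionSystem (⊤ : Subgroup (M K))} {E : Subgroup (M K)} {O : Perm (M K) → Prop}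
  {H : Subgroup (Gm K)} {X : Subgroup (Perm (V K))}

theorem Fl.sub {y : V K} {J : Set K} (h : Fl X H y J) : J ⊆ {0}ᶜ :=
  fun b hb => h.choose_spec.2.2.2 b hb |>.1

theorem ncard_compl_zero {α : Type*} [Zero α] [Finite α] : ({0}ᶜ : Set α).ncard = Nat.card α - 1 := by
  rw [Set.ncard_compl, Set.ncard_singleton]

theorem Fl.le {y : V K} {J : Set K} (h : Fl X H y J) : J.ncard ≤ Nat.card K - 1 :=
  ncard_compl_zero (α := K) ▸ Set.ncard_le_ncard h.sub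

theorem Fl.sr {y : V K} {J : Set K} (h : Fl X H y J) (hJ : Nat.card (kk K) ≤ J.ncard) :
    y.2.1 = 0 ∧ y.2.2.1 = 0 := by
  have k : ¬ ∀ b ∈ J, σ b = b := fun hb => by
    have := Set.ncard_le_ncard (s := J) (t := ((↑) : kk K → K) '' {0}ᶜ) fun b hb' =>
      ⟨⟨b, hb b hb'⟩, fun e => h.sub hb' (congrArg Subtype.val e), rfl⟩
    rw [Set.ncard_image_of_injective _ Subtype.val_injective, ncard_compl_zero] at this
    have := one_lt_card_kk (K := K)
    omega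
  obtain ⟨n, -, -, -, hn⟩ := h
  constructor <;> by_contra h0 <;> refine k fun b hb => ?_ <;> obtain ⟨b0, -, ⟨c, e⟩, -⟩ := hn b hb
  · rw [mul_right_cancel₀ h0 ((gV_hb b b0 y).2.1.symm.trans (congrArg (·.2.1) e)), σ_coe]
  · have := mul_right_cancel₀ h0 ((gV_hb b b0 y).2.2.1.symm.trans (congrArg (·.2.2.1) e))
    rw [← inv_inv b, this, σ_inv_fix (σ_coe c)]

theorem Fl.big {y : V K} {J : Set K} (h : Fl X H y J) (hy : ¬ On y w0)
    (hJ : 2 * (Nat.card (kk K) ^ 2 + Nat.card (kk K) + 1) < J.ncard) : On y w1 := by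
  obtain ⟨h1, h2⟩ := h.sr (by omega)
  refine on_w1.2 ⟨h1, h2, ?_⟩
  by_contra hv
  have hu : (y.1 : K) ≠ 0 := fun e => hy (on_w0.2 ⟨Subtype.ext e, h1, h2⟩)
  refine hJ.not_ge ((Set.ncard_le_ncard (t := {a : K | nm a ^ 2 = 1}) fun b hb => ?_).trans
    card_nm_sq)
  obtain ⟨n, -, -, -, hn⟩ := h
  obtain ⟨b0, -, ⟨c, e⟩, -⟩ := hn b hb
  have e1 := mul_right_cancel₀ hu ((gV_hb b b0 y).1.symm.trans (congrArg (·.1.1) e))
  have e2 := mul_right_cancel₀ (fun e => hv (Subtype.ext e))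
    ((gV_hb b b0 y).2.2.2.symm.trans (congrArg (·.2.2.2.1) e))
  show nm b ^ 2 = 1
  rw [sq]; nth_rewrite 1 [e1, ← e2]
  exact inv_mul_cancel₀ (nm_eq_zero.not.2 b0)

theorem LG.rk1 (h : LG p X H) (hF : ∀ g ∈ X, ¬ On (g w0) w0 → ∃ t, ∃ J : Set K,
    J.ncard = Nat.card K - 1 ∧ Fl X H (xV t (g w0)) J ∧ On (xV t (g w0)) w1) : Rk1 X H := by
  obtain ⟨g, hg, hW⟩ := h.mv
  obtain ⟨t, J, hJ, hl, hy⟩ := hF g hg hW
  obtain rfl : J = {0}ᶜ := Set.eq_of_subset_of_ncard_le hl.sub (by rw [hJ, ncard_compl_zero])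
  obtain ⟨n, hn, n2, nw, hb'⟩ := hl
  refine ⟨fun γ h1 h2 => ?_, fun g hg => ?_, n, hn, nw.trans hy, ?_, fun b h => (hb' b h).2.2.2⟩
  · obtain ⟨b, b0, rfl⟩ := eq_hb h1 h2
    exact (hb' b b0).2.1
  · refine or_iff_not_imp_left.2 fun hW => ?_
    obtain ⟨t, J, -, -, hy⟩ := hF g hg hW
    exact ⟨-t, by simpa [xV_neg] using hy.map (linV_xV (-t))⟩
  · simpa [inv_eq_of_mul_eq_one_left n2] using h.on_inv hn (nw.trans hy)

theorem fib_eq {α β : Type*} {C : Set α} {P : Set β} (hC : C.Finite) (hP : P.Finite) (π : α → β)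
    (hπ : ∀ a ∈ C, π a ∈ P) (B : β → ℕ) (hB : ∀ b ∈ P, {a ∈ C | π a = b}.ncard ≤ B b) :
    C.ncard ≤ ∑ b ∈ hP.toFinset, B b ∧
      (∑ b ∈ hP.toFinset, B b ≤ C.ncard → ∀ b ∈ P, {a ∈ C | π a = b}.ncard = B b) := by
  classical
  have e : C.ncard = ∑ b ∈ hP.toFinset, {a ∈ C | π a = b}.ncard := by
    rw [Set.ncard_eq_toFinset_card C hC, Finset.card_eq_sum_card_fiberwise (f := π)
      (t := hP.toFinset) fun a ha => by simpa using hπ a (by simpa using ha)]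
    exact Finset.sum_congr rfl fun b _ => by
      rw [← Set.ncard_coe_finset]; congr 1; ext a; simp
  have l : ∀ b ∈ hP.toFinset, {a ∈ C | π a = b}.ncard ≤ B b := fun b hb => hB b (by simpa using hb)
  exact ⟨e ▸ Finset.sum_le_sum l, fun h b hb => (Finset.sum_eq_sum_iff_of_le l).1
    (le_antisymm (Finset.sum_le_sum l) (e ▸ h)) b (by simpa using hb)⟩

end Cfsg.Lib.D4F
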