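import Cfsg.Agent.D4F.LJ
import Cfsg.Agent.D4F.LF

/-! Fusion systems over a Sylow subgroup of `³D₄(q)`: the rank one structure in characteristic two. -/

set_option autoImplicit false
set_option linter.unusedSectionVars false

namespace Cfsg.Lib.D4F

open Cfsg Cfsg.FusionSystem Subgroup Equiv Cfsg.Lib.Fus

variable {K : Type*} [Field K] [Cub K] [Finite K] {p : ℕ} [Fact p.Prime]
  {F F' : FusionSystem (⊤ : Subgroup (M K))} {E : Subgroup (M K)} {O : Perm (M K) → Prop}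
  {H : Subgroup (Gm K)} {X : Subgroup (Perm (V K))}

theorem L2.of_xV {t : K} {y : V K} (h : On (xV t y) w0) : On y w0 := by
  simpa [xV_neg, show (xV t)⁻¹ w0 = w0 by rw [← xV_neg, xV_w0]] using h.map (linV_xV (-t))

variable [CharP K p]

theorem rk1_two (hp : p = 2) (h : LG p X H) : Rk1 X H := by
  choose! G hG eG using fun L (hL : L ∈ Pts X) => hL
  let C : Set (Perm (V K)) := {i | ∃ g ∈ X, ∃ t, t ≠ 0 ∧ i = g * xV t * g⁻¹ ∧ ¬ On (g w0) w0}
  have hC : ∀ i ∈ C, i ∈ X ∧ i * i = 1 ∧ Sim i 1 ∧ ¬ On (i w0) w0 := by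
    rintro _ ⟨g, hg, t, ht, rfl, hW⟩
    obtain ⟨m, hm⟩ := h.sim g hg
    refine ⟨mul_mem (mul_mem hg (h.xm t)) (inv_mem hg), by
      rw [← sq, ← hp, conj_pow, xV_pow_p]; simp, (sim_xV t).conj hm, fun e => ht ?_⟩
    exact h.semi (inv_mem hg) (fun e => hW (by simpa using h.on_inv (inv_mem hg) e))
      (by simpa using e.map (h.lin _ (inv_mem hg)))
  have jb := fun g (hg : g ∈ X) (hW : ¬ On (g w0) w0) => (h.jb hg hW (ε := 1)
    (C := {i ∈ C | ln (i w0) = ln (g w0)}) fun i hi => ⟨(hC i hi.1).1, (hC i hi.1).2.1,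
      (hC i hi.1).2.2.1, (ln_eq_iff (h.ne (hC i hi.1).1)).1 hi.2⟩).2
  have fib := (fib_eq (C := C) (P := Pts X \ {ln w0}) (Set.toFinite _) (Set.toFinite _)
    (fun i => ln (i w0)) (fun i hi => ⟨⟨i, (hC i hi).1, rfl⟩, fun e =>
      (hC i hi).2.2.2 ((ln_eq_iff (h.ne (hC i hi).1)).1 e)⟩) (fun _ => Nat.card K - 1) (by
        rintro _ ⟨⟨g, hg, rfl⟩, hn⟩
        rcases jb g hg (fun e => hn ((ln_eq_iff (h.ne hg)).2 e)) with e | ⟨t, J, e, hJ⟩
        exacts [e.1.le, e ▸ hJ.le])).2 (by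
    rw [Finset.sum_const, smul_eq_mul, ← Set.ncard_eq_toFinset_card, ← ncard_compl_zero,
      ← Set.ncard_prod]
    refine Set.ncard_le_ncard_of_injOn (fun x => G x.1 * xV x.2 * (G x.1)⁻¹)
      (fun x hx => ⟨_, hG _ hx.1.1, _, hx.2, rfl, fun e => hx.1.2
        ((eG _ hx.1.1).trans ((ln_eq_iff (h.ne (hG _ hx.1.1))).2 e))⟩) ?_
    rintro ⟨L, t⟩ ⟨⟨h1, -⟩, h2⟩ ⟨L', t'⟩ ⟨⟨h3, -⟩, -⟩ e
    beta_reduce at e
    have := (h.ti ((G L')⁻¹ * G L) (mul_mem (inv_mem (hG _ h3)) (hG _ h1)) t t' h2 (by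
      rw [← mul_left_cancel_iff (a := G L'), ← mul_right_cancel_iff (a := (G L')⁻¹), ← e]
      group)).map (h.lin _ (hG _ h3))
    rw [Perm.mul_apply, perm_apply_inv] at this
    obtain rfl : L = L' := (eG _ h1).trans (((ln_eq_iff (h.ne (hG _ h1))).2 this).trans
      (eG _ h3).symm)
    exact Prod.ext rfl (xV_inj (by simpa using e)))
  refine h.rk1 fun g hg hW => ?_
  have e0 := fib _ ⟨⟨g, hg, rfl⟩, fun e => hW ((ln_eq_iff (h.ne hg)).1 e)⟩
  obtain ⟨t, J, e, hJ⟩ := (jb g hg hW).resolve_left fun e => e.1.ne e0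
  refine ⟨t, J, e.trans e0, hJ, ?_⟩
  obtain ⟨h1, h2⟩ := hJ.sr (by
    have := one_lt_card_kk (K := K)
    rw [e, e0, card_K (K := K)]
    exact Nat.le_sub_one_of_lt (lt_self_pow₀ this (by norm_num)))
  have := h.sq hp _ (mul_mem (h.xm t) hg)
  rw [Perm.mul_apply, qf, h1, mul_zero, tr_zero, add_zero, mul_eq_zero] at this
  exact on_w1.2 ⟨h1, h2, Subtype.ext (this.resolve_left fun e =>
    hW (L2.of_xV (on_w0.2 ⟨Subtype.ext e, h1, h2⟩)))⟩

end Cfsg.Lib.D4F
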