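import Cfsg.Agent.D4F.V0

/-! Fusion systems over a Sylow subgroup of `³D₄(q)`: Sylow subgroups and points of the linear group. -/

set_option autoImplicit false
set_option linter.unusedSectionVars false

namespace Cfsg.Lib.D4F

open Cfsg Cfsg.FusionSystem Subgroup Equiv Cfsg.Lib.Fus

variable {K : Type*} [Field K] [Cub K] [Finite K] {p : ℕ} [Fact p.Prime]
  {F F' : FusionSystem (⊤ : Subgroup (M K))} {E : Subgroup (M K)} {O : Perm (M K) → Prop}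
  {H : Subgroup (Gm K)} {X : Subgroup (Perm (V K))}

/-- The linear map of a linear function. -/
def LinV.lm {g : V K → V K} (hg : LinV g) : V K →ₗ[kk K] V K := ⟨⟨g, hg.1⟩, hg.2⟩

theorem LinV.lm_eq_1' : type_of% @LinV.lm.eq_1 := @LinV.lm.eq_1

theorem LinV.map_ln {g : V K → V K} (hg : LinV g) (y : V K) : (ln y).map hg.lm = ln (g y) := by
  rw [ln, Submodule.map_span, Set.image_singleton]; rfl

theorem On.ne {y z : V K} (h : On y z) (hy : y ≠ 0) : z ≠ 0 := by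
  obtain ⟨c, rfl⟩ := h
  exact right_ne_zero_of_smul hy

theorem xV_gV_pow (t : K) (γ : Gm K) (n : ℕ) : ∃ t', (xV t * gV γ) ^ n = xV t' * gV (γ ^ n) := by
  induction n with
  | zero => exact ⟨0, by simp [xV_zero]⟩
  | succ n ih =>
    obtain ⟨t', e⟩ := ih
    exact ⟨t + γ.a * γ.φ t', by rw [pow_succ', e, xV_add, ← gV_xV, pow_succ', map_mul]; group⟩

theorem LG.ne (h : LG p X H) {g : Perm (V K)} (hg : g ∈ X) : g w0 ≠ 0 :=
  (h.lin g hg).ne_zero w0_ne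

theorem LG.on_inv (h : LG p X H) {g : Perm (V K)} (hg : g ∈ X) {y : V K} (e : On (g w0) y) :
    On (g⁻¹ y) w0 := by
  simpa using (e.symm (h.ne hg)).map (h.lin _ (inv_mem hg))

theorem LG.mem_AV (h : LG p X H) {g : Perm (V K)} (hg : g ∈ X) (hW : On (g w0) w0) {n : ℕ}
    (e : g ^ p ^ n = 1) : ∃ t, g = xV t := by
  obtain ⟨t, γ, hγ, -, rfl⟩ := h.stab g hg hW
  obtain ⟨t', e'⟩ := xV_gV_pow t γ (p ^ n)
  have h1 := orderOf_dvd_of_pow_eq_one (xV_mul_gV (e'.symm.trans e)).2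
  obtain rfl : γ = 1 := orderOf_eq_one_iff.1 (Nat.eq_one_of_dvd_coprimes
    (h.cop.pow_right n) (H.orderOf_dvd_natCard hγ) h1)
  exact ⟨t, by simp⟩

theorem LG.norm_AV (h : LG p X H) {g : Perm (V K)} (hg : g ∈ X) (hW : On (g w0) w0) (s : K) :
    ∃ s', g * xV s * g⁻¹ = xV s' := by
  obtain ⟨t, γ, -, -, rfl⟩ := h.stab g hg hW
  exact ⟨t + γ.a * γ.φ s + -t, by rw [xV_add, xV_add, xV_neg, ← gV_xV]; group⟩

variable [CharP K p]

theorem LG.syl (h : LG p X H) : SylIn p (AV K) X := by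
  refine ⟨by rintro _ ⟨t, rfl⟩; exact h.xm t, AV_pgroup, fun U h1 h2 hU => ?_⟩
  by_contra hne
  obtain ⟨x, hx, hn, hx'⟩ := exists_mem_normalizer_of_lt hU (lt_of_le_of_ne h1 (Ne.symm hne))
  obtain ⟨t, e⟩ := (mem_normalizer_iff.1 hn (xV 1)).1 ⟨1, rfl⟩
  obtain ⟨n, hn⟩ := hU ⟨x, hx⟩
  exact hx' (h.mem_AV (h2 hx) (h.ti x (h2 hx) 1 t one_ne_zero e) (congrArg Subtype.val hn))

theorem LG.le_AV (h : LG p X H) {R : Subgroup (Perm (V K))} (hR : R ≤ X) (hp : IsPGroup p R)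
    {t : K} (ht : t ≠ 0) (hx : xV t ∈ R) : R ≤ AV K := by
  obtain ⟨a, ha, e⟩ := h.syl.exists_conj hR hp
  obtain ⟨t', e'⟩ := e _ hx
  intro u hu
  obtain ⟨s, es⟩ := e u hu
  obtain ⟨s', e2⟩ := h.norm_AV (inv_mem ha) (h.on_inv ha (h.ti a ha t t' ht e')) s
  exact ⟨s', by rw [← e2, ← es]; group⟩

theorem xV_pow_p (t : K) : xV t ^ p = 1 := by simp [xV_pow, xV_zero]

theorem LG.semi (h : LG p X H) {g : Perm (V K)} (hg : g ∈ X) (hW : ¬ On (g w0) w0) {t : K}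
    (e : On (xV t (g w0)) (g w0)) : t = 0 := by
  by_contra ht
  obtain ⟨t', e'⟩ := h.mem_AV (g := g⁻¹ * xV t * g⁻¹⁻¹) (n := 1)
    (mul_mem (mul_mem (inv_mem hg) (h.xm t)) (inv_mem (inv_mem hg)))
    (by simpa using e.map (h.lin _ (inv_mem hg))) (by rw [conj_pow, pow_one, xV_pow_p]; simp)
  exact hW (by simpa using h.on_inv (inv_mem hg) (h.ti _ (inv_mem hg) t t' ht e'))

theorem LG.exists_conj (h : LG p X H) {g : Perm (V K)} (hg : g ∈ X) {n : ℕ}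
    (e : g ^ p ^ n = 1) : ∃ a ∈ X, ∃ t, a * g * a⁻¹ = xV t := by
  obtain ⟨a, ha, e'⟩ := h.syl.exists_conj (zpowers_le.2 hg) (isPGroup_zpowers_of_pow e)
  exact ⟨a, ha, e' g (mem_zpowers g)⟩

theorem LG.card_pts (h : LG p X H) : ∃ m, 1 ≤ m ∧ (Pts X).ncard = 1 + m * Nat.card K := by
  have hm : ∀ t, ∀ L ∈ Pts X \ {ln w0}, L.map (linV_xV t).lm ∈ Pts X \ {ln w0} := by
    rintro t _ ⟨⟨g, hg, rfl⟩, hn⟩
    rw [LinV.map_ln]
    refine ⟨⟨xV t * g, mul_mem (h.xm t) hg, rfl⟩, fun e => hn ?_⟩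
    have := ((ln_eq_iff (h.ne (mul_mem (h.xm t) hg))).1 e).map (linV_xV (-t))
    rw [xV_w0, xV_neg, Perm.mul_apply, perm_inv_apply] at this
    exact (ln_eq_iff (h.ne hg)).2 this
  let : MulAction (Multiplicative K) ↥(Pts X \ {ln w0}) :=
    { smul := fun t L => ⟨_, hm t.toAdd L.1 L.2⟩
      one_smul := by
        rintro ⟨_, ⟨g, hg, rfl⟩, hn⟩
        exact Subtype.ext ((LinV.map_ln _ _).trans (by simp [xV_zero]))
      mul_smul := by
        rintro s t ⟨_, ⟨g, hg, rfl⟩, hn⟩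
        refine Subtype.ext ((LinV.map_ln _ _).trans ?_)
        show _ = ((ln (g w0)).map (linV_xV _).lm).map (linV_xV _).lm
        rw [LinV.map_ln, LinV.map_ln, toAdd_mul, xV_add, Perm.mul_apply] }
  have e := Nat.card_congr (MulAction.selfEquivOrbitsQuotientProd (G := Multiplicative K)
    (X := ↥(Pts X \ {ln w0})) (by
      rintro ⟨_, ⟨g, hg, rfl⟩, hn⟩
      refine eq_bot_iff.2 fun t ht => ?_
      have : ln (xV t.toAdd (g w0)) = ln (g w0) :=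
        (LinV.map_ln _ _).symm.trans (congrArg Subtype.val ht)
      exact h.semi hg (fun e => hn ((ln_eq_iff (h.ne hg)).2 e))
        ((ln_eq_iff (h.ne (mul_mem (h.xm _) hg))).1 this)))
  rw [Nat.card_prod, Nat.card_coe_set_eq, Nat.card_congr Multiplicative.toAdd] at e
  have h0 : ln w0 ∈ Pts X := ⟨1, one_mem _, rfl⟩
  obtain ⟨g, hg, hW⟩ := h.mv
  have hpos := (Set.ncard_pos (s := Pts X \ {ln w0})).2
    ⟨_, ⟨g, hg, rfl⟩, fun e => hW ((ln_eq_iff (h.ne hg)).1 e)⟩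
  refine ⟨_, Nat.pos_of_mul_pos_right (e ▸ hpos), ?_⟩
  rw [← e, add_comm, Set.ncard_diff_singleton_add_one h0]

end Cfsg.Lib.D4F
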