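import Cfsg.Agent.D4F.L0
import Cfsg.Agent.D4F.F2

/-! Fusion systems over a Sylow subgroup of `³D₄(q)`: the centraliser of `tau`. -/

set_option autoImplicit false
set_option linter.unusedSectionVars false

namespace Cfsg.Lib.D4F

open Subgroup Equiv

variable {K : Type*} [Field K] [Cub K] [Finite K] {p : ℕ} [Fact p.Prime]
  {H : Subgroup (Gm K)} {X : Subgroup (Perm (V K))} [CharP K p]

namespace Lb1

omit [Cub K] in
theorem two (hp : p ≠ 2) : (2 : K) ≠ 0 := fun e => hp ((Nat.prime_dvd_prime_iff_eq Fact.out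
  Nat.prime_two).1 ((CharP.cast_eq_zero_iff K p 2).1 (by exact_mod_cast e)))

theorem tau_w0 : gV tau (w0 : V K) = -w0 := by rw [gV_tau]; simp [w0]

theorem tau_lin : (tau : Gm K).Lin := fun _ _ => rfl

theorem tau_sq : gV (tau : Gm K) * gV tau = 1 :=
  Equiv.ext fun y => by rw [Perm.mul_apply, gV_tau, gV_tau]; simp

theorem gx {γ : Gm K} (ha : γ.a = -1) (hφ : γ.φ = 1) (t : K) : gV γ * xV t = xV (-t) * gV γ := by
  rw [← mul_inv_eq_iff_eq_mul, gV_xV, ha, hφ, neg_one_mul]; rfl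

theorem comm_tau (γ : Gm K) : γ * tau = tau * γ :=
  Gm.ext (by simp [Gm.mul_a, tau]) (by simp [Gm.mul_c, tau]) ((mul_one γ.φ).trans (one_mul γ.φ).symm)

theorem tau_mem (h : LG p X H) (hT : T2Le H) : gV tau ∈ X := h.hm _ hT.tau tau_lin

theorem sim_tau : Sim (gV (tau : Gm K)) (-1) := tau_μ (K := K) ▸ sim_gV tau_lin

end Lb1

open Lb1

theorem LG.inv_stab (h : LG p X H) (hp : p ≠ 2) {i : Perm (V K)} (hi : i ∈ X) (h2 : i * i = 1)
    (hs : Sim i (-1)) (hW : On (i w0) w0) : ∃ t, (i w0 = -w0 ∧ i = xV t * gV tau * (xV t)⁻¹) ∨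
      i = xV t * gV (tau * hb (-1) (neg_ne_zero.2 one_ne_zero)) * (xV t)⁻¹ := by
  have t2 := two (K := K) hp
  obtain ⟨t, γ, -, hl, rfl⟩ := h.stab i hi hW
  have e1 : γ * γ = 1 := (xV_mul_gV (t := t + γ.a * γ.φ t) (by
    rw [xV_add, ← gV_xV, map_mul, ← h2]; group)).2
  have e2 : ∀ x, γ.φ (γ.φ x) = x := fun x => by rw [← Gm.mul_φ', e1]; rfl
  have e3 : γ.φ = 1 := RingEquiv.ext (by
    obtain ⟨y, hy⟩ := Cub.ne (K := K)
    rcases lin_aut hl with e | e | e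
    · exact e
    · have := e2 (σ y)
      rw [e, e, σ3] at this
      exact absurd this.symm hy
    · have := e2 y
      rw [e, e, σ3] at this
      exact absurd this hy)
  have ha : γ.a * γ.a = 1 := by have := congrArg Gm.a e1; rwa [Gm.mul_a, e3] at this
  have hc : γ.c * γ.c = 1 := by have := congrArg Gm.c e1; rwa [Gm.mul_c, e3] at this
  have hμ := ((sim_xV t).mul (sim_gV hl)).uniq hs
  rw [one_mul, Gm.μ, pow_two, hc, one_mul] at hμ
  have ha' : γ.a = -1 := (mul_self_eq_one_iff.1 ha).resolve_left fun e => t2 (by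
    rw [e, nm_one] at hμ; linear_combination hμ)
  have e4 : xV t * gV γ = xV (t / 2) * gV γ * (xV (t / 2))⁻¹ := by
    rw [← xV_neg, mul_assoc, gx ha' e3, neg_neg, ← mul_assoc, ← xV_add, ← two_mul,
      mul_div_cancel₀ _ t2]
  refine ⟨t / 2, (mul_self_eq_one_iff.1 hc).imp (fun e => ?_) fun e => ?_⟩
  · obtain rfl : γ = tau := Gm.ext ha' e e3
    exact ⟨by rw [Perm.mul_apply, tau_w0, (linV_xV t).neg, xV_w0], e4⟩
  · obtain rfl : γ = tau * hb (-1) (neg_ne_zero.2 one_ne_zero) :=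
      Gm.ext (by simp [ha', Gm.mul_a, tau, hb, nm_neg, nm_one])
        (by simp [e, Gm.mul_c, tau, hb, nm_neg, nm_one]) (e3.trans (one_mul _).symm)
    exact e4

theorem LG.cent_cop (h : LG p X H) (hp : p ≠ 2) (hT : T2Le H) {g : Perm (V K)} (hg : g ∈ X)
    (hc : Commute g (gV tau)) : (orderOf g).Coprime p := by
  have hp' : p.Prime := Fact.out
  refine (hp'.coprime_iff_not_dvd.2 fun hd => ?_).symm
  have h0 : orderOf g ≠ 0 := (orderOf_pos g).ne'
  have h1 := orderOf_pow_orderOf_div h0 hd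
  obtain ⟨a, ha, t, e⟩ := h.exists_conj (pow_mem hg (orderOf g / p)) (n := 1)
    (by rw [pow_one]; exact orderOf_dvd_iff_pow_eq_one.1 h1.dvd)
  have ht : t ≠ 0 := fun e' => hp'.one_lt.ne' (by
    rw [e', xV_zero, conj_eq_one_iff] at e
    rw [← h1, e, orderOf_one])
  have hi : a * gV tau * a⁻¹ ∈ X := mul_mem (mul_mem ha (tau_mem h hT)) (inv_mem ha)
  have h2 : a * gV tau * a⁻¹ * xV t * (a * gV tau * a⁻¹)⁻¹ = xV t := by
    rw [mul_inv_eq_iff_eq_mul, ← e, conj_mul, conj_mul, (hc.pow_left _).eq]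
  obtain ⟨m, hm⟩ := h.sim a ha
  obtain ⟨s, hs⟩ := h.inv_stab hp hi (by rw [conj_mul, tau_sq, mul_one, mul_inv_cancel])
    (sim_tau.conj hm) (h.ti _ hi t t ht h2)
  have key : ∀ γ : Gm K, γ.a = -1 → γ.φ = 1 → a * gV tau * a⁻¹ = xV s * gV γ * (xV s)⁻¹ → False :=
    fun γ h3 h4 e' => by
      rw [e', mul_inv_eq_iff_eq_mul, ← xV_neg, mul_assoc, mul_assoc, ← xV_add, gx h3 h4,
        mul_assoc, gx h3 h4, ← mul_assoc, ← mul_assoc, ← mul_assoc, ← xV_add, ← xV_add,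
        ← xV_add] at h2
      exact mul_ne_zero (two (K := K) hp) ht (by
        linear_combination -xV_inj (mul_right_cancel h2))
  exact hs.elim (fun e => key _ rfl rfl e.2)
    (key _ (by simp [Gm.mul_a, tau, hb, nm_neg, nm_one]) (one_mul _))

theorem LG.cent_stab (h : LG p X H) (hp : p ≠ 2) {g : Perm (V K)} (hg : g ∈ X)
    (hc : Commute g (gV tau)) (hW : On (g w0) w0) : ∃ γ ∈ H, γ.Lin ∧ g = gV γ := by
  obtain ⟨t, γ, hγ, hl, rfl⟩ := h.stab g hg hW
  have e := hc.eq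
  rw [mul_assoc, ← map_mul, comm_tau, ← mul_assoc, gx rfl rfl, mul_assoc, ← map_mul] at e
  have ht : t = 0 := (mul_eq_zero.1 (show 2 * t = 0 by
    linear_combination xV_inj (mul_right_cancel e))).resolve_left (two hp)
  exact ⟨γ, hγ, hl, by rw [ht, xV_zero, one_mul]⟩

theorem LG.neg_pt (h : LG p X H) (hp : p ≠ 2) (hT : T2Le H) {g : Perm (V K)} (hg : g ∈ X)
    (e : gV tau (g w0) = -g w0) : ∃ g' ∈ X, Commute g' (gV tau) ∧ On (g' w0) (g w0) := by
  have hi : g⁻¹ * gV tau * g⁻¹⁻¹ ∈ X :=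
    mul_mem (mul_mem (inv_mem hg) (tau_mem h hT)) (inv_mem (inv_mem hg))
  have h1 : (g⁻¹ * gV tau * g⁻¹⁻¹ : Perm (V K)) w0 = -w0 := by
    rw [inv_inv, Perm.mul_apply, Perm.mul_apply, e, (h.lin _ (inv_mem hg)).neg]
    simp
  obtain ⟨m, hm⟩ := h.sim _ (inv_mem hg)
  obtain ⟨t, ⟨-, e'⟩ | e'⟩ := h.inv_stab hp hi (by rw [conj_mul, tau_sq, mul_one, mul_inv_cancel])
    (sim_tau.conj hm) ⟨-1, by rw [h1, neg_one_smul]⟩
  · refine ⟨g * xV t, mul_mem hg (h.xm t), ?_, by rw [Perm.mul_apply, xV_w0]; exact On.refl _⟩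
    rw [Commute, SemiconjBy, ← mul_inv_eq_iff_eq_mul, mul_inv_rev, mul_assoc g, mul_assoc g,
      ← mul_assoc (xV t * _), ← e']
    group
  · rw [e', ← xV_neg, Perm.mul_apply, Perm.mul_apply, xV_w0, show gV (tau * hb (-1)
      (neg_ne_zero.2 one_ne_zero)) (w0 : V K) = w0 from V.ext' (by simp [gV_apply, gf, w0])
        (by simp [gV_apply, gf, w0]) (by simp [gV_apply, gf, w0]) (by
          simp [gV_apply, gf, w0, tau, hb, nm_neg, nm_one]), xV_w0] at h1
    have := congrArg (fun y : V K => (y.2.2.2 : K)) h1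
    simp only [w0, Prod.snd_neg, Subfield.coe_neg, Subfield.coe_one] at this
    exact absurd (by linear_combination this) (two (K := K) hp)

theorem LG.cent_s (h : LG p X H) (hp : p ≠ 2) {g : Perm (V K)} (hg : g ∈ X)
    (hc : Commute g (gV tau)) (hW : ¬ On (g w0) w0) :
    (g w0).1 = 0 ∧ (g w0).2.1 ≠ 0 ∧ (g w0).2.2.1 = 0 := by
  have e : gV tau (g w0) = -g w0 := by
    rw [← Perm.mul_apply, ← hc.eq, Perm.mul_apply, tau_w0, (h.lin g hg).neg]
  rw [gV_tau] at e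
  have e1 : ((g w0).1 : K) = -((g w0).1 : K) := congrArg (fun y : V K => (y.1 : K)) e
  have e2 : (g w0).2.2.1 = -((g w0).2.2.1) := congrArg (fun y : V K => y.2.2.1) e
  have h1 : (g w0).1 = 0 := Subtype.ext ((mul_eq_zero.1 (show 2 * ((g w0).1 : K) = 0 by
    linear_combination e1)).resolve_left (two hp))
  have h2 : (g w0).2.2.1 = 0 := (mul_eq_zero.1 (show 2 * (g w0).2.2.1 = 0 by
    linear_combination e2)).resolve_left (two hp)
  exact ⟨h1, fun e => hW (on_w0.2 ⟨h1, e, h2⟩), h2⟩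

end Cfsg.Lib.D4F
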