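import Cfsg.Agent.D4F.Lo1
import Cfsg.Agent.D4F.LF
import Cfsg.Agent.D4F.L0
import Cfsg.Agent.D4F.Lb1

/-! The rank one structure in odd characteristic. -/

set_option autoImplicit false

namespace Cfsg.Lib.D4F

open Subgroup Equiv

variable {K : Type*} [Field K] [Cub K] [Finite K] {p : ℕ} [Fact p.Prime] [CharP K p]
  {H : Subgroup (Gm K)} {X : Subgroup (Perm (V K))}

theorem rk1_odd (hp : p ≠ 2) (h : LG p X H) (hT : T2Le H) : Rk1 X H := by
  obtain ⟨hP, hF⟩ := h.full hp hT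
  refine h.rk1 fun g hg hW => ?_
  obtain ⟨t, J, hJ, fl⟩ := hF g hg hW
  refine ⟨t, J, hJ, fl, ?_⟩
  obtain ⟨s0, r0⟩ := fl.sr (by
    have : 1 < Nat.card (kk K) := Finite.one_lt_card
    rw [hJ, card_K (K := K)]
    exact Nat.le_sub_one_of_lt (lt_self_pow₀ this (by norm_num)))
  have mv : ∀ a ∈ X, ¬ On (a w0) w0 → ∀ s, ¬ On ((xV s * a : Perm (V K)) w0) w0 :=
    fun a _ n s e => n (by
    simpa [xV_neg] using e.map (linV_xV (-s)) |>.trans (by rw [xV_w0]; exact On.refl _))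
  have hg' := mul_mem (h.xm t) hg
  have hW' := mv g hg hW t
  change ((xV t * g : Perm (V K)) w0).2.1 = 0 at s0
  change ((xV t * g : Perm (V K)) w0).2.2.1 = 0 at r0
  change On ((xV t * g : Perm (V K)) w0) w1
  generalize xV t * g = a at hg' hW' s0 r0
  have u0 : ((a w0).1 : K) ≠ 0 := fun e => hW' (on_w0.2 ⟨Subtype.ext e, s0, r0⟩)
  have e : (Set.range fun s => ln (xV s (a w0))) = Pts X \ {ln w0} := by
    refine Set.eq_of_subset_of_ncard_le ?_ ?_
    · rintro _ ⟨s, rfl⟩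
      exact ⟨⟨_, mul_mem (h.xm s) hg', rfl⟩, fun e =>
        mv a hg' hW' s ((ln_eq_iff (h.ne (mul_mem (h.xm s) hg'))).1 e)⟩
    rw [Set.ncard_diff_singleton_of_mem (show ln w0 ∈ Pts X from ⟨1, one_mem _, rfl⟩), hP,
      Nat.add_sub_cancel_left, ← Set.image_univ, Set.ncard_image_of_injective _ fun s s' e => ?_,
      Set.ncard_univ]
    have := ((ln_eq_iff (h.ne (mul_mem (h.xm s) hg'))).1 e).map (linV_xV (-s'))
    rw [← Perm.mul_apply (xV _) (xV s'), ← xV_add, neg_add_cancel, xV_zero, Perm.mul_apply,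
      ← Perm.mul_apply (xV _) (xV s), ← xV_add] at this
    exact (neg_add_eq_zero.1 (h.semi hg' hW' this)).symm
  have m := mul_mem (Lb1.tau_mem h hT) hg'
  obtain ⟨s, es⟩ := e.ge ⟨⟨_, m, rfl⟩, fun e => u0 (by
    have := (on_w0.1 ((ln_eq_iff (h.ne m)).1 e)).1
    rw [Perm.mul_apply, gV_tau] at this
    exact congrArg Subtype.val this)⟩
  obtain ⟨c, ec⟩ := (ln_eq_iff (h.ne (mul_mem (h.xm s) hg'))).1 es
  rw [Perm.mul_apply, Perm.mul_apply, gV_tau, xV_apply] at ec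
  have e1 := congrArg (fun y : V K => (y.1 : K)) ec
  have e2 := congrArg (fun y : V K => y.2.1) ec
  have e3 := congrArg (fun y : V K => (y.2.2.2 : K)) ec
  simp [xf, s0, u0] at e1 e2
  simp [xf, e1, e2] at e3
  refine on_w1.2 ⟨s0, r0, Subtype.ext ((mul_eq_zero.1 ?_).resolve_left (Lb1.two hp))⟩
  linear_combination e3

end Cfsg.Lib.D4F
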