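import Cfsg.Agent.D4F.G1u
import Cfsg.Agent.D4F.Fa
import Cfsg.Agent.D4F.Lo2
import Cfsg.Agent.D4F.L2
import Cfsg.Agent.D4F.G2b
import Cfsg.Agent.D4F.G2u
import Cfsg.Agent.D4F.A6
import Cfsg.Agent.D4F.R7

/-! Saturated systems over the model group are realizable. -/

set_option autoImplicit false

namespace Cfsg.Lib.D4F

open Cfsg Cfsg.FusionSystem Subgroup Equiv Cfsg.Lib.Fus

variable {K : Type*} [Field K] [Cub K] [Finite K] {p : ℕ} [Fact p.Prime] [CharP K p]
  {F F' : FusionSystem (⊤ : Subgroup (M K))} {H : Subgroup (Gm K)}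

theorem Fb.rk1 (h : NF p F H) (h1 : Mv1 F) (h2 : Mv2 F) : Rk1 (XF F) H :=
  (em (p = 2)).elim (fun hp => rk1_two hp (lg_XF h h1)) fun hp =>
    rk1_odd hp (lg_XF h h1) (g2b h h2)

theorem Fb.le (h : NF p F H) (h' : NF p F' H) (hT : TorLe H) (h1 : Mv1 F) (h2 : Mv2 F)
    (h1' : Mv1 F') (h2' : Mv2 F') : F ≤ F' := by
  refine le_of_autGroup_le_essential isPGroup_top h.sat fun P hP α hα =>
    (mem_autGroup_pext le_top).2 ?_
  have hf := piso_pext_of_mem le_top hα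
  rcases hP with rfl | hP
  · exact (h'.aut _).2 ((h.aut _).1 hf.mor)
  rcases ess h.sat hP with rfl | rfl
  · exact (g1u h h' hT (Fb.rk1 h h1 h2) (Fb.rk1 h' h1' h2') hf).mor
  · exact (g2u h h' hT h2 h2' hf).mor

theorem realizable_M {G : Type*} [Group G] [Finite G] {ι : M K →* G} {ρ : RingAut K →* MulAut G}
    (h : Rl p ι ρ) (hF : F.IsSaturated p) : F.IsRealizable p := by
  obtain ⟨D, H, hD, k⟩ := exists_NF hF
  refine k (by_contra fun n => ?_)
  have h1 : Mv1 D := by_contra fun m => n (realizable_of_not_mv hD (.inl m))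
  have h2 : Mv2 D := by_contra fun m => n (realizable_of_not_mv hD (.inr m))
  have hT := torLe_of (Fb.rk1 hD h1 h2).t1 (g2b hD h2)
  obtain ⟨D', hD', h1', h2', r⟩ := h.model hT hD.cop
  exact n (fus_le_antisymm (Fb.le hD' hD hT h1' h2' h1 h2) (Fb.le hD hD' hT h1 h2 h1' h2') ▸ r)

end Cfsg.Lib.D4F
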