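import Cfsg.Agent.D4F.G2a
import Cfsg.Agent.D4F.V0

/-! Fusion systems over a Sylow subgroup of `³D₄(q)`: `Aut(Q1)` is semilinear on `V`. -/

set_option autoImplicit false
set_option linter.unusedSectionVars false

namespace Cfsg.Lib.D4F

open Cfsg Cfsg.FusionSystem Subgroup Equiv Cfsg.Lib.Fus

variable {K : Type*} [Field K] [Cub K] [Finite K] {p : ℕ} [Fact p.Prime]
  {F F' : FusionSystem (⊤ : Subgroup (M K))} {E : Subgroup (M K)} {O : Perm (M K) → Prop}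
  {H : Subgroup (Gm K)} {X : Subgroup (Perm (V K))}

section Q1

variable {g g' x : M K} {f : Perm (M K)}

/-- A lift of a vector to `Q1`. -/
def lf (y : V K) : M K := ⟨0, y.1, y.2.1, y.2.2.1, y.2.2.2, 0, y.1.2, y.2.2.2.2, by simp⟩

theorem lf_eq_1' : type_of% @lf.eq_1 := @lf.eq_1

theorem lf_mem (y : V K) : lf y ∈ Q1 K := rfl
theorem vb_lf (y : V K) : vb (lf y) = y := rfl

theorem vb_eq_zero (hg : g ∈ Q1 K) : vb g = 0 ↔ g ∈ ZZ K :=
  ⟨fun h => ⟨hg, congrArg (·.1.1) h, congrArg (·.2.1) h, congrArg (·.2.2.1) h,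
    congrArg (·.2.2.2.1) h⟩, fun h => V.ext' h.2.1 h.2.2.1 h.2.2.2.1 h.2.2.2.2⟩

theorem vb_eq_iff (hg : g ∈ Q1 K) (hg' : g' ∈ Q1 K) : vb g = vb g' ↔ g⁻¹ * g' ∈ ZZ K := by
  have := vb_mul (x := g⁻¹ * g') hg
  rw [mul_inv_cancel_left] at this
  rw [← vb_eq_zero (mul_mem (inv_mem hg) hg'), this, left_eq_add]

theorem comm_Q1_iff (hg : g ∈ Q1 K) (hx : x ∈ Q1 K) : x * g = g * x ↔ fm (vb x) (vb g) = 0 := by
  rw [← cm_eq_one, ← cm_z hg hx]
  exact ⟨fun h => by rw [h]; rfl, eq_one_of_Z2 (ZZ_le_Z2 (cm_ZZ hg hx)) (cm_ZZ hg hx).2.2.2.2⟩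

theorem eq_ew (hg : g ∈ ZZ K) : g = ew g.z g.hz :=
  M.ext hg.1 hg.2.1 hg.2.2.1 hg.2.2.2.1 hg.2.2.2.2 rfl

theorem ew_mem (z : K) (h : σ z = z) : ew z h ∈ ZZ K := ⟨rfl, rfl, rfl, rfl, rfl⟩

theorem AutOn.q1_ZZ (hf : AutOn (Q1 K) f) : ∀ g ∈ ZZ K, f g ∈ ZZ K := fun g hg =>
  (vb_eq_zero (hf.mp hg.1)).1 (eq_zero_of_fm fun z => by
    obtain ⟨x, hx, e⟩ := hf.ex (lf_mem z)
    rw [← vb_lf z, ← e, ← comm_Q1_iff (hf.mp hx) (hf.mp hg.1)]
    exact hf.cmm hg.1 hx (comm_ZZ hg x).symm)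

theorem AutOn.vb_eq (hf : AutOn (Q1 K) f) (hg : g ∈ Q1 K) (hg' : g' ∈ Q1 K) (e : vb g = vb g') :
    vb (f g) = vb (f g') := by
  rw [vb_eq_iff (hf.mp hg) (hf.mp hg'), ← hf.1.map_inv hg, ← hf.1 _ (inv_mem hg) _ hg']
  exact hf.q1_ZZ _ ((vb_eq_iff hg hg').1 e)

/-- The action on `V`. -/
def AutOn.vp (hf : AutOn (Q1 K) f) : Perm (V K) :=
  ⟨fun y => vb (f (lf y)), fun y => vb (f⁻¹ (lf y)), fun y =>
    (hf.iv.vb_eq (lf_mem _) (hf.mp (lf_mem y)) rfl).trans (by rw [perm_inv_apply]; rfl), fun y =>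
    (hf.vb_eq (lf_mem _) (hf.iv.mp (lf_mem y)) rfl).trans (by rw [perm_apply_inv]; rfl)⟩

theorem AutOn.vp_eq_1' : type_of% @AutOn.vp.eq_1 := @AutOn.vp.eq_1

theorem AutOn.vb_vp (hf : AutOn (Q1 K) f) (hg : g ∈ Q1 K) : vb (f g) = hf.vp (vb g) :=
  hf.vb_eq hg (lf_mem _) rfl

end Q1

theorem g1s {f : Perm (M K)} (hf : AutOn (Q1 K) f) : (∀ g ∈ ZZ K, f g ∈ ZZ K) ∧
    ∃ (φ : Perm (V K)) (θ : kk K ≃+* kk K) (m : K), m ≠ 0 ∧ σ m = m ∧
      (∀ g ∈ Q1 K, vb (f g) = φ (vb g)) ∧ (∀ y z, φ (y + z) = φ y + φ z) ∧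
      (∀ c y, φ (c • y) = θ c • φ y) ∧ (∀ g ∈ ZZ K, (f g).z = m * θ ⟨g.z, g.hz⟩) ∧
      ∀ y z, fm (φ y) (φ z) = m * θ ⟨fm y z, σ_fm y z⟩ := by
  refine ⟨hf.q1_ZZ, hf.vp, ?_⟩
  obtain ⟨T, hT⟩ : ∃ T : kk K → kk K, ∀ g ∈ ZZ K, (f g).z = T ⟨g.z, g.hz⟩ :=
    ⟨fun c => ⟨(f (ew c c.2)).z, M.hz _⟩, fun g hg => by conv_lhs => rw [eq_ew hg]⟩
  have ta : ∀ c d, T (c + d) = T c + T d := fun c d => Subtype.ext (by
    have h1 := ew_mem _ (σ_coe c)
    have h2 := ew_mem _ (σ_coe d)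
    have := hT _ (mul_mem h1 h2)
    rw [hf.1 _ h1.1 _ h2.1, M.mul_z, (hf.q1_ZZ _ h1).1, (hf.q1_ZZ _ h1).2.1,
      (hf.q1_ZZ _ h1).2.2.2.1, hT _ h1, hT _ h2] at this
    simp only [zero_mul, sh_zero, nm_zero, tr_zero, mul_zero, add_zero] at this
    exact .trans (congrArg (fun c => (T c : K)) (Subtype.ext (by mdl [ew, Subfield.coe_add])))
      this.symm)
  have ti : Function.Injective T := fun c d e => by
    have h1 := hf.q1_ZZ _ (ew_mem _ (σ_coe c))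
    have h2 := hf.q1_ZZ _ (ew_mem _ (σ_coe d))
    exact Subtype.ext (congrArg M.z (f.injective (Z2_ext (ZZ_le_Z2 h1) (ZZ_le_Z2 h2)
      (h1.2.2.2.2.trans h2.2.2.2.2.symm) (by
        rw [hT _ (ew_mem _ _), hT _ (ew_mem _ _)]; exact congrArg Subtype.val e))))
  have tf : ∀ y z, fm (hf.vp y) (hf.vp z) = T ⟨fm y z, σ_fm y z⟩ := fun y z => by
    have := hT _ (cm_ZZ (lf_mem z) (lf_mem y))
    rw [hf.mcm (lf_mem z) (lf_mem y), cm_z (hf.mp (lf_mem z)) (hf.mp (lf_mem y))] at this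
    exact this.trans (congrArg (fun c => (T c : K)) (Subtype.ext (cm_z rfl rfl)))
  obtain ⟨c1, h1⟩ := Finite.surjective_of_injective ti 1
  have key : ∀ l c, T (l * c) = T (l * c1) * T c := fun l c => by
    obtain ⟨z, hz⟩ := hf.vp.surjective (T c • hf.vp (c1 • w0))
    have k : ∀ l : kk K, T (l * ⟨fm w1 z, σ_fm _ _⟩) = T (l * c1) * T c := fun l => by
      have e1 := tf (l • w1) z
      rw [hz, fm_smul', tf] at e1
      simp only [fm_smul, fm_smul', fm_w1_w0, mul_one] at e1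
      exact Subtype.ext (e1.symm.trans (by
        rw [mul_comm]; exact congrArg (fun c => (T c : K) * _) (Subtype.ext (mul_comm _ _))))
    have := k 1
    rw [one_mul, one_mul, h1, one_mul] at this
    rw [← k l, ti this]
  have t0 : T 0 = 0 := by simpa using ta 0 0
  let θ : kk K →+* kk K :=
    { toFun := fun l => T (l * c1)
      map_one' := by rw [one_mul, h1]
      map_mul' := fun a b => by rw [mul_assoc, key]
      map_zero' := by rw [zero_mul, t0]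
      map_add' := fun a b => by rw [add_mul, ta] }
  have hm : ∀ c, (T c : K) = T 1 * θ c := fun c => by
    rw [← Subfield.coe_mul, mul_comm]; exact congrArg Subtype.val (by simpa [θ] using key c 1)
  refine ⟨.ofBijective θ (Finite.injective_iff_bijective.1 θ.injective), T 1,
    fun e => one_ne_zero (ti ((Subtype.ext e).trans t0.symm)), σ_coe _, fun g => hf.vb_vp,
    fun y z => ?_, fun c y => sub_eq_zero.1 (eq_zero_of_fm fun z => ?_),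
    fun g hg => (hT g hg).trans (hm _), fun y z => (tf y z).trans (hm _)⟩
  · have := hf.vb_vp (mul_mem (lf_mem y) (lf_mem z))
    rw [hf.1 _ (lf_mem y) _ (lf_mem z), vb_mul (hf.mp (lf_mem y)), vb_mul (lf_mem y)] at this
    exact this.symm
  · obtain ⟨z, rfl⟩ := hf.vp.surjective z
    rw [fm_sub, fm_smul, tf, tf, sub_eq_zero, ← Subfield.coe_mul]
    exact congrArg Subtype.val ((congrArg T (Subtype.ext (fm_smul c y z))).trans (key c _))

end Cfsg.Lib.D4F
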