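import Cfsg.Agent.D4F.Ess
import Cfsg.Agent.D4F.G1s
import Cfsg.Agent.D4F.F4
import Cfsg.Agent.D4F.Cn

/-! Fusion systems over a Sylow subgroup of `³D₄(q)`: maps on overgroups of `Q1`. -/

set_option autoImplicit false
set_option linter.unusedSectionVars false

namespace Cfsg.Lib.D4F

open Cfsg Cfsg.FusionSystem Subgroup Equiv Cfsg.Lib.Fus

variable {K : Type*} [Field K] [Cub K] [Finite K] {p : ℕ} [Fact p.Prime]
  {F : FusionSystem (⊤ : Subgroup (M K))} {H : Subgroup (Gm K)} [CharP K p]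

namespace G1t

theorem t_eq (x : M K) (γ : Gm K) (g : M K) : (x * Gm.aut γ g * x⁻¹).t = γ.a * γ.φ g.t := by
  mdl [Gm.aut_t]

theorem mem_iff (x : M K) (γ : Gm K) (g : M K) : x * Gm.aut γ g * x⁻¹ ∈ Q1 K ↔ g ∈ Q1 K := by
  rw [mem_Q1, mem_Q1, t_eq]; simp [γ.ha]

theorem conj_ZZ (x : M K) {g : M K} (hg : g ∈ ZZ K) : x * g * x⁻¹ ∈ ZZ K := by
  rw [comm_ZZ hg x]; simpa using hg

end G1t

open G1t

theorem g1t (h : NF p F H) {R : Subgroup (M K)} (hR : Q1 K < R) {f : Perm (M K)}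
    (hf : Mor F R f) : Res H R f := by
  refine alperin_essential isPGroup_top h.sat (Φ := fun P f => Q1 K < P → Res H P f)
    (fun P f g _ k e hP => ?_) (fun P Q f _ k e hQ => ?_) (fun P Q R f g hf hg k k' hP => ?_)
    (fun Q hQ _ f hf k => ?_) R f hf hR
  · obtain ⟨x, γ, hγ, e'⟩ := k hP
    exact ⟨x, γ, hγ, fun a ha => (e a ha).symm.trans (e' a ha)⟩
  · obtain ⟨x, γ, hγ, e'⟩ := k (hQ.trans_le e)
    exact ⟨x, γ, hγ, fun a ha => e' a (e ha)⟩
  · obtain ⟨x, γ, hγ, e⟩ := k hP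
    obtain ⟨a, ha, a1⟩ := SetLike.exists_of_lt hP
    obtain ⟨y, δ, hδ, e'⟩ := k' (SetLike.lt_iff_le_and_exists.2 ⟨fun b hb => by
      have e1 : x * Gm.aut γ ((Gm.aut γ)⁻¹ (x⁻¹ * b * x)) * x⁻¹ = b := by
        rw [MulAut.apply_inv_self]; group
      have e2 := hP.le ((mem_iff x γ _).1 (e1.symm ▸ hb))
      rw [← e1, ← e _ e2]; exact hf.maps e2,
      f a, hf.maps ha, by rw [e a ha, mem_iff]; exact a1⟩)
    refine ⟨y * Gm.aut δ x, δ * γ, mul_mem hδ hγ, fun b hb => ?_⟩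
    rw [Perm.mul_apply, e' _ (hf.maps hb), e b hb, map_mul, map_mul, map_inv, map_mul, MulAut.mul_apply]
    group
  · rcases hQ with rfl | hQ
    · obtain ⟨x, γ, hγ, e⟩ := (h.aut f).1 hf.mor
      exact ⟨x, γ, hγ, fun a _ => e a⟩
    · rcases ess h.sat hQ with rfl | rfl
      · exact absurd k (lt_irrefl _)
      · exact absurd (k.le (show eb (1 : K) (map_one _) ∈ Q1 K from rfl)) one_ne_zero

theorem g1k (hF : F.IsSaturated p) {f : Perm (M K)} (hf : PIso F f (Q1 K) (Q1 K))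
    (e : ∀ g ∈ Q1 K, vb (f g) = vb g) : ∃ x ∈ Q1 K, ∀ g ∈ Q1 K, f g = x * g * x⁻¹ := by
  obtain ⟨x, hx⟩ := inner_of_cn isPGroup_top hF (fun x _ => conj_Q1 x) hf
    (.step (Y := ZZ K) (fun _ hg => hg.1) (fun x _ => conj_ZZ x)
      (fun g hg => (vb_eq_iff hg (hf.maps hg)).1 (e g hg).symm)
      (.step bot_le (fun x g hg => by simp [mem_bot.1 hg]) (fun g hg => by
        have hb : eb (1 : K) (map_one _) ∈ Q1 K := rfl
        have k := hf.autOn.q1_ZZ g hg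
        refine mem_bot.2 (inv_mul_eq_one.2 (Z2_ext (ZZ_le_Z2 hg) (ZZ_le_Z2 k) (hg.2.2.2.2.trans k.2.2.2.2.symm) ?_))
        obtain ⟨d, hd, rfl⟩ := exists_cm_ZZ (y := eb (1 : K) (map_one _)) one_ne_zero hg
        rw [hf.map_cm hd.1 hb, cm_z hd.1 hb, cm_z (hf.maps hd.1) (hf.maps hb), e _ hb, e _ hd.1]) .bot))
  refine ⟨x, xV_inj (Equiv.ext fun y => ?_), hx⟩
  rw [xV_zero, ← vb_lf y, ← vb_conj (lf_mem y), ← hx _ (lf_mem y), e _ (lf_mem y)]
  rfl

theorem g1ti (h : NF p F H) {f : Perm (M K)} (hf : PIso F f (Q1 K) (Q1 K)) {φ : Perm (V K)}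
    (e : ∀ g ∈ Q1 K, vb (f g) = φ (vb g)) {t t' : K} (ht : t ≠ 0)
    (e' : φ * xV t * φ⁻¹ = xV t') : Res H (Q1 K) f := by
  have hN : ∀ x : M K, x ∈ normalizer (Q1 K : Set (M K)) := fun x => mem_normalizer_of_cm fun g _ => cm_t
  have c := fun x : M K => PIso.cj F (P := Q1 K) le_top ⟨mem_top x, hN x⟩
  obtain ⟨y, -, hy⟩ := g1k h.sat (((c (ea t')⁻¹).trans hf.symm).trans ((c (ea t)).trans hf)) fun g hg => by
    have g1 := (c (ea t')⁻¹).maps hg
    have g2 := hf.inv_maps g1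
    have k := e _ g2
    rw [perm_apply_inv, ← Perm.inv_eq_iff_eq, cj_apply, vb_conj hg] at k
    rw [Perm.mul_apply, Perm.mul_apply, Perm.mul_apply, e _ ((c _).maps g2), cj_apply, vb_conj g2,
      cj_apply, ← k]
    change (φ * xV t * φ⁻¹ * xV (-t')) _ = _
    rw [e', ← xV_add, add_neg_cancel, xV_zero]; rfl
  obtain ⟨g, hg, e⟩ := hf.exists_ext
    (sat_receptive isPGroup_top h.sat (isFullyNormalized_of_le_normalizer le_top fun x _ => hN x))
  obtain ⟨x, γ, hγ, k⟩ := g1t h (SetLike.lt_iff_le_and_exists.2 ⟨hf.mor.le_extd, ea t,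
    mem_extd.2 ⟨trivial, hN _, y * ea t', trivial, fun a ha => by
      have := hy _ ((c (ea t')).maps (hf.maps ha))
      simp only [Perm.mul_apply, cj_apply, inv_inv, mul_assoc, inv_mul_cancel_left, inv_mul_cancel, mul_one,
        perm_inv_apply] at this
      simp only [mul_assoc, this, mul_inv_rev]⟩, ht⟩) hg
  exact ⟨x, γ, hγ, fun a ha => (e a ha).symm.trans (k a (hf.mor.le_extd ha))⟩

end Cfsg.Lib.D4F
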