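import Cfsg.Agent.D4F.G1c
import Cfsg.Agent.D4F.SEa
import Cfsg.Agent.D4F.LP
import Cfsg.Agent.D4F.G1t

/-! The stabiliser of `Z2` in `Aut_F(Q1)` for `p = 2`. -/

set_option autoImplicit false

namespace Cfsg.Lib.D4F

open Cfsg Cfsg.FusionSystem Subgroup Equiv Cfsg.Lib.Fus

variable {K : Type*} [Field K] [Cub K]

/-- The preimage in `Q12` of an additive subgroup. -/
def G1e.pre (A : AddSubgroup (K × K)) : Subgroup (M K) where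
  carrier := {g | g ∈ Q12 K ∧ (g.s, g.r) ∈ A}
  one_mem' := ⟨one_mem _, zero_mem A⟩
  mul_mem' := fun {a b} ha hb => ⟨mul_mem ha.1 hb.1, by
    convert add_mem ha.2 hb.2 using 1
    exact Prod.ext (by mdl [Prod.fst_add, hb.1.2]) (by mdl [Prod.snd_add, ha.1.1, hb.1.2])⟩
  inv_mem' := fun {a} ha => ⟨Subgroup.inv_mem _ ha.1, by
    convert neg_mem ha.2 using 1
    exact Prod.ext (by mdl [Prod.fst_neg, ha.1.2]) (by mdl [Prod.snd_neg, ha.1.1, ha.1.2])⟩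

theorem G1e.pre_eq_1' : type_of% @G1e.pre.eq_1 := @G1e.pre.eq_1

open G1e in
theorem G1e.ch {f₁ f₂ : M K → M K} {N₁ N₂ : K × K → K × K}
    (e : ∀ f N, (f = f₁ ∧ N = N₁ ∨ f = f₂ ∧ N = N₂) → St f (Q1 K) (Q12 K) ∧
      (∀ g ∈ Q12 K, ((g⁻¹ * f g).s, (g⁻¹ * f g).r) = N (g.s, g.r)) ∧ St f (Z2 K) (ZZ K) ∧
      St f (ZZ K) ⊥) {A₁ A₂ A₃ : AddSubgroup (K × K)}
    (h₁ : A₂ ≤ A₁) (h₂ : A₃ ≤ A₂) (h : ∀ N, (N = N₁ ∨ N = N₂) → (∀ v, N v ∈ A₁) ∧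
      (∀ v ∈ A₁, N v ∈ A₂) ∧ (∀ v ∈ A₂, N v ∈ A₃) ∧ ∀ v ∈ A₃, N v = 0) : Ch f₁ f₂ (Q1 K) := by
  have k : ∀ f N, (f = f₁ ∧ N = N₁ ∨ f = f₂ ∧ N = N₂) → St f (Q12 K) (pre A₁) ∧
      St f (pre A₁) (pre A₂) ∧ St f (pre A₂) (pre A₃) ∧ St f (pre A₃) (Z2 K) := fun f N hf => by
    obtain ⟨e1, c, -⟩ := e f N hf
    obtain ⟨n1, n2, n3, n4⟩ := h N (hf.imp And.right And.right)
    have m : ∀ g ∈ Q12 K, g⁻¹ * f g ∈ Q12 K := fun g hg => e1 g hg.1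
    exact ⟨fun g hg => ⟨m g hg, c g hg ▸ n1 _⟩, fun g hg => ⟨m g hg.1, c g hg.1 ▸ n2 _ hg.2⟩,
      fun g hg => ⟨m g hg.1, c g hg.1 ▸ n3 _ hg.2⟩, fun g hg =>
        have := Prod.mk.inj ((c g hg.1).trans (n4 _ hg.2))
        ⟨(m g hg.1).1, (m g hg.1).2, this.1, this.2⟩⟩
  obtain ⟨a1, a2, a3, a4⟩ := k _ _ (.inl ⟨rfl, rfl⟩)
  obtain ⟨b1, b2, b3, b4⟩ := k _ _ (.inr ⟨rfl, rfl⟩)
  obtain ⟨a0, -, a5, a6⟩ := e _ _ (.inl ⟨rfl, rfl⟩)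
  obtain ⟨b0, -, b5, b6⟩ := e _ _ (.inr ⟨rfl, rfl⟩)
  refine .step Q12_le_Q1 a0 b0 (.step ?_ a1 b1 (.step ?_ a2 b2 (.step ?_ a3 b3
    (.step (fun _ h => ?_) a4 b4 (.step ZZ_le_Z2 a5 b5 (.step bot_le a6 b6 .bot))))))
  exacts [fun _ h => h.1, fun _ h => ⟨h.1, h₁ h.2⟩, fun _ h => ⟨h.1, h₂ h.2⟩,
    ⟨⟨h.1, h.2.1⟩, by rw [h.2.2.1, h.2.2.2]; exact zero_mem _⟩]

variable [Finite K] {p : ℕ} [Fact p.Prime] {F : FusionSystem (⊤ : Subgroup (M K))}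
  {H : Subgroup (Gm K)} [CharP K p]

theorem G1e.res (h : NF p F H) {f : Perm (M K)} (hf : PIso F f (Q1 K) (Q1 K)) {t : K} (ht : t ≠ 0)
    {y : M K} (e : ∀ g ∈ Q1 K, f (ea t * g * (ea t)⁻¹) = y * f g * y⁻¹) : Res H (Q1 K) f :=
  g1ti h hf (fun _ => hf.autOn.vb_vp) ht (t' := y.t) (mul_inv_eq_iff_eq_mul.2 (Equiv.ext fun v => by
    obtain ⟨g, hg, rfl⟩ := exists_vb v
    rw [Perm.mul_apply, Perm.mul_apply, ← hf.autOn.vb_vp hg, ← vb_conj (hf.maps hg), ← e g hg,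
      hf.autOn.vb_vp (conj_Q1 _ hg), vb_conj hg]
    rfl))

theorem g1e (hp : p = 2) (h : NF p F H) {f : Perm (M K)} (hf : PIso F f (Q1 K) (Q1 K))
    (hZ : ∀ g ∈ Z2 K, f g ∈ Z2 K) : Res H (Q1 K) f := by
  have hS : IsPGroup p (⊤ : Subgroup (M K)) := isPGroup_top
  obtain ⟨fQ, -, φ, hφ, θ, hθ⟩ := g1c hf.autOn hZ
  obtain ⟨t, ht, A₁, A₂, A₃, h₁, h₂, hA⟩ :=
    lemP (by subst hp; exact_mod_cast CharP.cast_eq_zero K 2) φ θ hθ one_ne_zero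
  have c : ∀ s : K, ∀ g ∈ Q12 K, ((cm g (ea s)).s, (cm g (ea s)).r) = Nt s (g.s, g.r) :=
    fun s g hg => Prod.ext (cm_UU_left hg _).2.2 (cm_r_left hg)
  have d : ∀ g ∈ Q1 K, g⁻¹ * (f * cj (ea 1) * f⁻¹ : Perm (M K)) g = f (cm (f⁻¹ g) (ea 1)) :=
    fun g hg => by
      have m := hf.inv_maps hg
      rw [cm, hf.map_mul (Subgroup.inv_mem _ m) (conj_Q1 _ m), hf.mor.map_inv m, perm_apply_inv]
      rfl
  have hN : ⊤ ≤ normalizer (Q1 K : Set (M K)) := fun x _ =>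
    mem_normalizer_fintype fun _ => conj_Q1 x
  have hT := sat_sylIn hS h.sat (isFullyNormalized_of_le_normalizer (F := F) le_top hN)
  have cT := fun x : M K => conjAut_mem_autInducedBy (mem_top x) (hN (mem_top x))
  have hR := Ch.pgroup (hS.to_le le_top) (α := conjAut _ (ea t) (hN (mem_top _)))
    (β := hf.aut * conjAut _ (ea 1) (hN (mem_top _)) * hf.aut⁻¹) (f₁ := cj (ea t))
    (f₂ := (f * cj (ea 1) * f⁻¹ : Perm (M K))) (fun _ => rfl) (fun _ => rfl) (G1e.ch (by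
      rintro _ _ (⟨rfl, rfl⟩ | ⟨rfl, rfl⟩)
      · exact ⟨fun g _ => cm_Q12 g _, c t, fun g hg => cm_ZZ_left hg _,
          fun g hg => cm_eq_one.2 (comm_ZZ hg _)⟩
      refine ⟨fun g hg => d g hg ▸ fQ _ (cm_Q12 _ _), fun g hg => ?_,
        fun g hg => d g hg.1 ▸ hf.autOn.q1_ZZ _ (cm_ZZ_left (ivm hZ g hg) _), fun g hg => ?_⟩
      · have e1 := hφ _ (ivm fQ g hg)
        rw [perm_apply_inv] at e1
        simp only [d g hg.1, hφ _ (cm_Q12 _ _), c _ _ (ivm fQ g hg), e1, φ.symm_apply_apply]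
      · rw [d g hg.1, cm_eq_one.2 (comm_ZZ (ivm hf.autOn.q1_ZZ g hg) _), hf.mor.map_one]
        exact one_mem _) h₁ h₂ hA)
  obtain ⟨a, ha, k⟩ := hT.exists_conj ((closure_le _).2 (Set.pair_subset (hT.le (cT _))
    (mul_mem (mul_mem hf.aut_mem (hT.le (cT _))) (Subgroup.inv_mem _ hf.aut_mem)))) hR
  obtain ⟨y, -, hy, e⟩ := mem_autInducedBy'.1 (k _ (subset_closure (.inl rfl)))
  obtain ⟨y', -, hy', e'⟩ := mem_autInducedBy'.1 (k _ (subset_closure (.inr rfl)))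
  have pa := piso_pext_of_mem le_top ha
  obtain ⟨x, γ, -, r⟩ := G1e.res h pa ht (y := y) fun g hg => by
    have := congrArg (fun b : MulAut (Q1 K) => (b (a ⟨g, hg⟩) : M K)) e
    simp only [MulAut.mul_apply, MulAut.inv_apply_self, conjAut_apply] at this
    rw [pext_of_mem _ hg, ← this, ← pext_coe]
    rfl
  refine G1e.res h hf one_ne_zero (y := (Gm.aut γ)⁻¹ (x⁻¹ * y' * x)) fun g hg => ?_
  have := congrArg (fun b : MulAut (Q1 K) => (b (a (hf.aut ⟨g, hg⟩)) : M K)) e'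
  simp only [MulAut.mul_apply, MulAut.inv_apply_self, conjAut_apply] at this
  rw [← pext_coe, ← pext_coe a, r _ (Subtype.prop _), r _ (Subtype.prop _)] at this
  refine (Gm.aut γ).injective ?_
  rw [map_mul (Gm.aut γ), map_mul (Gm.aut γ), map_inv (Gm.aut γ), MulAut.apply_inv_self]
  exact mul_left_cancel (a := x) (mul_right_cancel (b := x⁻¹)
    (this.trans (by simp [mul_assoc, hf.aut_apply])))

end Cfsg.Lib.D4F
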