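import Cfsg.Agent.D4F.G1c
import Cfsg.Agent.D4F.LQ
import Cfsg.Agent.D4F.R1e
import Cfsg.Agent.D4F.Cn

/-! Fusion systems over a Sylow subgroup of `³D₄(q)`: the stabiliser of `Z2` in `Aut_F(Q1)`, `p` odd. -/

set_option autoImplicit false
set_option linter.unusedSectionVars false

namespace Cfsg.Lib.D4F

open Cfsg Cfsg.FusionSystem Subgroup Equiv Cfsg.Lib.Fus

variable {K : Type*} [Field K] [Cub K] [Finite K] {p : ℕ} [Fact p.Prime]
  {F : FusionSystem (⊤ : Subgroup (M K))} {H : Subgroup (Gm K)} [CharP K p]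

namespace G1o

theorem st_mul {a b : Perm (M K)} {X Y : Subgroup (M K)} (ha : St a X Y) (hb : St b X Y) (hY : Y ≤ X) :
    St (a * b : Perm (M K)) X Y := fun g hg => by
  have := mul_mem (hb g hg) (ha (b g) (by simpa using mul_mem hg (hY (hb g hg))))
  simpa [mul_assoc] using this

theorem st_conj {a b : Perm (M K)} (ha : AutOn (Q1 K) a) {X Y : Subgroup (M K)} (hb : St b X Y) (hY : Y ≤ X)
    (hX : X ≤ Q1 K) (h1 : ∀ g ∈ X, a g ∈ X) (h2 : ∀ g ∈ Y, a g ∈ Y) :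
    St (a * b * a⁻¹ : Perm (M K)) X Y := fun g hg => by
  have k := ivm h1 g hg
  have := h2 _ (hb _ k)
  rwa [ha.1 _ (inv_mem (hX k)) _ (hX (by simpa using mul_mem k (hY (hb _ k)))), ha.1.map_inv (hX k),
    perm_apply_inv] at this

theorem conj_normal {X Y : Subgroup (M K)} (hY : Y ≤ X) (h : ∀ g ∈ X, ∀ x, cm g x ∈ Y) (x : M K) :
    ∀ g ∈ X, x * g * x⁻¹ ∈ X := fun g hg => by simpa [cm] using mul_mem hg (hY (h g hg x))

end G1o

open G1o

theorem g1o (hp : p ≠ 2) (h : NF p F H) {f : Perm (M K)} (hf : PIso F f (Q1 K) (Q1 K))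
    (hZ : ∀ g ∈ Z2 K, f g ∈ Z2 K) : Res H (Q1 K) f := by
  by_cases hU : ∀ g ∈ UU K, f g ∈ UU K
  · exact h.res_of_ca (fun x _ => conj_Q1 x) hf (.step Q12_le_Q1 (g1c hf.autOn hZ).1
      (fun x g _ => cm_Q12 g x) (.low hU hZ hf.autOn.q1_ZZ hf.mor.map_one))
  exfalso
  have h2 := two_ne_of (K := K) hp
  have hN : ∀ x : M K, x ∈ normalizer (Q1 K : Set (M K)) := fun x => mem_normalizer_of_cm fun g _ => cm_t
  have nZ2 := conj_normal ZZ_le_Z2 fun g (hg : g ∈ Z2 K) x => cm_ZZ_left hg x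
  let D : Subgroup (MulAut (Q1 K)) := subgroupOfFinite
    {α | α ∈ F.autGroup (Q1 K) ∧ ∀ g ∈ Z2 K, pext _ α g ∈ Z2 K} ⟨one_mem _, fun g hg => by simpa using hg⟩
    fun a b ha hb => ⟨mul_mem ha.1 hb.1, fun g hg => by rw [map_mul]; exact ha.2 _ (hb.2 g hg)⟩
  have pi : ∀ α : D, PIso F (pext _ α.1) (Q1 K) (Q1 K) := fun α => piso_pext_of_mem le_top α.2.1
  have q12 := fun α : D => (g1c (pi α).autOn α.2.2).1
  choose φ hφ _ using fun α : D => (g1c (pi α).autOn α.2.2).2.2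
  have hm : ∀ v : K × K, lf (0, v.1, v.2, 0) ∈ Q12 K := fun v => ⟨rfl, rfl⟩
  let ρ : D →* Perm (K × K) := MonoidHom.mk' (fun α => (φ α).toEquiv) fun a b => Equiv.ext fun v => by
    have := hφ a _ (q12 b _ (hm v))
    rw [hφ b _ (hm v)] at this
    exact (hφ (a * b) _ (hm v)).symm.trans (by rw [coe_mul, map_mul]; exact this)
  have hρ : ∀ α : D, ∀ g ∈ Q12 K, ρ α (g.s, g.r) = ((pext _ α.1 g).s, (pext _ α.1 g).r) :=
    fun α g hg => (hφ α g hg).symm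
  have hT := sat_sylIn isPGroup_top h.sat (isFullyNormalized_of_le_normalizer (F := F) le_top fun x _ => hN x)
  have TD : autInducedBy ⊤ (Q1 K) ≤ D := fun α hα => ⟨hT.le hα, fun g hg => by
    obtain ⟨x, -, e⟩ := mem_autInducedBy_pext.1 hα
    rw [e g hg.1]; exact nZ2 x g hg⟩
  have ρc : ∀ (α : D) (x : M K), (∀ g ∈ Q1 K, pext _ α.1 g = x * g * x⁻¹) →
      ∀ a b, ρ α (a, b) = (a, b + cr x.t a) := fun α x e a b => by
    refine (hρ α _ (hm (a, b))).trans ?_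
    rw [e _ (hm (a, b)).1]
    exact Prod.ext (by mdl [lf, ZeroMemClass.coe_zero]) (by mdl [lf, ZeroMemClass.coe_zero])
  let c : M K → D := fun x => ⟨conjAut _ x (hN x), TD (conjAut_mem_autInducedBy (mem_top x) (hN x))⟩
  have hc : ∀ x, ∀ g ∈ Q1 K, pext _ (c x).1 g = x * g * x⁻¹ := fun x g hg => pext_conjAut (hN x) hg
  have cT : ∀ x, c x ∈ (autInducedBy ⊤ (Q1 K)).subgroupOf D := fun x => conjAut_mem_autInducedBy (mem_top x) (hN x)
  obtain ⟨ν, hν, eν⟩ := lemQ ρ (fun α => (φ α).map_add) (hT.mono TD fun _ h => h.1).subgroupOf_top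
    (fun s hs => by
      obtain ⟨x, -, e⟩ := mem_autInducedBy_pext.1 hs
      refine ⟨cr x.t, ρc s x e, (eq_or_ne x.t 0).imp (fun k a => by rw [k, zero_cr])
        fun k a e => (cr_eq_zero h2 e).resolve_left k⟩)
    (fun a ha d => by
      obtain ⟨s, hs⟩ := exists_cr h2 ha d
      exact ⟨c (ea s), cT _, fun y => by rw [ρc _ _ (hc _), cr_comm, ← hs]; rfl⟩)
    (by
      push Not at hU
      obtain ⟨g, hg, k⟩ := hU
      have e : ∀ g ∈ Q1 K, pext _ hf.aut g = f g := fun g hg => hf.pext_aut hg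
      refine ⟨⟨hf.aut, hf.aut_mem, fun g hg => by rw [e g hg.1]; exact hZ g hg⟩, g.r, fun k' => k ?_⟩
      rw [show ((0 : K), g.r) = (g.s, g.r) by rw [hg.2.2], hρ _ g (UU_le_Q12 hg), e g hg.1] at k'
      have := (g1c hf.autOn hZ).1 g (UU_le_Q12 hg)
      exact ⟨this.1, this.2, k'⟩)
  let N : Subgroup D := subgroupOfFinite
    {α | St (pext _ α.1) (Q1 K) (Q12 K) ∧ St (pext _ α.1) (Z2 K) (ZZ K) ∧ St (pext _ α.1) (ZZ K) ⊥}
    (by refine ⟨?_, ?_, ?_⟩ <;> intro g _ <;> simp) fun a b ha hb => by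
      simp only [Set.mem_ofPred_eq, coe_mul, map_mul]
      exact ⟨st_mul ha.1 hb.1 Q12_le_Q1, st_mul ha.2.1 hb.2.1 ZZ_le_Z2, st_mul ha.2.2 hb.2.2 bot_le⟩
  have nN : N.Normal := ⟨fun b hb a => by
    have ha := (pi a).autOn
    change St _ _ _ ∧ St _ _ _ ∧ St _ _ _
    simp only [coe_mul, coe_inv, map_mul, map_inv]
    exact ⟨st_conj ha hb.1 Q12_le_Q1 le_rfl (fun _ => ha.mp) (q12 a),
      st_conj ha hb.2.1 ZZ_le_Z2 (fun _ h => h.1) a.2.2 ha.q1_ZZ,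
      st_conj ha hb.2.2 bot_le (fun _ h => h.1) ha.q1_ZZ fun g hg => by rw [mem_bot.1 hg, ha.1.map_one]; rfl⟩⟩
  have TN : (autInducedBy ⊤ (Q1 K)).subgroupOf D ≤ N := fun s hs => by
    obtain ⟨x, -, e⟩ := mem_autInducedBy_pext.1 hs
    exact ⟨fun g hg => e g hg ▸ cm_Q12 g x, fun g hg => e g hg.1 ▸ cm_ZZ_left hg x,
      fun g hg => e g hg.1 ▸ cm_eq_one.2 (comm_ZZ hg x)⟩
  replace hν : ν ∈ N := normalClosure_le_normal TN hν
  have hψ : ν * c (ea 1) * ν⁻¹ * (c (ea 1))⁻¹ ∈ N :=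
    mul_mem (nN.conj_mem _ (TN (cT _)) ν) (inv_mem (TN (cT _)))
  have ρψ : ρ (ν * c (ea 1) * ν⁻¹ * (c (ea 1))⁻¹) = 1 := by
    rw [map_mul, map_mul, map_mul, map_inv, map_inv, mul_inv_eq_one, mul_inv_eq_iff_eq_mul]
    refine Equiv.ext fun v => ?_
    rw [Perm.mul_apply, Perm.mul_apply, eν, eν]
    exact ((φ _).map_neg v).symm
  generalize hψ' : ν * c (ea 1) * ν⁻¹ * (c (ea 1))⁻¹ = ψ at hψ ρψ
  obtain ⟨x, hx⟩ := inner_of_cn isPGroup_top h.sat (fun x _ => conj_Q1 x) (pi ψ)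
    (.step Q12_le_Q1 (conj_normal UU_le_Q12 fun _ => cm_UU_left) hψ.1
    (.step (Z2_le_UU.trans UU_le_Q12) nZ2 (fun g hg => by
      have k := hρ ψ g hg
      have k' := q12 ψ g hg
      rw [ρψ] at k
      obtain ⟨e1, e2⟩ := Prod.mk.inj k
      refine ⟨?_, ?_, ?_, ?_⟩ <;> mdl [hg.1, hg.2, k'.1, k'.2, ← e1, ← e2])
    (.step ZZ_le_Z2 (conj_normal bot_le fun _ hg x => cm_eq_one.2 (comm_ZZ hg x)) hψ.2.1
    (.step bot_le (fun x g hg => by simp [mem_bot.1 hg]) hψ.2.2 .bot))))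
  have xt : x.t = 0 := eq_zero_of_cr fun s => by
    have := ρc ψ x hx s 0
    rw [ρψ] at this
    rw [cr_comm]
    simpa using (congrArg Prod.snd this).symm
  have hb : eb (1 : K) (map_one _) ∈ Q1 K := rfl
  have bu : (eb (1 : K) (map_one _)).u = 1 := rfl
  generalize eb (1 : K) (map_one _) = g at hb bu
  have n1 := (pi ν).maps hb
  have e1 := hx _ (conj_Q1 (ea 1) n1)
  rw [← hψ', ← hc _ _ n1, ← Perm.mul_apply, ← Perm.mul_apply, ← map_mul, ← map_mul, ← coe_mul, ← coe_mul,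
    inv_mul_cancel_right, inv_mul_cancel_right, coe_mul, map_mul, Perm.mul_apply, hc _ _ hb, hc _ _ n1,
    show ea 1 * g * (ea 1)⁻¹ = g * cm g (ea 1) by rw [cm, mul_inv_cancel_left],
    (pi ν).map_mul hb cm_t] at e1
  have e2 := congrArg Prod.fst ((hρ ν _ (cm_Q12 g (ea 1))).symm.trans (eν _))
  have e3 := (hν.1 g hb).2
  have e4 := congrArg M.s e1
  have e5 := (q12 ν _ (cm_Q12 g (ea 1))).2
  simp only [M.mul_s, M.mul_u, M.mul_t, M.inv_s, M.inv_u, M.inv_t, ea, xt, cm_s, Prod.fst_neg, mem_Q1.1 n1,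
    mem_Q1.1 hb, bu] at e2 e3 e4 e5
  exact h2 (by grind)

end Cfsg.Lib.D4F
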