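import Cfsg.Agent.D4F.G1t
import Cfsg.Agent.D4F.G1o
import Cfsg.Agent.D4F.G1e
import Cfsg.Agent.D4F.G1s
import Cfsg.Agent.D4F.V0

/-! The linear group induced by `Aut_F(Q1)` on `V`. -/

set_option autoImplicit false

namespace Cfsg.Lib.D4F

open Cfsg Cfsg.FusionSystem Subgroup Equiv Cfsg.Lib.Fus

variable {K : Type*} [Field K] [Cub K] {p : ℕ} {F : FusionSystem (⊤ : Subgroup (M K))}
  {H : Subgroup (Gm K)} {f : Perm (M K)} {φ ψ : Perm (V K)}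

namespace G1L

theorem ext_vb (h : ∀ g ∈ Q1 K, φ (vb g) = ψ (vb g)) : φ = ψ := Equiv.ext fun y => by
  obtain ⟨g, hg, rfl⟩ := exists_vb y
  exact h g hg

theorem conj_Q1 (x : M K) {g : M K} (hg : g ∈ Q1 K) : x * g * x⁻¹ ∈ Q1 K :=
  mem_Q1.2 (by mdl [mem_Q1.1 hg])

theorem aut_Q1 (γ : Gm K) {g : M K} (hg : g ∈ Q1 K) : Gm.aut γ g ∈ Q1 K :=
  mem_Q1.2 (by rw [Gm.aut_t, mem_Q1.1 hg, map_zero, mul_zero])

theorem res_Z2 (x : M K) (γ : Gm K) {g : M K} (hg : g ∈ Z2 K) : x * Gm.aut γ g * x⁻¹ ∈ Z2 K := by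
  have h : Gm.aut γ g ∈ Z2 K := ⟨by simp [Gm.aut_t, hg.1], by simp [Gm.aut_u, hg.2.1],
    by simp [Gm.aut_s, hg.2.2.1], by simp [Gm.aut_r, hg.2.2.2]⟩
  have := mul_mem h (cm_Z2_left (Z2_le_UU h) x)
  rwa [cm, mul_inv_cancel_left] at this

theorem res_vb (e : ∀ g ∈ Q1 K, vb (f g) = φ (vb g)) (r : Res H (Q1 K) f) :
    ∃ t, ∃ γ ∈ H, φ = xV t * gV γ := by
  obtain ⟨x, γ, hγ, e'⟩ := r
  exact ⟨x.t, γ, hγ, ext_vb fun g hg => by rw [← e g hg, e' g hg, vb_conj (aut_Q1 γ hg)]; rfl⟩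

theorem map_Z2 (hf : PIso F f (Q1 K) (Q1 K)) (e : ∀ g ∈ Q1 K, vb (f g) = φ (vb g)) (hl : LinV φ)
    (h : On (φ w0) w0) : ∀ g ∈ Z2 K, f g ∈ Z2 K := fun g hg => by
  have k : On (vb g) w0 := on_w0.2 ⟨Subtype.ext hg.2.1, hg.2.2⟩
  have := on_w0.1 ((k.map hl).trans h)
  rw [← e g hg.1] at this
  exact ⟨hf.maps hg.1, congrArg Subtype.val this.1, this.2⟩

variable [Finite K]

theorem piso_cj (F : FusionSystem (⊤ : Subgroup (M K))) (x : M K) : PIso F (cj x) (Q1 K) (Q1 K) :=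
  PIso.cj F le_top ⟨trivial, mem_normalizer_of_finite fun _ => conj_Q1 x⟩

theorem xV_mem (F : FusionSystem (⊤ : Subgroup (M K))) (t : K) : xV t ∈ XF F :=
  ⟨linV_xV t, _, piso_cj F (ea t), fun _ hg => vb_conj hg⟩

theorem piso_of_res (h : NF p F H) (r : Res H (Q1 K) f) : PIso F f (Q1 K) (Q1 K) :=
  (h.mor_of_res r).piso_of_maps fun g hg => by
    obtain ⟨x, γ, -, e⟩ := r
    exact e g hg ▸ conj_Q1 x (aut_Q1 γ hg)

theorem piso_aut (h : NF p F H) {γ : Gm K} (hγ : γ ∈ H) :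
    PIso F (Gm.aut γ).toEquiv (Q1 K) (Q1 K) := piso_of_res h ⟨1, γ, hγ, fun _ _ => by simp⟩

variable [Fact p.Prime] [CharP K p]

theorem stab (h : NF p F H) (hf : PIso F f (Q1 K) (Q1 K)) (hZ : ∀ g ∈ Z2 K, f g ∈ Z2 K) :
    Res H (Q1 K) f := (em (p = 2)).elim (fun hp => g1e hp h hf hZ) fun hp => g1o hp h hf hZ

theorem syl (hF : F.IsSaturated p) : SylIn p (AV K) (XF F) := by
  choose c e using fun α : F.autGroup (Q1 K) => (g1s (piso_pext_of_mem le_top α.2).autOn).2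
  replace e : ∀ α, ∀ g ∈ Q1 K, vb (pext _ α.1 g) = c α (vb g) := fun α => by
    obtain ⟨_, _, -, -, k, -⟩ := e α
    exact k
  let π : F.autGroup (Q1 K) →* Perm (V K) := MonoidHom.mk' c fun α β => ext_vb fun g hg => by
    rw [← e _ g hg, Perm.mul_apply, ← e _ g hg, ← e _ _ (pext_mem _ hg), ← pext_mul]; rfl
  have := finite_autGroup F (le_top (a := Q1 K))
  have hT := sat_sylIn isPGroup_top hF (isFullyNormalized_of_le_normalizer (F := F) le_top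
    fun x _ => mem_normalizer_of_finite fun _ => conj_Q1 x)
  have k := hT.subgroupOf_top.map π
  rw [show Subgroup.map π _ = AV K from le_antisymm ?_ ?_] at k
  · refine k.mono (by rintro _ ⟨t, rfl⟩; exact xV_mem F t) fun φ ⟨_, f, hf, e'⟩ =>
      ⟨⟨_, hf.aut_mem⟩, trivial, ext_vb fun g hg => ?_⟩
    rw [← e' g hg, ← hf.pext_aut hg]
    exact (e ⟨_, hf.aut_mem⟩ g hg).symm
  · rintro _ ⟨α, hα, rfl⟩
    obtain ⟨x, -, k⟩ := mem_autInducedBy_pext.1 hα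
    exact ⟨x.t, ext_vb fun g hg => (e α g hg).symm.trans ((congrArg vb (k g hg)).trans (vb_conj hg))⟩
  · rintro _ ⟨t, rfl⟩
    have hf := piso_cj F (ea t)
    exact ⟨⟨_, hf.aut_mem⟩, mem_autInducedBy.2 ⟨ea t, trivial, fun _ => rfl⟩, ext_vb fun g hg =>
      (e _ g hg).symm.trans (by rw [hf.pext_aut hg]; exact vb_conj hg)⟩

end G1L

open G1L

variable [Finite K] [Fact p.Prime] [CharP K p]

theorem g1fr (h : NF p F H) {f : Perm (M K)} (hf : PIso F f (Q1 K) (Q1 K)) :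
    ∃ f', PIso F f' (Q1 K) (Q1 K) ∧ (∃ φ ∈ XF F, ∀ g ∈ Q1 K, vb (f' g) = φ (vb g)) ∧
      Res H (Q1 K) (f'⁻¹ * f : Perm (M K)) := by
  obtain ⟨-, φ, θ, -, -, -, e, a1, a2, -⟩ := g1s hf.autOn
  obtain ⟨n, ⟨hl, k, hk, ek⟩, hn⟩ := (syl h.sat).frattini (g := φ) (mem_normalizer_of_finite
    fun ψ ⟨⟨b1, b2⟩, k, hk, ek⟩ => ⟨⟨fun y z => by
      obtain ⟨y, rfl⟩ := φ.surjective y
      obtain ⟨z, rfl⟩ := φ.surjective z
      simp only [← a1, Perm.mul_apply, perm_inv_apply, b1], fun c y => by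
      obtain ⟨y, rfl⟩ := φ.surjective y
      obtain ⟨c, rfl⟩ := θ.surjective c
      simp only [← a2, Perm.mul_apply, perm_inv_apply, b2]⟩, _, (hf.symm.trans hk).trans hf,
      fun g hg => by
        obtain ⟨g, rfl⟩ := f.surjective g
        have hg := (hf.mem g).1 hg
        simp only [Perm.mul_apply, perm_inv_apply, e _ (hk.maps hg), ek g hg, e g hg]⟩)
  obtain ⟨t, et⟩ := conj_mem_of_mem_normalizer hn ⟨1, rfl⟩
  refine ⟨k⁻¹, hk.symm, ⟨n⁻¹, inv_mem ⟨hl, k, hk, ek⟩, fun g hg => ?_⟩, g1ti h (hf.trans hk)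
    (fun g hg => ?_) one_ne_zero et⟩
  · rw [Perm.eq_inv_iff_eq, ← ek _ (hk.inv_maps hg), perm_apply_inv]
  · rw [Perm.mul_apply, inv_inv, ek _ (hf.maps hg), e g hg, Perm.mul_apply]

theorem lg_XF (h : NF p F H) (hm : Mv1 F) : LG p (XF F) H := by
  refine ⟨fun _ hg => hg.1, fun φ ⟨hl, f, hf, e⟩ => ?_, xV_mem F,
    fun γ hγ hl => ⟨linV_gV hl, _, piso_aut h hγ, fun g _ => vb_aut γ g⟩, h.cop,
    fun φ ⟨hl, f, hf, e⟩ hW => ?_, fun φ ⟨hl, f, hf, e⟩ t t' ht e' => ?_,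
    fun hp φ ⟨hl, f, hf, e⟩ => ?_, ?_⟩
  · obtain ⟨-, ψ, θ, m, -, -, e', -, a, -, b⟩ := g1s hf.autOn
    obtain rfl : φ = ψ := ext_vb fun g hg => (e g hg).symm.trans (e' g hg)
    have : ∀ c, θ c = c := fun c =>
      smul_left_injective _ (hl.ne_zero w0_ne) ((a c w0).symm.trans (hl.2 c w0))
    exact ⟨m, fun y z => by rw [b, this]⟩
  · obtain ⟨t, γ, hγ, rfl⟩ := res_vb e (stab h hf (map_Z2 hf e hl hW))
    refine ⟨t, γ, hγ, fun c hc => ?_, rfl⟩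
    have := congrArg (fun y : V K => (y.1 : K)) (hl.2 ⟨c, hc⟩ w1)
    simpa [xV_apply, xf, gV_apply, gf, w1, γ.hc, mul_comm c] using this
  · obtain ⟨s, γ, -, rfl⟩ := res_vb e (g1ti h hf e ht e')
    simpa only [xV_w0, Perm.mul_apply] using (gV_w0 γ).map (linV_xV s)
  · have hz : ee 1 (map_one σ) ∈ UU K := ⟨rfl, rfl, rfl⟩
    have := sq_z (hf.maps hz.1)
    rw [← hf.map_mul hz.1 hz.1, ← pow_two, ← hp, pow_UU hz, hf.mor.map_one, e _ hz.1,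
      show (2 : K) = 0 by simpa [hp] using CharP.cast_eq_zero K p, zero_mul, zero_add] at this
    exact this.symm
  · obtain ⟨f, hf, g, hg, n⟩ := hm
    obtain ⟨k, hk, ⟨φ, hφ, e⟩, x, γ, -, r⟩ := g1fr h hf
    refine ⟨φ, hφ, fun hW => n ?_⟩
    have := map_Z2 hk e hφ.1 hW _ (res_Z2 x γ hg)
    rwa [← r g hg.1, Perm.mul_apply, perm_apply_inv] at this

end Cfsg.Lib.D4F
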