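import Cfsg.Agent.D4F.G1s

/-! Fusion systems over a Sylow subgroup of `³D₄(q)`: the action on `Q12 / Z2`. -/

set_option autoImplicit false
set_option linter.unusedSectionVars false

namespace Cfsg.Lib.D4F

open Cfsg Cfsg.FusionSystem Subgroup Equiv Cfsg.Lib.Fus

variable {K : Type*} [Field K] [Cub K] [Finite K] {p : ℕ} [Fact p.Prime]
  {F F' : FusionSystem (⊤ : Subgroup (M K))} {E : Subgroup (M K)} {O : Perm (M K) → Prop}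
  {H : Subgroup (Gm K)} {X : Subgroup (Perm (V K))}

namespace G1c

variable {f : Perm (M K)} (hf : AutOn (Q1 K) f) (hZ : ∀ g ∈ Z2 K, f g ∈ Z2 K)
include hf hZ

theorem q12 : ∀ g ∈ Q12 K, f g ∈ Q12 K := fun g hg => ⟨hf.mp hg.1, mem_Q2_of_comm' fun d hd => by
  simpa using hf.cmm hg.1 (ivm hZ d hd).1 (comm_Z2 (ivm hZ d hd) hg.2)⟩

theorem sr {g g' : M K} (hg : g ∈ Q12 K) (hg' : g' ∈ Q12 K) (e : (g.s, g.r) = (g'.s, g'.r)) :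
    ((f g).s, (f g).r) = ((f g').s, (f g').r) := by
  obtain ⟨e1, e2⟩ := Prod.mk.inj e
  have h0 : g⁻¹ * g' ∈ Z2 K := ⟨by mdl [hg.1, hg'.1], by mdl [hg.2, hg'.2],
    by mdl [hg.2, hg'.2, e1], by mdl [hg.1, e2]⟩
  have h1 := hf.1 _ hg.1 _ h0.1
  have h2 := hZ _ h0
  rw [mul_inv_cancel_left] at h1
  rw [h1, M.mul_s, M.mul_r, h2.2.1, h2.2.2.1, h2.2.2.2]
  simp

end G1c

open G1c

theorem g1c {f : Perm (M K)} (hf : AutOn (Q1 K) f) (hZ : ∀ g ∈ Z2 K, f g ∈ Z2 K) :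
    (∀ g ∈ Q12 K, f g ∈ Q12 K) ∧ (∀ g ∈ Q1 K, ∀ g' ∈ Q1 K, g.u = g'.u → (f g).u = (f g').u) ∧
    ∃ φ : (K × K) ≃+ (K × K), (∀ g ∈ Q12 K, ((f g).s, (f g).r) = φ (g.s, g.r)) ∧
      ∃ θ : K → K, ∀ v w, Bf (φ v) (φ w) = θ (Bf v w) := by
  classical
  have hm : ∀ v : K × K, lf (0, v.1, v.2, 0) ∈ Q12 K := fun v => ⟨rfl, rfl⟩
  refine ⟨q12 hf hZ, fun g hg g' hg' e => ?_,
    { toFun := fun v => ((f (lf (0, v.1, v.2, 0))).s, (f (lf (0, v.1, v.2, 0))).r)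
      invFun := fun v => ((f⁻¹ (lf (0, v.1, v.2, 0))).s, (f⁻¹ (lf (0, v.1, v.2, 0))).r)
      left_inv := fun v => (sr hf.iv (ivm hZ) (hm _) (q12 hf hZ _ (hm v)) rfl).trans
        (by rw [perm_inv_apply]; rfl)
      right_inv := fun v => (sr hf hZ (hm _) (q12 hf.iv (ivm hZ) _ (hm v)) rfl).trans
        (by rw [perm_apply_inv]; rfl)
      map_add' := fun v w => ?_ }, fun g hg => sr hf hZ hg (hm (g.s, g.r)) rfl, ?_⟩
  · have h0 : g⁻¹ * g' ∈ Q12 K := ⟨mul_mem (inv_mem hg) hg', by mdl [e]⟩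
    have h1 := hf.1 _ hg _ h0.1
    rw [mul_inv_cancel_left] at h1
    rw [h1, M.mul_u, (q12 hf hZ _ h0).2, add_zero]
  · rw [sr hf hZ (hm _) (mul_mem (hm v) (hm w)) (by simp [M.mul_s, M.mul_r, lf]),
      hf.1 _ (hm v).1 _ (hm w).1, M.mul_s, M.mul_r, (q12 hf hZ _ (hm v)).1, (q12 hf hZ _ (hm w)).2]
    simp
  · obtain ⟨-, φ, θ, m, -, -, h1, -, -, -, h2⟩ := g1s hf
    have k : ∀ g ∈ Q12 K, ∀ g' ∈ Q12 K, fm (vb g) (vb g') = Bf (g.s, g.r) (g'.s, g'.r) :=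
      fun g hg g' hg' => by simp only [fm, vb, Bf, hg.2, hg'.2]; ring
    refine ⟨fun c => if h : σ c = c then m * θ ⟨c, h⟩ else 0, fun v w => ?_⟩
    have e := k _ (hm v) _ (hm w)
    refine (k _ (q12 hf hZ _ (hm v)) _ (q12 hf hZ _ (hm w))).symm.trans ?_
    rw [h1 _ (hm v).1, h1 _ (hm w).1, h2]
    beta_reduce
    rw [dif_pos (show σ (Bf v w) = Bf v w from e ▸ σ_fm _ _)]
    exact congrArg (fun c => m * (θ c : K)) (Subtype.ext e)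

end Cfsg.Lib.D4F
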