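import Cfsg.Agent.D4F.V0
import Cfsg.Agent.D4F.F3

/-! Fusion systems over a Sylow subgroup of `³D₄(q)`: maps centralising `T1`. -/

set_option autoImplicit false
set_option linter.unusedSectionVars false

namespace Cfsg.Lib.D4F

open Cfsg Cfsg.FusionSystem Subgroup Equiv Cfsg.Lib.Fus

variable {K : Type*} [Field K] [Cub K] [Finite K]

theorem g1u1 {δ : Perm (V K)} (hl : LinV δ) (hc : ∀ b h, Commute δ (gV (hb b h)))
    (h0 : On (δ w0) w0) (h1 : On (δ w1) w1) (h : ∀ t, On (δ (xV t w1)) w0 ∨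
      ∃ t', On (δ (xV t w1)) (xV t' w1)) : ∃ γ : Gm K, γ.φ = 1 ∧ δ = gV γ := by
  obtain ⟨d, hd⟩ := h0
  obtain ⟨c, hc1⟩ := h1
  have c0 : (c : K) ≠ 0 := fun e => hl.ne_zero w1_ne (by rw [hc1, show c = 0 from Subtype.ext e, zero_smul])
  have as : ∀ s s', δ (0, s + s', 0, 0) = δ (0, s, 0, 0) + δ (0, s', 0, 0) := fun s s' => by
    rw [← hl.1]; simp
  have ar : ∀ s s', δ (0, 0, s + s', 0) = δ (0, 0, s, 0) + δ (0, 0, s', 0) := fun s s' => by
    rw [← hl.1]; simp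
  have ms : ∀ b h s, δ (0, b * s, 0, 0) = gV (hb b h) (δ (0, s, 0, 0)) := fun b h s => by
    rw [← Perm.mul_apply, ← (hc b h).eq, Perm.mul_apply]
    obtain ⟨a1, a2, a3, a4⟩ := gV_hb b h (0, s, 0, 0)
    exact congrArg δ (V.ext' (by simp [a1]) a2.symm (by simp [a3]) (by simp [a4]))
  have mr : ∀ b (h : b ≠ 0) s, δ (0, 0, b * s, 0) = gV (hb b⁻¹ (inv_ne_zero h)) (δ (0, 0, s, 0)) :=
    fun b h s => by
      rw [← Perm.mul_apply, ← (hc _ _).eq, Perm.mul_apply]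
      obtain ⟨a1, a2, a3, a4⟩ := gV_hb b⁻¹ (inv_ne_zero h) (0, 0, s, 0)
      exact congrArg δ (V.ext' (by simp [a1]) (by simp [a2]) (by simp [a3]) (by simp [a4]))
  have ni : ∀ b : K, nm b⁻¹ = (nm b)⁻¹ := fun b => by simp [nm, mul_comm, mul_assoc]
  obtain ⟨α, hα⟩ : ∃ α, ∀ s, δ (0, s, 0, 0) = (0, α * s, 0, 0) := by
    refine ⟨(δ (0, 1, 0, 0)).2.1, fun s => V.ext' ?_ ?_ ?_ ?_⟩
    · exact add_char (.inl rfl) (fun s => (δ (0, s, 0, 0)).1) (fun s s' => by simp [as])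
        (fun a t h => by simp only [ms a h, (gV_hb a h _).1]) s
    · by_cases h : s = 0
      · rw [h, show ((0, 0, 0, 0) : V K) = 0 from rfl, hl.zero]; simp
      · rw [← mul_one s, ms s h, (gV_hb s h _).2.1, mul_one, mul_comm]
    · exact add_char (.inr (.inr (.inl rfl))) (fun s => (δ (0, s, 0, 0)).2.2.1)
        (fun s s' => by simp [as]) (fun a t h => by simp only [ms a h, (gV_hb a h _).2.2.1]) s
    · exact add_char (.inr (.inr (.inr rfl))) (fun s => (δ (0, s, 0, 0)).2.2.2)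
        (fun s s' => by simp [as]) (fun a t h => by simp only [ms a h, (gV_hb a h _).2.2.2]) s
  obtain ⟨β, hβ⟩ : ∃ β, ∀ s, δ (0, 0, s, 0) = (0, 0, β * s, 0) := by
    refine ⟨(δ (0, 0, 1, 0)).2.2.1, fun s => V.ext' ?_ ?_ ?_ ?_⟩
    · exact add_char (.inr (.inr (.inr rfl))) (fun s => (δ (0, 0, s, 0)).1)
        (fun s s' => by simp [ar]) (fun a t h => by simp only [mr a h, (gV_hb _ _ _).1, ni]) s
    · exact add_char (.inr (.inr (.inl rfl))) (fun s => (δ (0, 0, s, 0)).2.1)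
        (fun s s' => by simp [ar]) (fun a t h => by simp only [mr a h, (gV_hb _ _ _).2.1]) s
    · by_cases h : s = 0
      · rw [h, show ((0, 0, 0, 0) : V K) = 0 from rfl, hl.zero]; simp
      · rw [← mul_one s, mr s h, (gV_hb _ _ _).2.2.1, mul_one, mul_comm, inv_inv]
    · exact add_char (.inl rfl) (fun s => (δ (0, 0, s, 0)).2.2.2) (fun s s' => by simp [ar])
        (fun a t h => by simp only [mr a h, (gV_hb _ _ _).2.2.2, ni, inv_inv]) s
  have e : ∀ y, δ y = (c * y.1, α * y.2.1, β * y.2.2.1, d * y.2.2.2) := fun y => by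
    conv_lhs => rw [V.split y, hl.1, hl.1, hl.1, hl.2, hl.2, hc1, hd, hα, hβ]
    simp [w0, w1, mul_comm]
  have α0 : α ≠ 0 := fun k => hl.ne_zero (y := (0, 1, 0, 0)) (by simp) (by rw [hα, k]; simp)
  obtain ⟨t, l, k⟩ := (h 1).resolve_left fun k => c0 (by
    have := (on_w0.1 k).1
    rw [e, xV_w1_eq] at this
    simpa using this)
  rw [e, xV_w1_eq, xV_w1_eq] at k
  simp only [Prod.smul_mk, Prod.mk.injEq, mul_one, smul_eq_mul, ksmul, sh_one, Subtype.ext_iff,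
    MulMemClass.coe_mul, nm_one] at k
  obtain ⟨k1, k2, k3, k4⟩ := k
  rw [← k1] at k2 k3 k4
  refine ⟨⟨t, c, 1, fun k => α0 (by rw [k2, k, mul_zero]), c0, c.2, fun _ => rfl⟩, rfl,
    Equiv.ext fun y => ?_⟩
  rw [e, gV_apply]
  refine V.ext' ?_ ?_ ?_ ?_ <;> simp [gf, k2, k3, k4]

end Cfsg.Lib.D4F
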