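import Cfsg.Agent.D4F.G1s
import Cfsg.Agent.D4F.F2
import Cfsg.Agent.D4F.F4

/-! Fusion systems over a Sylow subgroup of `³D₄(q)`: central automorphisms of `Q1`. -/

set_option autoImplicit false
set_option linter.unusedSectionVars false

namespace Cfsg.Lib.D4F

open Cfsg Cfsg.FusionSystem Subgroup Equiv Cfsg.Lib.Fus

variable {K : Type*} [Field K] [Cub K] [Finite K]

namespace G1u2

variable {g g' x x' : M K}

theorem mz (hg : g ∈ Q1 K) (hg' : g' ∈ Q1 K) (e : vb g' = vb g) (e' : vb x' = vb x) :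
    (g' * x').z - g'.z - x'.z = (g * x).z - g.z - x.z := by
  simp only [vb, Prod.mk.injEq, Subtype.ext_iff] at e e'
  mdl [mem_Q1.1 hg, mem_Q1.1 hg', e.1, e.2.2.1, e'.1, e'.2.1, e'.2.2.2]

theorem zz (g : M K) (hx : x ∈ ZZ K) : (g * x).z = g.z + x.z := by
  mdl [hx.2.1, hx.2.2.1, hx.2.2.2.1, hx.2.2.2.2]

theorem cz (hg : g ∈ Q1 K) (hx : x ∈ Q1 K) : (x * g * x⁻¹).z = g.z + fm (vb x) (vb g) := by
  rw [← cm_z hg hx, ← zz g (cm_ZZ hg hx), cm, mul_inv_cancel_left]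

end G1u2

open G1u2 in
theorem g1u2 {δ : Perm (M K)} (hδ : AutOn (Q1 K) δ) (hV : ∀ g ∈ Q1 K, vb (δ g) = vb g)
    (hc : ∀ b h, ∃ x ∈ Q1 K, ∀ g ∈ Q1 K,
      δ (Gm.aut (hb b h) g) = x * Gm.aut (hb b h) (δ g) * x⁻¹) :
    ∃ x ∈ Q1 K, ∀ g ∈ Q1 K, δ g = x * g * x⁻¹ := by
  have fz : ∀ g ∈ ZZ K, δ g = g := fun g hg => by
    have m : eb (1 : K) (map_one _) ∈ Q1 K := rfl
    obtain ⟨d, hd, rfl⟩ := exists_cm_ZZ (y := eb 1 (map_one _)) one_ne_zero hg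
    have k := hδ.q1_ZZ _ hg
    refine Z2_ext (ZZ_le_Z2 k) (ZZ_le_Z2 hg) (k.2.2.2.2.trans hg.2.2.2.2.symm) ?_
    rw [hδ.mcm hd.1 m, cm_z (hδ.mp hd.1) (hδ.mp m), cm_z hd.1 m, hV _ hd.1, hV _ m]
  obtain ⟨ζ, z0, hζ⟩ : ∃ ζ : V K → K, (∀ y, σ (ζ y) = ζ y) ∧
      ∀ g ∈ Q1 K, (δ g).z = g.z + ζ (vb g) := by
    refine ⟨fun y => (δ (lf y)).z, fun y => M.hz _, fun g hg => ?_⟩
    have m := (vb_eq_iff (lf_mem (vb g)) hg).1 rfl
    have e := zz (lf (vb g)) m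
    rw [mul_inv_cancel_left] at e
    conv_lhs => rw [← mul_inv_cancel_left (lf (vb g)) g, hδ.1 _ (lf_mem _) _ m.1, fz _ m, zz _ m]
    rw [e]; simp [lf, add_comm]
  have za : ∀ y y', ζ (y + y') = ζ y + ζ y' := fun y y' => by
    have e := mz (lf_mem y) (hδ.mp (lf_mem y)) (hV _ (lf_mem y)) (hV _ (lf_mem y'))
    rw [← hδ.1 _ (lf_mem y) _ (lf_mem y'), hζ _ (mul_mem (lf_mem y) (lf_mem y')), hζ _ (lf_mem y),
      hζ _ (lf_mem y'), vb_mul (lf_mem y), vb_lf, vb_lf] at e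
    linear_combination e
  have hom : ∀ b h (c : kk K) y y0, y + y0 = gV (hb b h) y0 → ζ (c • y) = c * ζ y := by
    intro b h c y y0 e
    obtain ⟨x, hx, k⟩ := hc b h
    have μ1 : ∀ g, (Gm.aut (hb b h) g).z = g.z := fun g => by
      have : (Gm.aut (hb b h) g).z = (hb b h).μ * g.z := rfl
      rw [this, hb_μ, one_mul]
    have q1 := (aut_layers (Gm.aut (hb b h))).2.2.2.2.1
    have k1 : ∀ y, ζ (gV (hb b h) y) = ζ y + fm (vb x) (gV (hb b h) y) := fun y => by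
      have := congrArg M.z (k _ (lf_mem y))
      rw [hζ _ (q1 _ (lf_mem y)), cz (q1 _ (hδ.mp (lf_mem y))) hx, μ1, μ1, hζ _ (lf_mem y), vb_aut,
        vb_aut, hV _ (lf_mem y), vb_lf] at this
      linear_combination this
    have k2 := k1 y0
    have k3 := k1 (c • y0)
    rw [(linV_gV (γ := hb b h) fun _ _ => rfl).2, fm_smul', ← e, smul_add, za] at k3
    rw [← e, za] at k2
    linear_combination k3 - c * k2
  obtain ⟨X, hX⟩ := exists_fm ζ z0 za fun c y => by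
    by_cases c0 : c = 0
    · simpa [c0] using za 0 0
    by_cases c1 : c = 1
    · simp [c1]
    obtain ⟨a, ha⟩ := exists_nm c.2
    have c0' : (c : K) ≠ 0 := fun e => c0 (Subtype.ext e)
    have c1' : (c : K) - 1 ≠ 0 := sub_ne_zero.2 fun e => c1 (Subtype.ext e)
    have c1'' : 1 - (c : K) ≠ 0 := sub_ne_zero.2 fun e => c1 (Subtype.ext e.symm)
    have a0 : a ≠ 0 := by rintro rfl; exact c0' (by rw [← ha, nm_zero])
    have a1 : a - 1 ≠ 0 := sub_ne_zero.2 (by rintro rfl; exact c1' (by rw [← ha, nm_one, sub_self]))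
    have a2 : 1 - a ≠ 0 := fun e => a1 (by linear_combination -e)
    conv_lhs => rw [V.split y]
    conv_rhs => rw [V.split y]
    simp only [smul_add, za, mul_add]
    congr 1; congr 1; congr 1
    · obtain ⟨b1, b2, b3, b4⟩ := gV_hb a a0 (y.1 / (c - 1), 0, 0, 0)
      refine hom a a0 c _ (y.1 / (c - 1), 0, 0, 0) (V.ext' ?_ ?_ ?_ ?_) <;>
        simp [b1, b2, b3, b4, w1, ha]
      field_simp; ring
    · obtain ⟨b1, b2, b3, b4⟩ := gV_hb a a0 (0, y.2.1 / (a - 1), 0, 0)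
      refine hom a a0 c _ (0, y.2.1 / (a - 1), 0, 0) (V.ext' ?_ ?_ ?_ ?_) <;>
        simp [b1, b2, b3, b4]
      field_simp; ring
    · obtain ⟨b1, b2, b3, b4⟩ := gV_hb a a0 (0, 0, a * y.2.2.1 / (1 - a), 0)
      refine hom a a0 c _ (0, 0, a * y.2.2.1 / (1 - a), 0) (V.ext' ?_ ?_ ?_ ?_) <;>
        simp [b1, b2, b3, b4]
      field_simp; ring
    · obtain ⟨b1, b2, b3, b4⟩ := gV_hb a a0 (0, 0, 0, c * y.2.2.2 / (1 - c))
      refine hom a a0 c _ (0, 0, 0, c * y.2.2.2 / (1 - c)) (V.ext' ?_ ?_ ?_ ?_) <;>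
        simp [b1, b2, b3, b4, w0, ha]
      field_simp; ring
  refine ⟨lf X, lf_mem X, fun g hg => ?_⟩
  have e : vb (δ g) = vb (lf X * g * (lf X)⁻¹) := by
    rw [vb_conj hg, hV g hg, show (lf X).t = 0 from rfl, xV_zero]; rfl
  simp only [vb, Prod.mk.injEq, Subtype.ext_iff] at e
  refine M.ext ((hδ.mp hg).trans (conj_Q1 _ hg).symm) e.1 e.2.1 e.2.2.1 e.2.2.2 ?_
  rw [hζ g hg, cz hg (lf_mem X), hX, vb_lf]

end Cfsg.Lib.D4F
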