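import Cfsg.Agent.D4F.G1L
import Cfsg.Agent.D4F.G1u1
import Cfsg.Agent.D4F.G1u2

/-! Uniqueness of `Aut_F(Q1)`. -/

set_option autoImplicit false

namespace Cfsg.Lib.D4F

open Cfsg Cfsg.FusionSystem Subgroup Equiv Cfsg.Lib.Fus G1L

variable {K : Type*} [Field K] [Cub K] [Finite K] {p : ℕ} [Fact p.Prime] [CharP K p]
  {F F' : FusionSystem (⊤ : Subgroup (M K))} {H : Subgroup (Gm K)}

theorem G1u.twist (h : NF p F H) (hT : TorLe H) {f : Perm (M K)} (hf : PIso F f (Q1 K) (Q1 K))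
    {n : Perm (V K)} (e : ∀ g ∈ Q1 K, vb (f g) = n (vb g)) {γ : Gm K} (hγ : γ.φ = 1)
    (hn : n * gV γ * n⁻¹ = (gV γ)⁻¹) :
    ∃ x ∈ Q1 K, ∀ g ∈ Q1 K, f (Gm.aut γ g) = x * (Gm.aut γ)⁻¹ (f g) * x⁻¹ := by
  have ha := piso_aut h (hT γ hγ)
  obtain ⟨x, hx, k⟩ := g1k h.sat (((ha.trans hf.symm).trans ha).trans hf) fun g hg => by
    have h1 : f⁻¹ (Gm.aut γ g) ∈ Q1 K := hf.inv_maps (ha.maps hg)
    show vb (f (Gm.aut γ (f⁻¹ (Gm.aut γ g)))) = vb g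
    rw [e _ (aut_Q1 γ h1), vb_aut, show vb (f⁻¹ (Gm.aut γ g)) = n⁻¹ (gV γ (vb g)) by
      rw [Perm.eq_inv_iff_eq, ← vb_aut]; exact (e _ h1).symm.trans (congrArg _ (perm_apply_inv ..)),
      ← Perm.mul_apply, ← Perm.mul_apply, hn, perm_inv_apply]
  refine ⟨x, hx, fun g hg => (k _ (ha.inv_maps (hf.maps hg))).symm ▸ ?_⟩
  show _ = f (Gm.aut γ (f⁻¹ (Gm.aut γ ((Gm.aut γ)⁻¹ (f g)))))
  rw [MulAut.apply_inv_self, perm_inv_apply]

theorem g1u (h : NF p F H) (h' : NF p F' H) (hT : TorLe H) (r : Rk1 (XF F) H)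
    (r' : Rk1 (XF F') H) {f : Perm (M K)} (hf : PIso F f (Q1 K) (Q1 K)) :
    PIso F' f (Q1 K) (Q1 K) := by
  obtain ⟨n, ⟨l, k, hk, e⟩, n0, n1, nb⟩ := r.sw
  obtain ⟨n', hn', n0', n1', nb'⟩ := r'.sw
  have li' := (inv_mem hn').1
  have hn'' := hn'
  obtain ⟨l', k', hk', e'⟩ := hn''
  have back : ∀ {y z w}, z ≠ 0 → On y w → On (n' z) w → On ((n'⁻¹ : Perm (V K)) y) z :=
    fun hz h1 h2 => by simpa using (h1.trans (h2.symm (l'.ne_zero hz))).map li'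
  obtain ⟨γ, hγ, eγ⟩ := g1u1 (δ := n'⁻¹ * n) ⟨fun y z => by simp only [Perm.mul_apply, l.1, li'.1],
    fun c y => by simp only [Perm.mul_apply, l.2, li'.2]⟩ (fun b hb => by
      rw [Commute, SemiconjBy, mul_assoc, mul_inv_eq_iff_eq_mul.1 (nb b hb), ← nb' b hb]
      group) (back w0_ne n0 n0') (back w1_ne n1 n1') fun t => by
    have h1 : On (n (xV t w1)) ((n * (xV t * n)) w0) :=
      ((n0.symm (l.ne_zero w0_ne)).map (linV_xV t)).map l
    obtain ⟨g, hg, h2⟩ : ∃ g ∈ XF F', On (n (xV t w1)) (g w0) := by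
      rcases r.orb _ (mul_mem ⟨l, k, hk, e⟩ (mul_mem (xV_mem F t) ⟨l, k, hk, e⟩)) with c | ⟨s, c⟩
      · exact ⟨1, one_mem _, h1.trans c⟩
      · exact ⟨xV s * n', mul_mem (xV_mem F' s) hn', h1.trans (c.trans
          ((n0'.symm (l'.ne_zero w0_ne)).map (linV_xV s)))⟩
    exact (r'.orb _ (mul_mem (inv_mem hn') hg)).imp (h2.map li').trans
      fun ⟨s, c⟩ => ⟨s, (h2.map li').trans c⟩
  have hm := (piso_aut h' (hT γ hγ)).trans hk'
  have em : ∀ g ∈ Q1 K, vb ((k' * (Gm.aut γ).toEquiv : Perm (M K)) g) = n (vb g) := fun g hg =>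
    (e' _ (aut_Q1 γ hg)).trans (by rw [vb_aut, ← eγ, Perm.mul_apply, perm_apply_inv])
  generalize k' * (Gm.aut γ).toEquiv = m at hm em
  obtain ⟨x, -, ex⟩ := g1u2 (δ := m⁻¹ * k) ⟨hk.mor.mulOn.comp hm.symm.mor.mulOn fun _ => hk.maps,
    fun g => (hm.symm.mem _).trans (hk.mem g)⟩ (fun g hg => n.injective (by
      rw [Perm.mul_apply, ← em _ (hm.inv_maps (hk.maps hg)), ← e g hg]
      exact congrArg _ (perm_apply_inv ..))) fun b hb => by
    obtain ⟨x, hx, e1⟩ := G1u.twist h hT hk e rfl (nb b hb)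
    obtain ⟨y, hy, e2⟩ := G1u.twist h' hT hm em rfl (nb b hb)
    have u := hm.inv_maps (mul_mem hx (inv_mem hy))
    refine ⟨_, u, fun g hg => m.injective ?_⟩
    have v := hm.inv_maps (hk.maps hg)
    rw [Perm.mul_apply, Perm.mul_apply, perm_apply_inv, hm.map_conj u (aut_Q1 _ v), e2 _ v,
      perm_apply_inv, perm_apply_inv, e1 g hg]
    group
  have kF : PIso F' k (Q1 K) (Q1 K) := ((piso_cj F' x).trans hm).congr fun g hg => by
    rw [Perm.mul_apply, cj_apply, ← ex g hg, Perm.mul_apply, perm_apply_inv]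
  obtain ⟨j, hj, ⟨φ, hφ, ej⟩, rs⟩ := g1fr h hf
  suffices PIso F' j (Q1 K) (Q1 K) by simpa using (piso_of_res h' rs).trans this
  rcases r.orb φ hφ with c | ⟨t, c⟩
  · exact piso_of_res h' (stab h hj (map_Z2 hj ej hφ.1 c))
  have hn : n ∈ XF F := ⟨l, k, hk, e⟩
  have hc := piso_cj F (ea t)
  have hi := (hj.trans hc.symm).trans hk.symm
  have := piso_of_res h' (stab h hi (map_Z2 (φ := n⁻¹ * ((xV t)⁻¹ * φ)) hi (fun g hg => ?_)
    (mul_mem (inv_mem hn) (mul_mem (inv_mem (xV_mem F t)) hφ)).1 ?_))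
  · simpa using (this.trans kF).trans (piso_cj F' (ea t))
  · have v := hc.inv_maps (hj.maps hg)
    rw [Perm.mul_apply, Perm.mul_apply, Perm.mul_apply, Perm.mul_apply, Perm.eq_inv_iff_eq,
      ← e _ (hk.inv_maps v), perm_apply_inv, Perm.eq_inv_iff_eq, ← ej g hg]
    exact (vb_conj (x := ea t) v).symm.trans (congrArg _ (perm_apply_inv (cj (ea t)) _))
  · have h1 : On (((xV t)⁻¹ : Perm (V K)) (φ w0)) w1 := by
      simpa using c.map (inv_mem (xV_mem F t)).1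
    simpa using (h1.trans (n0.symm (l.ne_zero w0_ne))).map (inv_mem hn).1

end Cfsg.Lib.D4F
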