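import Cfsg.Agent.D4F.G2a
import Cfsg.Agent.D4F.F3

/-! Fusion systems over a Sylow subgroup of `³D₄(q)`: automorphisms of `Q2` centralising the
torus. -/

set_option autoImplicit false
set_option linter.unusedSectionVars false

namespace Cfsg.Lib.D4F

open Cfsg Cfsg.FusionSystem Subgroup Equiv Cfsg.Lib.Fus

variable {K : Type*} [Field K] [Cub K] [Finite K]

namespace G2e

theorem exists_gm {a : K} (ha : a ≠ 0) : ∃ γ : Gm K, γ.φ = 1 ∧ γ.a = a ∧ γ.c = 1 :=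
  ⟨⟨a, 1, 1, ha, one_ne_zero, by simp, fun _ => rfl⟩, rfl, rfl, rfl⟩

theorem fix {δ : Perm (M K)} (hδ : AutOn (Q2 K) δ) (hT : Tv2 δ)
    (hc : ∀ γ : Gm K, γ.φ = 1 → ∀ g ∈ Q2 K, δ (Gm.aut γ g) = Gm.aut γ (δ g)) (e : K → M K)
    (hm : ∀ t, e t ∈ Q2 K) (hadd : ∀ t t', e (t + t') = e t * e t')
    (hg : ∀ γ : Gm K, γ.φ = 1 → γ.c = 1 → ∀ t, Gm.aut γ (e t) = e (γ.a * t))
    (h0 : (∀ t, (e t).t = 0) ∨ ∀ t, (e t).s = 0) (hr : ∀ t, (e t).r = 0) (hv : ∀ t, (e t).v = 0)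
    (hz : ∀ t, (e t).z = 0) (t : K) : δ (e t) = e t := by
  have du : ∀ t, (δ (e t)).u = 0 := fun t => hδ.mp (hm t)
  have dt : ∀ t, (δ (e t)).t = (e t).t := fun t => (hT.1 _ (hm t)).1
  have ds : ∀ t, (δ (e t)).s = (e t).s := fun t => (hT.1 _ (hm t)).2
  have da : ∀ t t', δ (e (t + t')) = δ (e t) * δ (e t') := fun t t' => by
    rw [hadd, hδ.1 _ (hm t) _ (hm t')]
  have dg : ∀ a, a ≠ 0 → ∃ γ : Gm K, γ.φ = 1 ∧ γ.a = a ∧ γ.c = 1 ∧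
      ∀ t, δ (e (a * t)) = Gm.aut γ (δ (e t)) := fun a ha => by
    obtain ⟨γ, h1, h2, h3⟩ := exists_gm ha
    exact ⟨γ, h1, h2, h3, fun t => by rw [← hc γ h1 _ (hm t), hg γ h1 h3, h2]⟩
  have k1 : ∀ t, (δ (e t)).r = 0 := add_char (χ := sh) (by simp) _ (fun x y => by
      rw [da, M.mul_r, du, dt, ds]
      rcases h0 with h | h <;> simp [h]) fun a t ha => by
    obtain ⟨γ, h1, h2, h3, h4⟩ := dg a ha
    rw [h4, Gm.aut_r, h1, h2, h3]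
    simp
  have k2 : ∀ t, (δ (e t)).v = 0 := add_char (χ := nm) (by simp) _ (fun x y => by
      rw [da, M.mul_v, du, dt, ds, k1]
      rcases h0 with h | h <;> simp [h]) fun a t ha => by
    obtain ⟨γ, h1, h2, h3, h4⟩ := dg a ha
    rw [h4, Gm.aut_v, h1, h2, h3]
    simp
  have k3 : ∀ t, (δ (e t)).z = 0 := add_char (χ := nm) (by simp) _ (fun x y => by
      rw [da, M.mul_z, du, du, dt, ds, k1, k1]
      rcases h0 with h | h <;> simp [h]) fun a t ha => by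
    obtain ⟨γ, h1, h2, h3, h4⟩ := dg a ha
    rw [h4, Gm.aut_z, h1, h2, h3]
    simp
  exact M.ext (dt t) ((du t).trans (hm t).symm) (ds t) (by rw [k1, hr]) (by rw [k2, hv])
    (by rw [k3, hz])

end G2e

theorem g2e {δ : Perm (M K)} (hδ : AutOn (Q2 K) δ) (hT : Tv2 δ)
    (hc : ∀ γ : Gm K, γ.φ = 1 → ∀ g ∈ Q2 K, δ (Gm.aut γ g) = Gm.aut γ (δ g)) :
    ∀ g ∈ Q2 K, δ g = g := by
  have ha : ∀ t, δ (ea t) = ea t := G2e.fix hδ hT hc ea (fun _ => rfl)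
    (fun t t' => by ext <;> mdl [ea]) (fun γ h1 h2 t => by
      ext <;> simp [ea, Gm.aut_t, Gm.aut_u, Gm.aut_s, Gm.aut_r, Gm.aut_v, Gm.aut_z, h1, h2])
    (Or.inr fun _ => rfl) (fun _ => rfl) (fun _ => rfl) fun _ => rfl
  have hs : ∀ t, δ (ec t) = ec t := G2e.fix hδ hT hc ec (fun _ => rfl)
    (fun t t' => by ext <;> mdl [ec]) (fun γ h1 h2 t => by
      ext <;> simp [ec, Gm.aut_t, Gm.aut_u, Gm.aut_s, Gm.aut_r, Gm.aut_v, Gm.aut_z, h1, h2])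
    (Or.inl fun _ => rfl) (fun _ => rfl) (fun _ => rfl) fun _ => rfl
  have qa : ∀ t : K, ea t ∈ Q2 K := fun _ => rfl
  have qc : ∀ t : K, ec t ∈ Q2 K := fun _ => rfl
  have hq : ∀ {g}, g ∈ UU K → g ∈ Q2 K := fun h => h.2.1
  have hcm : ∀ t s : K, cm (ec s) (ea t) ∈ UU K ∧ (cm (ec s) (ea t)).r = cr t s ∧
      δ (cm (ec s) (ea t)) = cm (ec s) (ea t) := fun t s =>
    ⟨cm_UU (qc s) (qa t), cm_r_left ⟨rfl, rfl⟩, by rw [hδ.mcm (qc s) (qa t), ha, hs]⟩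
  have hU : ∀ g ∈ UU K, δ g = g := fun g hg => by
    obtain ⟨a, b, c, d, e⟩ := exists_cr_add g.r
    obtain ⟨a1, a2, a3⟩ := hcm a b
    obtain ⟨b1, b2, b3⟩ := hcm c d
    generalize cm (ec b) (ea a) = x at a1 a2 a3
    generalize cm (ec d) (ea c) = y at b1 b2 b3
    have hw := (UU K).mul_mem ((UU K).inv_mem ((UU K).mul_mem a1 b1)) hg
    have hz : (x * y)⁻¹ * g ∈ Z2 K := ⟨hw.1, hw.2.1, hw.2.2, by
      mdl [a1.1, a1.2.1, a1.2.2, b1.1, b1.2.1, b1.2.2, hg.1, hg.2.1, hg.2.2, a2, b2, e]⟩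
    have := hδ.1 _ (hq ((UU K).mul_mem a1 b1)) _ (hq hw)
    rwa [mul_inv_cancel_left, hT.2.2 _ hz, hδ.1 _ (hq a1) _ (hq b1), a3, b3,
      mul_inv_cancel_left] at this
  intro g hg
  have hy := (Q2 K).mul_mem (qc g.s) (qa g.t)
  have hx : g * (ec g.s * ea g.t)⁻¹ ∈ UU K := by
    refine ⟨?_, ?_, ?_⟩ <;> mdl [ea, ec, mem_Q2.1 hg]
  have := hδ.1 _ (hq hx) _ hy
  rwa [inv_mul_cancel_right, hU _ hx, hδ.1 _ (qc _) _ (qa _), ha, hs, inv_mul_cancel_right] at this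

end Cfsg.Lib.D4F
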