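import Cfsg.Agent.D4F.G2a
import Cfsg.Agent.Sp4F.LemB

/-! Fusion systems over a Sylow subgroup of `³D₄(q)`: the action of `Aut_F(Q2)` on `Z2`. -/

set_option autoImplicit false
set_option linter.unusedSectionVars false

namespace Cfsg.Lib.D4F

open Cfsg Cfsg.FusionSystem Subgroup Equiv Cfsg.Lib.Fus Cfsg.Lib.Fus.Ess

variable {K : Type*} [Field K] [Cub K] [Finite K] {p : ℕ} [Fact p.Prime]
  {F : FusionSystem (⊤ : Subgroup (M K))}

namespace G2r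

/-- Coordinates on `Z2`. -/
def zc (g : M K) : kk K × kk K := (⟨g.v, g.hv⟩, ⟨g.z, g.hz⟩)

/-- The element of `Z2` with given coordinates. -/
def ze (v : kk K × kk K) : M K := ⟨0, 0, 0, 0, v.1, v.2, by simp, v.1.2, v.2.2⟩

theorem zc_eq_1' : type_of% @zc.eq_1 := @zc.eq_1
theorem ze_eq_1' : type_of% @ze.eq_1 := @ze.eq_1

theorem ze_mem (v : kk K × kk K) : ze v ∈ Z2 K := ⟨rfl, rfl, rfl, rfl⟩

theorem zc_ze (v : kk K × kk K) : zc (ze v) = v := rfl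

theorem ze_zc {g : M K} (hg : g ∈ Z2 K) : ze (zc g) = g := Z2_ext (ze_mem _) hg rfl rfl

theorem ze_add (u v : kk K × kk K) : ze (u + v) = ze u * ze v := by
  ext <;> mdl [ze, Prod.fst_add, Prod.snd_add, Subfield.coe_add]

theorem zc_mul {g h : M K} (hg : g ∈ Z2 K) (hh : h ∈ Z2 K) : zc (g * h) = zc g + zc h := by
  rw [← ze_zc hg, ← ze_zc hh, ← ze_add, zc_ze, zc_ze, zc_ze]

theorem autOn_pext {P : Subgroup (M K)} (α : MulAut P) : AutOn P (pext P α) :=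
  ⟨mulOn_pext α, pext_mem_iff α⟩

theorem Z2_le_Q2 : Z2 K ≤ Q2 K := fun _ h => h.2.1

theorem exists_rho : ∃ ρ : MulAut (Q2 K) →* Perm (kk K × kk K),
    ∀ α v, ρ α v = zc (pext (Q2 K) α (ze v)) :=
  ⟨MonoidHom.toHomPerm
    { toFun := fun α v => zc (pext (Q2 K) α (ze v))
      map_one' := funext fun v => by rw [map_one]; rfl
      map_mul' := fun α β => funext fun v => by
        show _ = zc (pext (Q2 K) α (ze (zc (pext (Q2 K) β (ze v)))))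
        rw [ze_zc ((q2_layers (autOn_pext β)).1 _ (ze_mem v)), map_mul]
        rfl }, fun _ _ => rfl⟩

theorem r_congr {f : Perm (M K)} (hf : AutOn (Q2 K) f) {a b : M K} (ha : a ∈ UU K) (hb : b ∈ UU K)
    (e : a.r = b.r) : (f a).r = (f b).r := by
  have hw := (UU K).mul_mem ((UU K).inv_mem ha) hb
  have hz : a⁻¹ * b ∈ Z2 K := ⟨hw.1, hw.2.1, hw.2.2, by
    mdl [ha.1, ha.2.1, ha.2.2, hb.1, hb.2.1, hb.2.2, e]⟩
  have h1 := hf.1 _ (show a ∈ Q2 K from ha.2.1) _ (Z2_le_Q2 hz)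
  have h2 := (q2_layers hf).1 _ hz
  have h3 := (q2_layers hf).2 _ ha
  rw [mul_inv_cancel_left] at h1
  rw [h1]
  mdl [h2.1, h2.2.1, h2.2.2.1, h2.2.2.2, h3.1]

theorem exists_normal : ∃ N : Subgroup (MulAut (Q2 K)), N.Normal ∧
    ∀ α, α ∈ N ↔ ∀ g ∈ UU K, (pext (Q2 K) α g).r = g.r := by
  have hU := fun α : MulAut (Q2 K) => (q2_layers (autOn_pext α)).2
  refine ⟨{ carrier := {α | ∀ g ∈ UU K, (pext (Q2 K) α g).r = g.r}
            one_mem' := fun g _ => by rw [map_one]; rfl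
            mul_mem' := fun {a b} ha hb g hg => by
              rw [map_mul, Perm.mul_apply, ha _ (hU b g hg), hb g hg]
            inv_mem' := fun {a} ha g hg => by
              rw [← ha _ (hU a⁻¹ g hg), map_inv, perm_apply_inv] }, ⟨fun a ha b g hg => ?_⟩,
    fun _ => Iff.rfl⟩
  rw [map_mul, map_mul, Perm.mul_apply, Perm.mul_apply, r_congr (autOn_pext b)
    (hU a _ (hU _ g hg)) (hU _ g hg) (ha _ (hU _ g hg)), map_inv, perm_apply_inv]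

theorem conj_ze (m : M K) (x y : kk K) :
    zc (m * ze (x, y) * m⁻¹) = (x, y + ⟨m.u, m.hu⟩ * x) := by
  refine Prod.ext (Subtype.ext ?_) (Subtype.ext ?_) <;>
    mdl [zc, ze, Subfield.coe_add, Subfield.coe_mul, σ_coe]

theorem conj_r (m : M K) {g : M K} (hg : g ∈ UU K) : (m * g * m⁻¹).r = g.r := by
  mdl [hg.1, hg.2.1, hg.2.2]

theorem le_normalizer_Q2 : (⊤ : Subgroup (M K)) ≤ normalizer (Q2 K : Set (M K)) := fun x _ =>
  mem_normalizer_fintype fun _ hg => conj_Q2 x hg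

end G2r

open G2r

variable [CharP K p]

theorem g2r (hF : F.IsSaturated p) (hm : Mv2 F) : ∃ (α : Perm (M K)) (φ : kk K →+ kk K),
    PIso F α (Q2 K) (Q2 K) ∧ (∀ x : kk K, ∃ g ∈ ZZ K, (α g).v = x ∧ (α g).z = φ x) ∧
    (∀ f, PIso F f (Q2 K) (Q2 K) → (∀ g ∈ ZZ K, f g ∈ ZZ K) ∨
      ∃ t : kk K, ∀ g ∈ ZZ K, (f g).z = t * (f g).v + φ ⟨(f g).v, (f g).hv⟩) ∧
    ∀ a : K, σ a = a → a ≠ 0 → ∃ f, PIso F f (Q2 K) (Q2 K) ∧ (∀ g ∈ UU K, (f g).r = g.r) ∧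
      (∀ g ∈ ZZ K, f g ∈ ZZ K) ∧ ∀ g ∈ Z2 K, (f g).v = a⁻¹ * g.v := by
  obtain ⟨ρ, hρ⟩ := exists_rho (K := K)
  have := finite_autGroup F (P := Q2 K) le_top
  have hZ := fun α : MulAut (Q2 K) => (q2_layers (autOn_pext α)).1
  have hT := (sat_sylIn isPGroup_top hF
    (isFullyNormalized_of_le_normalizer le_top (le_normalizer_Q2 (K := K)))).subgroupOf_top
  have zz : ∀ {g}, g ∈ ZZ K → ze ((0, ⟨g.z, g.hz⟩) : kk K × kk K) = g := fun {g} hg =>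
    Z2_ext (ze_mem _) (ZZ_le_Z2 hg) hg.2.2.2.2.symm rfl
  have toZ : ∀ {g}, g ∈ Z2 K → g.v = 0 → g ∈ ZZ K := fun h h' =>
    ⟨h.1, h.2.1, h.2.2.1, h.2.2.2, h'⟩
  obtain ⟨α, φ, a1, -, a3, a4⟩ := Sp4F.lemB (p := p) (ρ.comp (F.autGroup (Q2 K)).subtype)
    (fun g u v => by
      simp only [MonoidHom.comp_apply, hρ]
      rw [ze_add, mulOn_pext _ _ (Z2_le_Q2 (ze_mem u)) _ (Z2_le_Q2 (ze_mem v)),
        zc_mul (hZ _ _ (ze_mem u)) (hZ _ _ (ze_mem v))]) hT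
    (fun s hs => by
      obtain ⟨m, -, e⟩ := mem_autInducedBy_pext.1 (mem_subgroupOf.1 hs)
      exact ⟨⟨m.u, m.hu⟩, fun x y => by
        rw [MonoidHom.comp_apply, hρ, coe_subtype, e _ (Z2_le_Q2 (ze_mem _)), conj_ze]⟩)
    (fun t => ⟨⟨conjAut _ (eb t t.2) (le_normalizer_Q2 trivial), autInducedBy_le_autGroup F le_top
      (conjAut_mem_autInducedBy (mem_top _) _)⟩, conjAut_mem_autInducedBy (mem_top _) _, fun x y => by
        rw [MonoidHom.comp_apply, hρ, coe_subtype, pext_conjAut _ (Z2_le_Q2 (ze_mem _)), conj_ze]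
        rfl⟩)
    (by
      obtain ⟨f, hf, g, hg, h⟩ := hm
      refine ⟨⟨hf.aut, hf.aut_mem⟩, ⟨g.z, g.hz⟩, fun e => h ?_⟩
      rw [MonoidHom.comp_apply, hρ, coe_subtype, zz hg, hf.pext_aut (Z2_le_Q2 (ZZ_le_Z2 hg))] at e
      exact toZ ((q2_layers hf.autOn).1 _ (ZZ_le_Z2 hg)) (congrArg Subtype.val e))
  simp only [MonoidHom.comp_apply, hρ, coe_subtype] at a1 a3 a4
  refine ⟨pext _ α.1, φ, piso_pext_of_mem le_top α.2, fun x => ?_, fun f hf => ?_,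
    fun a ha ha0 => ?_⟩
  · obtain ⟨y, e⟩ := a1 x
    exact ⟨ze (0, y), toZ (ze_mem _) rfl, congrArg (fun v => (v.1 : K)) e,
      congrArg (fun v => (v.2 : K)) e⟩
  · refine (a3 ⟨hf.aut, hf.aut_mem⟩).imp (fun h g hg => ?_) fun ⟨t, h⟩ => ⟨t, fun g hg => ?_⟩ <;>
      have e := h ⟨g.z, g.hz⟩ <;> rw [zz hg, hf.pext_aut (Z2_le_Q2 (ZZ_le_Z2 hg))] at e
    · exact toZ ((q2_layers hf.autOn).1 _ (ZZ_le_Z2 hg)) (congrArg Subtype.val e)
    · exact congrArg Subtype.val e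
  · obtain ⟨h, hh, e⟩ := a4 ⟨a, ha⟩ fun e => ha0 (congrArg Subtype.val e)
    obtain ⟨N, hN, hN'⟩ := exists_normal (K := K)
    have := hN.comap (F.autGroup (Q2 K)).subtype
    have h1 : h ∈ N.comap (F.autGroup (Q2 K)).subtype := normalClosure_le_normal (fun s hs => by
      obtain ⟨m, -, e⟩ := mem_autInducedBy_pext.1 (mem_subgroupOf.1 hs)
      exact (hN' _).2 fun g hg => by
        rw [coe_subtype, e _ (show g ∈ Q2 K from hg.2.1), conj_r m hg]) hh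
    have h2 : ∀ g ∈ Z2 K, (pext _ h.1 g).v = a⁻¹ * g.v := fun g hg => by
      have e' := e (zc g).1 ((zc g).2 - φ (zc g).1)
      rw [sub_add_cancel, Prod.mk.eta, ze_zc hg] at e'
      exact congrArg (fun v => (v.1 : K)) e'
    exact ⟨pext _ h.1, piso_pext_of_mem le_top h.2, (hN' _).1 h1, fun g hg =>
      toZ (hZ _ _ (ZZ_le_Z2 hg)) (by rw [h2 g (ZZ_le_Z2 hg), hg.2.2.2.2, mul_zero]), h2⟩

end Cfsg.Lib.D4F
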