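import Cfsg.Agent.D4F.G2e
import Cfsg.Agent.D4F.G2r
import Cfsg.Agent.Solv.CoprimeBasic

/-! Fusion systems over a Sylow subgroup of `³D₄(q)`: coprime action on `Aut(Q2)`. -/

set_option autoImplicit false
set_option linter.unusedSectionVars false

namespace Cfsg.Lib.D4F

open Cfsg Cfsg.FusionSystem Subgroup Equiv Cfsg.Lib.Fus

variable {p : ℕ} [Fact p.Prime]

namespace G2f

theorem cop_card (L : Type*) [Field L] [Finite L] [CharP L p] : (Nat.card L - 1).Coprime p := by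
  refine ((Nat.Prime.coprime_iff_not_dvd Fact.out).2 fun h => ?_).symm
  have := Fintype.ofFinite L
  have := (CharP.cast_eq_zero_iff L p _).2 h
  rw [Nat.cast_pred Nat.card_pos, Nat.card_eq_fintype_card, Nat.cast_card_eq_zero] at this
  simp at this

/-- An automorphism of a `p`-group `P` centralising a `p'`-group modulo `Inn(P)` can be adjusted
by an inner automorphism so as to centralise it. -/
theorem adjust {G : Type*} [Group G] [Finite G] {P : Subgroup G} (hP : IsPGroup p P)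
    {Γ : Type*} [Group Γ] (hΓ : (Nat.card Γ).Coprime p) (a : Γ →* MulAut G)
    (ha : ∀ γ, ∀ g ∈ P, a γ g ∈ P) {δ : Perm G} (h1 : MulOn P δ) (h2 : ∀ g, δ g ∈ P ↔ g ∈ P)
    (hc : ∀ γ, ∃ x ∈ P, ∀ g ∈ P, δ (a γ g) = x * a γ (δ g) * x⁻¹) :
    ∃ x ∈ P, ∀ γ, ∀ g ∈ P, x * δ (a γ g) * x⁻¹ = a γ (x * δ g * x⁻¹) := by
  obtain ⟨r, hr⟩ : ∃ r : Γ →* MulAut P, ∀ γ g, (r γ g : G) = a γ g :=
    ⟨MonoidHom.mk' (fun γ =>
      { toFun := fun g => ⟨a γ g, ha γ _ g.2⟩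
        invFun := fun g => ⟨a γ⁻¹ g, ha _ _ g.2⟩
        left_inv := fun g => Subtype.ext (by simp)
        right_inv := fun g => Subtype.ext (by simp)
        map_mul' := fun g h => Subtype.ext (map_mul _ _ _) })
      fun γ γ' => MulEquiv.ext fun g => Subtype.ext (by simp), fun _ _ => rfl⟩
  obtain ⟨d, hd⟩ : ∃ d : MulAut P, ∀ g, (d g : G) = δ g :=
    ⟨{ δ.subtypePerm h2 with map_mul' := fun g h => Subtype.ext (h1 _ g.2 _ h.2) }, fun _ => rfl⟩
  have hI : IsPGroup p (Inn P) := autInducedBy_self P ▸ isPGroup_autInducedBy hP P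
  have := hI.isNilpotent
  obtain ⟨n, hn⟩ := hI.exists_card_eq
  obtain ⟨i, hi, e⟩ := Solv.Coprime.exists_mul_mem_centralizer' (H := Inn P) (A := r.range)
    le_normalizer_of_normal (by
      rw [hn]; exact (hΓ.coprime_dvd_left (card_range_dvd _)).pow_right n)
    (Or.inr inferInstance) (g := d) (by
      rintro _ ⟨γ, rfl⟩
      obtain ⟨x, hx, e⟩ := hc γ
      have : d * r γ * d⁻¹ * (r γ)⁻¹ ∈ Inn P := mem_inn_iff.2 ⟨x, hx, fun y => by
        obtain ⟨y, rfl⟩ := (r γ * d).surjective y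
        simp only [MulAut.mul_apply, MulAut.inv_apply_self, hd, hr]
        exact e _ y.2⟩
      simpa [mul_assoc] using (Inn P).inv_mem this)
  obtain ⟨x, hx, hi⟩ := mem_inn_iff.1 hi
  refine ⟨x, hx, fun γ g hg => ?_⟩
  have := congrArg (fun f : MulAut P => (f ⟨g, hg⟩ : G)) (e _ ⟨γ, rfl⟩)
  simpa only [MulAut.mul_apply, hr, hi, hd] using this.symm

end G2f

variable {K : Type*} [Field K] [Cub K] [Finite K] [CharP K p]

include p in
theorem g2f {δ : Perm (M K)} (hδ : AutOn (Q2 K) δ) (hT : Tv2 δ)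
    (hc : ∀ γ : Gm K, γ.φ = 1 → ∃ x ∈ Q2 K, ∀ g ∈ Q2 K,
      δ (Gm.aut γ g) = x * Gm.aut γ (δ g) * x⁻¹) :
    ∃ x ∈ Q2 K, ∀ g ∈ Q2 K, δ g = x * g * x⁻¹ := by
  obtain ⟨T, hT'⟩ : ∃ T : Subgroup (Gm K), ∀ γ, γ ∈ T ↔ γ.φ = 1 :=
    ⟨{ carrier := {γ | γ.φ = 1}
       one_mem' := rfl
       mul_mem' := fun {a b} (ha : a.φ = 1) (hb : b.φ = 1) => by
        show a.φ * b.φ = 1
        rw [ha, hb, mul_one]
       inv_mem' := fun {a} (ha : a.φ = 1) => by
        show a.φ⁻¹ = 1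
        rw [ha, inv_one] }, fun _ => Iff.rfl⟩
  obtain ⟨x, hx, e⟩ := G2f.adjust (p := p) (P := Q2 K) (isPGroup_M.to_subgroup _) (Γ := T) (by
      rw [Nat.card_congr (Equiv.subtypeEquivRight hT'), card_torus]
      exact (G2f.cop_card K).mul_left (G2f.cop_card _)) (Gm.aut.comp T.subtype)
    (fun γ g hg => by
      show γ.1.c * γ.1.φ g.u = 0
      rw [mem_Q2.1 hg, map_zero, mul_zero]) hδ.1 hδ.2 fun γ => hc γ ((hT' _).1 γ.2)
  have h1 : AutOn (Q2 K) (cj x) := ⟨fun a _ b _ => by simp [cj_apply], fun g =>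
    ⟨fun h => by simpa [cj_apply, mul_assoc] using conj_Q2 x⁻¹ h, conj_Q2 x⟩⟩
  have h2 := g2e (h1.ml hδ) ⟨fun g hg => ?_, fun g hg => ?_, fun g hg => ?_⟩
    fun γ hγ g hg => e ⟨γ, (hT' _).2 hγ⟩ g hg
  · refine ⟨x⁻¹, (Q2 K).inv_mem hx, fun g hg => ?_⟩
    have : x * δ g * x⁻¹ = g := h2 g hg
    conv_rhs => rw [← this]
    group
  · have := hδ.mp hg
    rw [← (hT.1 g hg).1, ← (hT.1 g hg).2, Perm.mul_apply, cj_apply]
    constructor <;> mdl [mem_Q2.1 this, mem_Q2.1 hx]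
  · rw [Perm.mul_apply, cj_apply, G2r.conj_r _ ((q2_layers hδ).2 g hg), hT.2.1 g hg]
  · rw [Perm.mul_apply, cj_apply, hT.2.2 g hg, comm_Z2 hg hx, mul_inv_cancel_right]

end Cfsg.Lib.D4F
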