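import Cfsg.Agent.D4F.Defs2

/-! Fusion systems over a Sylow subgroup of `³D₄(q)`: homology groups on a plane. -/

set_option autoImplicit false

namespace Cfsg.Lib.D4F

open Matrix

theorem lemH {p : ℕ} [Fact p.Prime] {G : Type*} [Group G] [Finite G] {k : Type*} [Field k]
    [Finite k] [CharP k p] (h5 : 5 ≤ p)
    (hG : (Nat.card G).Coprime p) (ρ : G →* Matrix.SpecialLinearGroup (Fin 2) k) (μ : G →* kˣ)
    (h : kˣ → G) (hμ : ∀ c, μ (h c) = c) (hρ : ∀ c, (ρ (h c)).1 = !![(c : k), 0; 0, (c : k)⁻¹])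
    (st : ∀ g, (ρ g).1 0 1 = 0 → ∃ c, g = h c) (ax : ∀ g, (ρ g).1 1 1 ≠ 0)
    {g : G} (hg : μ g = 1) (h1 : g ≠ 1) :
    (ρ g).1 0 0 + (ρ g).1 1 1 = -1 ∧ Nat.card k = 5 := by
  classical
  have := Fintype.ofFinite k
  have hp : p.Prime := Fact.out
  have hn : ∀ n : ℕ, 0 < n → n < 5 → (n : k) ≠ 0 := fun n h0 h e =>
    absurd (Nat.le_of_dvd h0 ((CharP.cast_eq_zero_iff k p n).1 e)) (by omega)
  have h2 : (2 : k) ≠ 0 := by exact_mod_cast hn 2 (by decide) (by decide)
  have h3 : (3 : k) ≠ 0 := by exact_mod_cast hn 3 (by decide) (by decide)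
  have S : ∀ x, μ x = 1 → (ρ x).1 0 1 = 0 → x = 1 := fun x hx e => by
    obtain ⟨c, rfl⟩ := st x e
    obtain ⟨c', e'⟩ := st 1 (by simp)
    rw [e', ← hμ c, hx, ← hμ c', ← e', map_one]
  have mul : ∀ x y i j, (ρ (x * y)).1 i j = (ρ x).1 i 0 * (ρ y).1 0 j + (ρ x).1 i 1 * (ρ y).1 1 j :=
    fun x y i j => by
      rw [map_mul]
      exact (mul_apply ..).trans (Fin.sum_univ_two _)
  have inv : ∀ x, (ρ x⁻¹).1 = !![(ρ x).1 1 1, -(ρ x).1 0 1; -(ρ x).1 1 0, (ρ x).1 0 0] := fun x => by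
    rw [map_inv]; exact adjugate_fin_two _
  have det : ∀ x, (ρ x).1 0 0 * (ρ x).1 1 1 - (ρ x).1 0 1 * (ρ x).1 1 0 = 1 := fun x =>
    (det_fin_two _).symm.trans (ρ x).2
  let t : G → k := fun x => (ρ x).1 0 1 / (ρ x).1 1 1
  let θ : G → k := fun x => (ρ x).1 0 0 + (ρ x).1 1 1
  have tinj : ∀ x y, μ x = 1 → μ y = 1 → t x = t y → x = y := fun x y hx hy e =>
    inv_mul_eq_one.1 (S _ (by rw [map_mul, map_inv, hx, hy, inv_mul_cancel]) (by
      rw [mul, inv]
      have := (div_eq_div_iff (ax x) (ax y)).1 e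
      simp
      linear_combination -this))
  have t0 : ∀ x, μ x = 1 → x ≠ 1 → t x ≠ 0 := fun x hx hx1 =>
    div_ne_zero (fun e => hx1 (S x hx e)) (ax x)
  have cj : ∀ (c : kˣ) x, μ (h c * x * (h c)⁻¹) = μ x ∧ t (h c * x * (h c)⁻¹) = c ^ 2 * t x ∧
      θ (h c * x * (h c)⁻¹) = θ x := fun c x => by
    refine ⟨by rw [map_mul, map_mul, map_inv, mul_inv_cancel_comm], ?_, ?_⟩
    · simp only [t, mul, inv, hρ]
      simp
      field_simp
    · simp only [θ, mul, inv, hρ]
      simp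
      field_simp
  obtain ⟨n, -, hq⟩ := FiniteField.card k p
  obtain ⟨y, hy⟩ : ∃ y, ∀ x, μ x = 1 → t x ≠ y := by
    by_contra! hs
    have e : Nat.card μ.ker = Nat.card k := Nat.card_congr (Equiv.ofBijective (fun x => t x.1)
      ⟨fun x y e => Subtype.ext (tinj _ _ x.2 y.2 e), fun y => by
        obtain ⟨x, hx, e⟩ := hs y
        exact ⟨⟨x, hx⟩, e⟩⟩)
    refine hp.coprime_iff_not_dvd.1 hG.symm (dvd_trans ?_ μ.ker.card_subgroup_dvd_card)
    rw [e, Nat.card_eq_fintype_card, hq]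
    exact dvd_pow_self p n.ne_zero
  have hy0 : y ≠ 0 := fun e => hy 1 (map_one μ) (by simp [t, e])
  have ns : ∀ x, μ x = 1 → x ≠ 1 → quadraticChar k (t x * y) = -1 := fun x hx hx1 =>
    quadraticChar_neg_one_iff_not_isSquare.2 fun ⟨s, hs⟩ => by
      have h0 := t0 x hx hx1
      have hs0 : s ≠ 0 := fun e => mul_ne_zero h0 hy0 (by rw [hs, e, mul_zero])
      obtain ⟨a, b, -⟩ := cj (Units.mk0 _ (div_ne_zero hs0 h0)) x
      refine hy _ (a.trans hx) (b.trans ?_)
      rw [Units.val_mk0]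
      field_simp
      linear_combination -hs
  have tr : ∀ x, μ x = 1 → x ≠ 1 → θ x = θ g := fun x hx hx1 => by
    have h0 := t0 x hx hx1
    have h0' := t0 g hg h1
    obtain ⟨s, hs⟩ := (quadraticChar_one_iff_isSquare (mul_ne_zero (mul_ne_zero h0 hy0)
      (mul_ne_zero h0' hy0))).1 (by rw [map_mul, ns x hx hx1, ns g hg h1]; norm_num)
    have hs0 : s ≠ 0 := fun e => mul_ne_zero (mul_ne_zero h0 hy0) (mul_ne_zero h0' hy0)
      (by rw [hs, e, mul_zero])
    obtain ⟨a, b, c⟩ := cj (Units.mk0 _ (div_ne_zero hs0 (mul_ne_zero h0' hy0))) g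
    rw [← c, tinj x _ hx (a.trans hg) (Eq.trans ?_ b.symm)]
    rw [Units.val_mk0]
    field_simp
    linear_combination hs
  have hA : (ρ g).1 0 1 ≠ 0 := fun e => h1 (S g hg e)
  have d := det g
  have g2 : g * g ≠ 1 := fun e => by
    have a := mul g g 0 1
    have b := mul g g 1 1
    rw [e, map_one] at a b
    change 0 = _ at a
    change 1 = _ at b
    have c : θ g = 0 := mul_left_cancel₀ hA (by simp only [θ]; linear_combination -a)
    simp only [θ] at c
    exact h2 (by linear_combination b - d + (ρ g).1 1 1 * c)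
  have e1 := tr _ (by rw [map_mul, hg, mul_one]) g2
  simp only [θ, mul] at e1
  have e2 : θ g = -1 := by
    refine eq_neg_of_add_eq_zero_left ((mul_eq_zero.1 (show (θ g - 2) * (θ g + 1) = 0 by
      simp only [θ]; linear_combination e1 + 2 * d)).resolve_left fun e => h1 ?_)
    simp only [θ] at e
    have pw : ∀ m : ℕ, (ρ (g ^ m)).1 0 1 = m * (ρ g).1 0 1 ∧
        (ρ (g ^ m)).1 0 0 = 1 + m * ((ρ g).1 0 0 - 1) := fun m => by
      induction m with
      | zero => simp
      | succ m ih =>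
        rw [pow_succ, mul, mul, ih.1, ih.2]
        push_cast
        exact ⟨by linear_combination (m * (ρ g).1 0 1) * e,
          by linear_combination (m * (ρ g).1 0 0) * e - m * d⟩
    have := S (g ^ p) (by rw [map_pow, hg, one_pow]) (by rw [(pw p).1, CharP.cast_eq_zero, zero_mul])
    exact orderOf_eq_one_iff.1 (Nat.eq_one_of_dvd_coprimes hG (orderOf_dvd_natCard g)
      (orderOf_dvd_of_pow_eq_one this))
  refine ⟨e2, le_antisymm ?_ ?_⟩
  · have two : ∀ x, μ x = 1 → x ≠ 1 → x = g ∨ x = g⁻¹ := fun x hx hx1 => by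
      by_contra! hc
      have a := tr (g * x) (by rw [map_mul, hg, hx, mul_one])
        fun e => hc.2 (eq_inv_of_mul_eq_one_right e)
      have b := tr (g * x⁻¹) (by rw [map_mul, map_inv, hg, hx, inv_one, mul_one])
        fun e => hc.1 (mul_inv_eq_one.1 e).symm
      have c := tr x hx hx1
      rw [e2] at a b c
      simp only [θ, mul, inv] at a b c e2
      simp at b
      exact h3 (by
        linear_combination a + b - ((ρ g).1 0 0 + (ρ g).1 1 1) * c + e2)
    have h0 := t0 g hg h1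
    have sq : ∀ c : k, c ≠ 0 → c ^ 2 = 1 ∨ c ^ 2 * t g = t g⁻¹ := fun c hc => by
      obtain ⟨a, b, -⟩ := cj (Units.mk0 c hc) g
      rcases two _ (a.trans hg) (fun e => h1 (conj_eq_one_iff.1 e)) with e | e <;> rw [e] at b
      · exact Or.inl (mul_right_cancel₀ h0 (by rw [one_mul]; exact b.symm))
      · exact Or.inr b.symm
    have s2 := (sq 2 h2).resolve_left fun e => h3 (by linear_combination e)
    have : (Finset.univ : Finset k) ⊆ {0, 1, -1, 2, -2} := fun c _ => by
      simp only [Finset.mem_insert, Finset.mem_singleton]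
      by_cases hc : c = 0
      · exact Or.inl hc
      · rcases sq c hc with e | e
        · rcases sq_eq_one_iff.1 e with e | e <;> simp [e]
        · rcases sq_eq_sq_iff_eq_or_eq_neg.1 (mul_right_cancel₀ h0 (e.trans s2.symm)) with e | e <;>
            simp [e]
    rw [Nat.card_eq_fintype_card]
    exact (Finset.card_le_card this).trans Finset.card_le_five
  · rw [Nat.card_eq_fintype_card, hq]
    exact h5.trans (Nat.le_self_pow n.ne_zero p)

end Cfsg.Lib.D4F
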