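import Cfsg.Agent.D4F.V0
import Cfsg.Agent.D4F.F2

/-! Fusion systems over a Sylow subgroup of `³D₄(q)`: subgroups of `K* ⋊ 3` with an inverted outer element. -/

set_option autoImplicit false
set_option linter.unusedSectionVars false

namespace Cfsg.Lib.D4F

open Cfsg Cfsg.FusionSystem Subgroup Equiv Cfsg.Lib.Fus

variable {K : Type*} [Field K] [Cub K] [Finite K] {p : ℕ} [Fact p.Prime]
  {F F' : FusionSystem (⊤ : Subgroup (M K))} {E : Subgroup (M K)} {O : Perm (M K) → Prop}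
  {H : Subgroup (Gm K)} {X : Subgroup (Perm (V K))}

theorem Gm.Lin.mem {γ : Gm K} (h : γ.Lin) : γ.φ ∈ zpowers (σ : K ≃+* K) := by
  rcases lin_aut h with e | e | e
  · exact (show γ.φ = 1 from RingEquiv.ext e) ▸ one_mem _
  · exact (show γ.φ = σ from RingEquiv.ext e) ▸ mem_zpowers _
  · exact (show γ.φ = σ * σ from RingEquiv.ext e) ▸ mul_mem (mem_zpowers _) (mem_zpowers _)

theorem Gm.Lin.fix {γ : Gm K} (h : γ.Lin) (h1 : γ.φ ≠ 1) {b : K} (e : γ.φ b = b) : σ b = b := by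
  rcases lin_aut h with e' | e' | e'
  · exact absurd (RingEquiv.ext e') h1
  · rw [← e', e]
  · simpa using (congrArg σ ((e' b).symm.trans e)).symm

theorem Gm.Lin.sq {γ : Gm K} (h : γ.Lin) (h1 : (γ * γ).φ = 1) : γ.φ = 1 := by
  obtain ⟨y, hy⟩ := Cub.ne (K := K)
  have : γ.φ (γ.φ (σ y)) = σ y := congrArg (fun f : K ≃+* K => f (σ y)) h1
  rcases lin_aut h with e' | e' | e'
  · exact RingEquiv.ext e'
  · exact absurd (by simpa [e'] using this.symm) hy
  · exact absurd (by simpa [e'] using this) hy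

theorem lj0 {Y : Subgroup (Gm K)} (hY : ∀ γ ∈ Y, γ.Lin ∧ γ.μ = 1) (ι : Y ≃* Y) {d : Y}
    (hd : ι d = d⁻¹) (hφ : d.1.φ ≠ 1) : Nat.card Y < Nat.card K - 1 ∧
      Nat.card Y ≤ 2 * (Nat.card (kk K) ^ 2 + Nat.card (kk K) + 1) := by
  let π : Y →* (K ≃+* K) := (MonoidHom.mk' (·.φ) Gm.mul_φ).comp Y.subtype
  have h3 : π.ker.index ≤ 3 := by
    have : Finite (K ≃+* K) := Finite.of_injective _ DFunLike.coe_injective
    rw [index_ker, ← orderOf_σ (K := K), ← Nat.card_zpowers]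
    exact card_le_of_le (by rintro _ ⟨γ, rfl⟩; exact (hY _ γ.2).1.mem)
  have n0 : ∀ γ : Gm K, γ.c * γ.a ≠ 0 := fun γ => mul_ne_zero γ.hc γ.ha
  have inj : ∀ y ∈ π.ker, ∀ y' ∈ π.ker, y.1.c * y.1.a = y'.1.c * y'.1.a → y = y' :=
    fun y hy y' hy' e => by
      obtain ⟨b, h, e1⟩ := eq_hb (γ := y.1) hy (hY _ y.2).2
      obtain ⟨b', h', e2⟩ := eq_hb (γ := y'.1) hy' (hY _ y'.2).2
      rw [e1, e2, hb_ca, hb_ca] at e
      subst e
      exact Subtype.ext (e1.trans e2.symm)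
  let β : π.ker →* Kˣ := MonoidHom.mk' (fun y => Units.mk0 _ (n0 y.1.1)) fun y y' => Units.ext (by
    have : y.1.1.φ = 1 := y.2
    show y.1.1.c * y.1.1.φ _ * (y.1.1.a * y.1.1.φ _) = _ * _ * (_ * _)
    rw [this]; exact mul_mul_mul_comm _ _ _ _)
  have βi : Function.Injective β := fun y y' e =>
    Subtype.ext (inj _ y.2 _ y'.2 (congrArg Units.val e))
  have hC : ∀ (γ : Y) {α : Type _} (j : α → Y), γ.1.φ ≠ 1 → Function.Injective j →
      (∀ a, j a ∈ π.ker ∧ γ * j a = j a * γ) → Nat.card α ≤ Nat.card (kk K) - 1 :=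
    fun γ α j h hj hm => by
      have k : ∀ a, σ ((j a).1.c * (j a).1.a) = (j a).1.c * (j a).1.a := fun a =>
        (hY _ γ.2).1.fix h (mul_left_cancel₀ (n0 γ.1) (by
          have e1 : γ.1.a * γ.1.φ _ = _ * (j a).1.φ _ := congrArg (·.1.a) (hm a).2
          have e2 : γ.1.c * γ.1.φ _ = _ * (j a).1.φ _ := congrArg (·.1.c) (hm a).2
          rw [show (j a).1.φ = 1 from (hm a).1] at e1 e2
          rw [map_mul, mul_mul_mul_comm, e1, e2]
          show _ * γ.1.c * (_ * γ.1.a) = _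
          ring))
      rw [← Nat.card_units]
      exact Nat.card_le_card_of_injective (fun a => Units.mk0 ⟨_, k a⟩ fun e =>
        n0 _ (congrArg Subtype.val e)) fun a b e =>
          hj (inj _ (hm a).1 _ (hm b).1 (congrArg (·.1.1) e))
  have := isCyclic_of_injective β βi
  have h1 : Nat.card π.ker ≤ 3 * (Nat.card (kk K) - 1) := by
    by_cases hι : ∀ y ∈ π.ker, ι y ∈ π.ker
    · obtain ⟨⟨g, hg⟩, hg'⟩ := IsCyclic.exists_generator (α := π.ker)
      obtain ⟨e, he⟩ := hg' ⟨_, hι g hg⟩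
      have k : ∀ y ∈ π.ker, ι y = y ^ e := fun y hy => by
        obtain ⟨n, hn⟩ := hg' ⟨y, hy⟩
        obtain rfl : g ^ n = y := congrArg Subtype.val hn
        rw [map_zpow, ← show g ^ e = ι g from congrArg Subtype.val he, ← zpow_mul, ← zpow_mul,
          mul_comm]
      refine (hC (d * d) (fun y : π.ker => ι y) (fun e => hφ ((hY _ d.2).1.sq e))
        (ι.injective.comp Subtype.val_injective) fun y => ⟨hι _ y.2, ?_⟩).trans (by omega)
      have := k _ (π.normal_ker.conj_mem _ y.2 d)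
      rw [conj_zpow, ← k _ y.2, map_mul, map_mul, map_inv, hd, inv_inv] at this
      calc d * d * ι y = d * (d * ι y * d⁻¹) * d := by group
        _ = ι y * (d * d) := by rw [← this]; group
    · obtain ⟨y1, hy1, hn⟩ := by simpa only [not_forall] using hι
      have e1 := ((π.ker.map ι.toMonoidHom).subgroupOf π.ker).card_mul_index
      have e2 := relIndex_le_of_le_right (H := π.ker.map ι.toMonoidHom) (le_top (a := π.ker))
        (by rw [relIndex_top_right]; exact index_ne_zero_of_finite)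
      rw [relIndex_top_right, index_map_of_bijective ι.bijective] at e2
      rw [← e1, mul_comm 3]
      refine Nat.mul_le_mul (hC (ι y1) (fun y => y.1.1) hn
        (Subtype.val_injective.comp Subtype.val_injective) fun y => ⟨y.1.2, ?_⟩) (e2.trans h3)
      obtain ⟨z, hz, e⟩ := y.2
      rw [← show ι z = y.1.1 from e, ← map_mul, ← map_mul]
      exact congrArg ι (congrArg Subtype.val (βi (a₁ := ⟨y1, hy1⟩ * ⟨z, hz⟩)
        (a₂ := ⟨z, hz⟩ * ⟨y1, hy1⟩) (by rw [map_mul, map_mul, mul_comm])))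
  have h2 := card_dvd_of_injective β βi
  have h4 := Nat.mul_le_mul_left (Nat.card π.ker) h3
  rw [card_mul_index] at h4
  rw [Nat.card_units] at h2
  rw [card_K (K := K)] at h2 ⊢
  obtain ⟨n, hn⟩ : ∃ n, Nat.card (kk K) = n + 2 :=
    ⟨Nat.card (kk K) - 2, by have := one_lt_card_kk (K := K); omega⟩
  rw [hn] at h1 h2 ⊢
  rw [show n + 2 - 1 = n + 1 from rfl] at h1
  refine ⟨?_, by nlinarith [sq_nonneg ((n : ℤ) - 1)]⟩
  rcases n with _ | n
  · rcases (Nat.dvd_prime (by norm_num : Nat.Prime 7)).1 h2 with e | e <;> omega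
  · have : (n + 1 + 2) ^ 3 = n ^ 3 + 9 * n ^ 2 + 27 * n + 27 := by ring
    omega

end Cfsg.Lib.D4F
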