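import Cfsg.Agent.D4F.L0
import Cfsg.Agent.D4F.LJ0
import Cfsg.Agent.Solv.CoprimeBasic

/-! Fusion systems over a Sylow subgroup of `³D₄(q)`: bounding the involutions swapping two points. -/

set_option autoImplicit false
set_option linter.unusedSectionVars false

namespace Cfsg.Lib.D4F

open Cfsg Cfsg.FusionSystem Subgroup Equiv Cfsg.Lib.Fus

variable {K : Type*} [Field K] [Cub K] [Finite K] {p : ℕ} [Fact p.Prime]
  {F F' : FusionSystem (⊤ : Subgroup (M K))} {E : Subgroup (M K)} {O : Perm (M K) → Prop}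
  {H : Subgroup (Gm K)} {X : Subgroup (Perm (V K))}

open Pointwise

theorem LG.jb0 (h : LG p X H) {y : V K}
    (hD : ∀ d ∈ X, On (d w0) w0 → On (d y) y → ∃ γ ∈ H, γ.Lin ∧ d = gV γ)
    {C : Set (Perm (V K))} {ε : K} (hC : ∀ i ∈ C, i ∈ X ∧ i * i = 1 ∧ Sim i ε ∧ On (i w0) y) :
    C.ncard ≤ (HK H).ncard ∧ ((C.ncard < Nat.card K - 1 ∧
      C.ncard ≤ 2 * (Nat.card (kk K) ^ 2 + Nat.card (kk K) + 1)) ∨
      ∃ J : Set K, J.ncard = C.ncard ∧ Fl X H y J) := by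
  rcases C.eq_empty_or_nonempty with rfl | ⟨n, hn⟩
  · simpa using Or.inl (Finite.one_lt_card (α := K))
  have sw : ∀ i ∈ C, On (i y) w0 := fun i hi => by
    simpa [inv_eq_of_mul_eq_one_left (hC i hi).2.1] using h.on_inv (hC i hi).1 (hC i hi).2.2.2
  obtain ⟨nX, n2, ns, nw⟩ := hC n hn
  let Y : Subgroup (Gm K) := subgroupOfFinite {γ | γ ∈ H ∧ γ.Lin ∧ γ.μ = 1 ∧ On (gV γ y) y}
    ⟨one_mem _, fun _ _ => rfl, by simp [Gm.μ, Gm.one_a, Gm.one_c, nm_one], by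
      simpa using On.refl y⟩ fun a b ha hb => ⟨mul_mem ha.1 hb.1, fun x hx => by
        rw [Gm.mul_φ', hb.2.1 x hx, ha.2.1 x hx], by simp [Gm.μ_mul, ha.2.2.1, hb.2.2.1], by
          rw [map_mul]; exact (hb.2.2.2.map (linV_gV ha.2.1)).trans ha.2.2.2⟩
  have key : ∀ d ∈ X, Sim d 1 → On (d w0) w0 → On (d y) y → ∃ γ : Y, gV γ.1 = d :=
    fun d hd hs h1 h2 => by
      obtain ⟨γ, hγ, l, rfl⟩ := hD d hd h1 h2
      exact ⟨⟨γ, hγ, l, (sim_gV l).uniq hs, h2⟩, rfl⟩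
  have nl := h.lin n nX
  have ni := inv_eq_of_mul_eq_one_left n2
  choose κ hκ using fun γ : Y => key (n * gV γ.1 * n⁻¹)
    (mul_mem (mul_mem nX (h.hm _ γ.2.1 γ.2.2.1)) (inv_mem nX))
    (γ.2.2.2.1 ▸ (sim_gV γ.2.2.1).conj ns)
    (ni.symm ▸ (((nw.map (linV_gV γ.2.2.1)).trans γ.2.2.2.2).map nl).trans (sw n hn))
    (ni.symm ▸ ((((sw n hn).map (linV_gV γ.2.2.1)).trans (gV_w0 _)).map nl).trans nw)
  let ι : Y ≃* Y := .ofBijective (MonoidHom.mk' κ fun a b => Subtype.ext (gV_inj (by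
    simp [hκ, mul_assoc]))) (Finite.injective_iff_bijective.1 fun a b e => Subtype.ext (gV_inj (by
      simpa using (hκ a).symm.trans ((congrArg (fun γ : Y => gV γ.1) e).trans (hκ b)))))
  have e2 : ε * ε = 1 := (n2 ▸ ns.mul ns).uniq fun _ _ => (one_mul _).symm
  choose! γ hγ using fun i (hi : i ∈ C) => key (i * n) (mul_mem (hC i hi).1 nX)
    (e2 ▸ (hC i hi).2.2.1.mul ns) ((nw.map (h.lin _ (hC i hi).1)).trans (sw i hi))
    (((sw n hn).map (h.lin _ (hC i hi).1)).trans (hC i hi).2.2.2)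
  have inj : Set.InjOn (fun i => (γ i).1) C := fun i hi j hj e =>
    mul_right_cancel ((hγ i hi).symm.trans ((congrArg gV e).trans (hγ j hj)))
  have hi : ∀ i ∈ C, n * gV (γ i).1 * n⁻¹ = (gV (γ i).1)⁻¹ := fun i hi => by
    rw [hγ i hi, mul_inv_rev, inv_eq_of_mul_eq_one_left (hC i hi).2.1, ← mul_assoc,
      mul_inv_cancel_right, ni]
  refine ⟨Set.ncard_le_ncard_of_injOn _ (fun i _ => ⟨(γ i).2.1, (γ i).2.2.1, (γ i).2.2.2.1⟩) inj,
    ?_⟩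
  by_cases h1 : ∀ i ∈ C, (γ i).1.φ = 1
  · choose! b b0 hb' using fun i hi => eq_hb (h1 i hi) (γ i).2.2.2.1
    refine Or.inr ⟨b '' C, Set.ncard_image_of_injOn fun i hi j hj e => inj hi hj ?_,
      n, nX, n2, nw, ?_⟩
    · show (γ i).1 = (γ j).1
      rw [hb' i hi, hb' j hj]; congr 1
    · rintro _ ⟨i, hi', rfl⟩
      exact ⟨b0 i hi', hb' i hi' ▸ ⟨(γ i).2.1, (γ i).2.2.2.2, hi i hi'⟩⟩
  · obtain ⟨i, hi', h2⟩ := by simpa only [not_forall] using h1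
    have := lj0 (Y := Y) (fun γ hγ => ⟨hγ.2.1, hγ.2.2.1⟩) ι (d := γ i)
      (Subtype.ext (gV_inj ((hκ _).trans ((hi i hi').trans (map_inv _ _).symm)))) h2
    have l : C.ncard ≤ Nat.card Y :=
      Set.ncard_le_ncard_of_injOn (t := (Y : Set (Gm K))) _ (fun i _ => (γ i).2) inj
    exact Or.inl ⟨l.trans_lt this.1, l.trans this.2⟩

variable [CharP K p]

theorem LG.jb (h : LG p X H) {g : Perm (V K)} (hg : g ∈ X) (hW : ¬ On (g w0) w0)
    {C : Set (Perm (V K))} {ε : K}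
    (hC : ∀ i ∈ C, i ∈ X ∧ i * i = 1 ∧ Sim i ε ∧ On (i w0) (g w0)) :
    C.ncard ≤ (HK H).ncard ∧ ((C.ncard < Nat.card K - 1 ∧
      C.ncard ≤ 2 * (Nat.card (kk K) ^ 2 + Nat.card (kk K) + 1)) ∨
      ∃ t, ∃ J : Set K, J.ncard = C.ncard ∧ Fl X H (xV t (g w0)) J) := by
  let D : Subgroup (Perm (V K)) := subgroupOfFinite
    {d | d ∈ X ∧ On (d w0) w0 ∧ On (d (g w0)) (g w0)} ⟨one_mem _, .refl _, .refl _⟩
    fun a b ha hb => ⟨mul_mem ha.1 hb.1, (hb.2.1.map (h.lin a ha.1)).trans ha.2.1,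
      (hb.2.2.map (h.lin a ha.1)).trans ha.2.2⟩
  have hc : p.Coprime (Nat.card D) := (Nat.Prime.coprime_iff_not_dvd Fact.out).2 fun e => by
    obtain ⟨d, hd⟩ := exists_prime_orderOf_dvd_card' p e
    obtain ⟨t, et⟩ := h.mem_AV d.2.1 d.2.2.1 (n := 1) (by
      rw [pow_one, ← hd]; exact congrArg Subtype.val (pow_orderOf_eq_one d))
    obtain rfl := h.semi hg hW (et ▸ d.2.2.2)
    rw [show d = 1 from Subtype.ext (et.trans xV_zero), orderOf_one] at hd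
    exact (Fact.out : p.Prime).ne_one hd.symm
  have hp := AV_pgroup (K := K) (p := p)
  have := hp.isNilpotent
  obtain ⟨n, hn⟩ := hp.exists_card_eq
  obtain ⟨_, ⟨t, rfl⟩, hk⟩ := Solv.Coprime.exists_conj_le (K := AV K) (A := D)
    (fun d hd => mem_normalizer_fintype (by rintro _ ⟨s, rfl⟩; exact h.norm_AV hd.1 hd.2.1 s))
    (hn ▸ hc.symm.pow_right n) (Or.inr inferInstance)
    (L := (subgroupOfFinite {γ | γ ∈ H ∧ γ.Lin} ⟨one_mem _, fun _ _ => rfl⟩ fun a b ha hb =>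
      ⟨mul_mem ha.1 hb.1, fun x hx => by rw [Gm.mul_φ', hb.2 x hx, ha.2 x hx]⟩).map gV)
    fun d hd => by
      obtain ⟨t, γ, h1, h2, rfl⟩ := h.stab d hd.1 hd.2.1
      exact ⟨_, inv_mem ⟨t, rfl⟩, γ, ⟨h1, h2⟩, (inv_mul_cancel_left _ _).symm⟩
  have xi : (xV t)⁻¹ w0 = w0 := by rw [← xV_neg, xV_w0]
  have li := h.lin _ (inv_mem (h.xm t))
  have := h.jb0 (y := xV t (g w0)) (fun d hd h1 h2 => by
    obtain ⟨γ, hγ, e⟩ := hk (smul_mem_pointwise_smul ((xV t)⁻¹ * d * xV t) _ _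
      ⟨mul_mem (mul_mem (inv_mem (h.xm t)) hd) (h.xm t), by
        simpa [xV_w0, xi] using h1.map li, by simpa using h2.map li⟩)
    exact ⟨γ, hγ.1, hγ.2, by rw [e]; simp [mul_assoc]⟩) (C := MulAut.conj (xV t) '' C) (ε := ε) (by
      rintro _ ⟨i, hi, rfl⟩
      obtain ⟨h1, h2, h3, h4⟩ := hC i hi
      exact ⟨mul_mem (mul_mem (h.xm t) h1) (inv_mem (h.xm t)), by rw [← map_mul, h2, map_one],
        h3.conj (sim_xV t), by
          show On (xV t (i ((xV t)⁻¹ w0))) _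
          exact xi.symm ▸ h4.map (linV_xV t)⟩)
  rw [Set.ncard_image_of_injective _ (MulEquiv.injective _)] at this
  exact ⟨this.1, this.2.imp_right fun h => ⟨t, h⟩⟩

end Cfsg.Lib.D4F
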