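import Cfsg.Agent.D4F.Lb1
import Cfsg.Agent.D4F.R1e

/-! Fusion systems over a Sylow subgroup of `³D₄(q)`: for `p = 3` the centraliser of `tau` fixes `W`. -/

set_option autoImplicit false
set_option linter.unusedSectionVars false

namespace Cfsg.Lib.D4F

open Cfsg Cfsg.FusionSystem Subgroup Equiv Cfsg.Lib.Fus

variable {K : Type*} [Field K] [Cub K] [Finite K] {p : ℕ} [Fact p.Prime]
  {F F' : FusionSystem (⊤ : Subgroup (M K))} {E : Subgroup (M K)} {O : Perm (M K) → Prop}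
  {H : Subgroup (Gm K)} {X : Subgroup (Perm (V K))}

namespace Lb2

open Lb1

/-- `γ` acts trivially on the factors of the chain. -/
def S4 {A : Type*} [AddCommGroup A] (P N E : AddSubgroup A) (γ : A → A) : Prop :=
  (∀ y, γ y - y ∈ P) ∧ (∀ y ∈ P, γ y - y ∈ N) ∧ (∀ y ∈ N, γ y - y ∈ E) ∧ ∀ y ∈ E, γ y = y

theorem S4_eq_1' : type_of% @S4.eq_1 := @S4.eq_1

theorem S4.mul {A : Type*} [AddCommGroup A] {P N E : AddSubgroup A} (h1 : N ≤ P) (h2 : E ≤ N)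
    {γ δ : Perm A} (a : S4 P N E γ) (b : S4 P N E δ) : S4 P N E (γ * δ : Perm A) :=
  ⟨fun y => by simpa using add_mem (a.1 (δ y)) (b.1 y), fun y hy => by
    simpa using add_mem (a.2.1 (δ y) (by simpa using add_mem (h1 (b.2.1 y hy)) hy)) (b.2.1 y hy),
    fun y hy => by
      simpa using add_mem (a.2.2.1 (δ y) (by simpa using add_mem (h2 (b.2.2.1 y hy)) hy))
        (b.2.2.1 y hy), fun y hy => by rw [Perm.mul_apply, b.2.2.2 y hy, a.2.2.2 y hy]⟩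

theorem S4.pow {A : Type*} [AddCommGroup A] (h3 : ∀ v : A, v + v + v = 0) {P N E : AddSubgroup A}
    {γ : Perm A} (a : S4 P N E γ) (l : ∀ y z, γ (y + z) = γ y + γ z) : γ ^ 3 ^ 2 = 1 := by
  ext y
  obtain ⟨x, hx, e1⟩ : ∃ x ∈ P, γ y = y + x := ⟨_, a.1 y, by abel⟩
  obtain ⟨b, hb, e2⟩ : ∃ b ∈ N, γ x = x + b := ⟨_, a.2.1 x hx, by abel⟩
  obtain ⟨c, hc, e3⟩ : ∃ c ∈ E, γ b = b + c := ⟨_, a.2.2.1 b hb, by abel⟩
  simp only [show 3 ^ 2 = 9 from rfl, pow_succ, pow_zero, one_mul, Perm.mul_apply, l, e1, e2, e3,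
    a.2.2.2 c hc, Perm.one_apply]
  linear_combination (norm := abel) 3 • h3 x + 12 • h3 b + 28 • h3 c

/-- The terms of the chain. -/
def E4 (w : V K) : AddSubgroup (V K) where
  carrier := {y | gV tau y = y ∧ fm y w0 = 0 ∧ fm y w = 0}
  zero_mem' := ⟨(linV_gV tau_lin).zero, by vec [], by vec []⟩
  add_mem' := fun ⟨a, b, c⟩ ⟨d, e, f⟩ => ⟨by rw [(linV_gV tau_lin).1, a, d],
    by rw [fm_add, b, e, add_zero], by rw [fm_add, c, f, add_zero]⟩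
  neg_mem' := fun ⟨a, b, c⟩ => ⟨by rw [(linV_gV tau_lin).neg, a], by rw [fm_neg, b, neg_zero],
    by rw [fm_neg, c, neg_zero]⟩

/-- The terms of the chain. -/
def P4 (w : V K) : AddSubgroup (V K) where
  carrier := {y | ∀ z ∈ E4 w, fm y z = 0}
  zero_mem' := fun _ _ => by vec []
  add_mem' := fun a b z hz => by rw [fm_add, a z hz, b z hz, add_zero]
  neg_mem' := fun a z hz => by rw [fm_neg, a z hz, neg_zero]

/-- The terms of the chain. -/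
def N4 (w : V K) : AddSubgroup (V K) where
  carrier := {y | ∃ b ∈ E4 w, y - b ∈ P4 w ∧ gV tau (y - b) = -(y - b)}
  zero_mem' := ⟨0, zero_mem _, by simp, by simpa using (linV_gV tau_lin).zero⟩
  add_mem' := fun ⟨a, b, c, d⟩ ⟨a', b', c', d'⟩ => ⟨_, add_mem b b', by
    rw [add_sub_add_comm]; exact ⟨add_mem c c', by rw [(linV_gV tau_lin).1, d, d', neg_add]⟩⟩
  neg_mem' := fun ⟨a, b, c, d⟩ => ⟨_, neg_mem b, by
    rw [← neg_sub']; exact ⟨neg_mem c, by rw [(linV_gV tau_lin).neg, d]⟩⟩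

theorem E4_eq_1' : type_of% @E4.eq_1 := @E4.eq_1
theorem P4_eq_1' : type_of% @P4.eq_1 := @P4.eq_1
theorem N4_eq_1' : type_of% @N4.eq_1 := @N4.eq_1

section Transport

variable (h : LG p X H) {g : Perm (V K)} (hg : g ∈ X) (hc : Commute g (gV tau)) {y : V K}
include h hg hc

theorem mapE (hy : y ∈ E4 (g⁻¹ w0)) : g y ∈ E4 (g w0) := by
  obtain ⟨m, hm⟩ := h.sim g hg
  refine ⟨by rw [← Perm.mul_apply, ← hc.eq, Perm.mul_apply, hy.1], ?_, by rw [hm, hy.2.1, mul_zero]⟩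
  rw [← perm_apply_inv g w0, hm, hy.2.2, mul_zero]

theorem mapP (hy : y ∈ P4 (g⁻¹ w0)) : g y ∈ P4 (g w0) := fun z hz => by
  obtain ⟨m, hm⟩ := h.sim g hg
  rw [← perm_apply_inv g z, hm, hy _ (mapE h (inv_mem hg) hc.inv_left hz), mul_zero]

theorem mapN (hy : y ∈ N4 (g⁻¹ w0)) : g y ∈ N4 (g w0) := by
  obtain ⟨b, h1, h2, h3⟩ := hy
  refine ⟨_, mapE h hg hc h1, ?_⟩
  rw [show g y - g b = g (y - b) from ((h.lin g hg).lm.map_sub y b).symm]
  exact ⟨mapP h hg hc h2, by rw [← Perm.mul_apply, ← hc.eq, Perm.mul_apply, h3, (h.lin g hg).neg]⟩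

theorem conj {x : Perm (V K)} (a : S4 (P4 (g⁻¹ w0)) (N4 (g⁻¹ w0)) (E4 (g⁻¹ w0)) x) :
    S4 (P4 (g w0)) (N4 (g w0)) (E4 (g w0)) (g * x * g⁻¹ : Perm (V K)) := by
  have e : ∀ y, (g * x * g⁻¹) y - y = g (x (g⁻¹ y) - g⁻¹ y) := fun y =>
    .trans (by simp [LinV.lm]) ((h.lin g hg).lm.map_sub _ _).symm
  exact ⟨fun y => e y ▸ mapP h hg hc (a.1 _), fun y hy => e y ▸ mapN h hg hc (a.2.1 _
    (mapP h (inv_mem hg) hc.inv_left hy)), fun y hy => e y ▸ mapE h hg hc (a.2.2.1 _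
    (mapN h (inv_mem hg) hc.inv_left hy)), fun y hy => by
      rw [Perm.mul_apply, Perm.mul_apply, a.2.2.2 _ (mapE h (inv_mem hg) hc.inv_left hy),
        perm_apply_inv]⟩

end Transport

variable (h3 : (3 : K) = 0) {w : V K} (hw : w.1 = 0 ∧ w.2.1 ≠ 0 ∧ w.2.2.1 = 0) {y : V K}
include h3 hw

theorem memE : y ∈ E4 w ↔ (y.1 : K) = 0 ∧ y.2.1 = 0 ∧ (y.2.2.2 : K) = 0 ∧
    tr (w.2.1 * y.2.2.1) = 0 := by
  refine ⟨fun ⟨a, b, c⟩ => ?_, fun ⟨a, b, c, d⟩ => ⟨V.ext' ?_ ?_ ?_ ?_, (fm_w0 y).trans a, ?_⟩⟩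
  · rw [gV_tau] at a
    rw [fm_w0] at b
    have a1 : -y.2.1 = y.2.1 := congrArg (·.2.1) a
    have a2 : -(y.2.2.2 : K) = y.2.2.2 := congrArg (·.2.2.2.1) a
    exact ⟨b, by linear_combination a1 + y.2.1 * h3, by linear_combination a2 + y.2.2.2 * h3,
      by rw [← c]; vec [b, hw.1, hw.2.2]⟩
  all_goals first | simp only [gV_tau, Subfield.coe_neg, b, c, neg_zero] | (rw [← d]; vec [a, hw.1, hw.2.2])

theorem memP : y ∈ P4 w ↔ ∃ c, σ c = c ∧ y.2.1 = c * w.2.1 :=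
  ⟨fun h => of_perp hw.2.1 fun r hr => neg_eq_zero.1 ((fm_r y r).symm.trans
    (h _ ((memE h3 hw).2 ⟨rfl, rfl, rfl, hr⟩))), fun ⟨c, hc, e⟩ z hz => by
      obtain ⟨a, b, c', d⟩ := (memE h3 hw).1 hz
      linear_combination (norm := vec [a, b, c', e, hc]) -c * d⟩

theorem memN : y ∈ N4 w ↔ y ∈ P4 w ∧ (y.1 : K) = 0 ∧ tr (w.2.1 * y.2.2.1) = 0 := by
  refine ⟨fun ⟨b, h1, h2, h4⟩ => ?_, fun ⟨h1, h2, h4⟩ => ⟨(0, 0, y.2.2.1, 0),
    (memE h3 hw).2 ⟨rfl, rfl, rfl, h4⟩, by simpa [memP h3 hw] using h1, ?_⟩⟩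
  · obtain ⟨a, b', -, d⟩ := (memE h3 hw).1 h1
    rw [gV_tau] at h4
    have a1 : (y.1 : K) - b.1 = -(y.1 - b.1) := congrArg (·.1.1) h4
    have a2 : y.2.2.1 - b.2.2.1 = -(y.2.2.1 - b.2.2.1) := congrArg (·.2.2.1) h4
    exact ⟨by simpa [memP h3 hw, b'] using h2, by linear_combination a - a1 + (y.1 - b.1) * h3,
      by rw [← d, show y.2.2.1 = b.2.2.1 by linear_combination -a2 + (y.2.2.1 - b.2.2.1) * h3]⟩
  · rw [gV_tau]; refine V.ext' ?_ ?_ ?_ ?_ <;> simp [h2]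

theorem s4 : S4 (P4 w) (N4 w) (E4 w) (xV w.2.1) := by
  have k : ∀ y, xV w.2.1 y - y ∈ P4 w := fun y => (memP h3 hw).2 ⟨y.1, σ_coe _, by vec []⟩
  refine ⟨k, fun y hy => (memN h3 hw).2 ⟨k y, by vec [], ?_⟩, fun y hy => ?_, fun y hy => ?_⟩
  · obtain ⟨c, hc, e⟩ := (memP h3 hw).1 hy
    linear_combination (norm := vec [e, hc]) (2 * c + y.1) * nm w.2.1 * h3
  · obtain ⟨h1, h2, h4⟩ := (memN h3 hw).1 hy
    obtain ⟨c, hc, e⟩ := (memP h3 hw).1 h1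
    exact (memE h3 hw).2 ⟨by vec [], by vec [h2], by
      linear_combination (norm := vec [e, hc, h2]) h4 + c * nm w.2.1 * h3, by
      linear_combination (norm := vec [e, hc, h2]) 2 * c * nm w.2.1 * h3⟩
  · obtain ⟨a, b, -, d⟩ := (memE h3 hw).1 hy
    exact V.ext' rfl (by vec [a]) (by vec [a, b]) (by linear_combination (norm := vec [a, b]) d)

end Lb2

open Lb2

variable [CharP K p]

theorem not_adj_three (hp : p = 3) (h : LG p X H) : ¬ Adj X := by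
  rintro ⟨g, hg, hc, hW⟩
  subst hp
  have h3 : (3 : K) = 0 := by exact_mod_cast CharP.cast_eq_zero K 3
  have hw := h.cent_s (by decide) hg hc hW
  have hw' := h.cent_s (by decide) (inv_mem hg) hc.inv_left fun e =>
    hW (by simpa using h.on_inv (inv_mem hg) e)
  let R : Subgroup (Perm (V K)) := subgroupOfFinite
    {γ | γ ∈ X ∧ S4 (P4 (g w0)) (N4 (g w0)) (E4 (g w0)) γ}
    ⟨one_mem _, by simp, by simp, by simp, by simp⟩ fun a b ha hb => ⟨mul_mem ha.1 hb.1,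
      ha.2.mul (fun _ hy => ((memN h3 hw).1 hy).1) (fun y hy => ⟨y, hy, by simp, by
        simpa using (linV_gV Lb1.tau_lin).zero⟩) hb.2⟩
  obtain ⟨t, e⟩ := h.le_AV (R := R) (fun _ h => h.1) (fun γ => ⟨2, Subtype.ext (γ.2.2.pow
    (fun v => V.ext' (by linear_combination (norm := vec []) v.1 * h3)
      (by linear_combination (norm := vec []) v.2.1 * h3)
      (by linear_combination (norm := vec []) v.2.2.1 * h3)
      (by linear_combination (norm := vec []) v.2.2.2 * h3))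
    (h.lin _ γ.2.1).1)⟩) hw.2.1 ⟨h.xm _, s4 h3 hw⟩
    (show g * xV (g⁻¹ w0).2.1 * g⁻¹ ∈ R from
      ⟨mul_mem (mul_mem hg (h.xm _)) (inv_mem hg), conj h hg hc (s4 h3 hw')⟩)
  exact hW (h.ti g hg _ t hw'.2.1 e)

end Cfsg.Lib.D4F
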