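import Cfsg.Agent.D4F.Lb1
import Cfsg.Agent.D4F.F3

/-! Fusion systems over a Sylow subgroup of `³D₄(q)`: point stabilisers fixing a plane. -/

set_option autoImplicit false
set_option linter.unusedSectionVars false

namespace Cfsg.Lib.D4F

open Subgroup Equiv Lb1

variable {K : Type*} [Field K] [Cub K] [Finite K] {p : ℕ} [Fact p.Prime]
  {H : Subgroup (Gm K)} {X : Subgroup (Perm (V K))} [CharP K p]

namespace Lb4

omit [Cub K] [Finite K] in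
theorem cast_ne (h5 : 5 ≤ p) (n : ℕ) (h0 : 0 < n) (h : n < 5) : (n : K) ≠ 0 := fun e =>
  absurd (Nat.le_of_dvd h0 ((CharP.cast_eq_zero_iff K p n).1 e)) (by omega)

theorem ev (h : LG p X H) (hp : p ≠ 2) {g : Perm (V K)} (hg : g ∈ X) (hc : Commute g (gV tau))
    {r : K} (hr : fm ((0, 0, r, 0) : V K) (g w0) = 0) : ∃ r', g⁻¹ (0, 0, r, 0) = (0, 0, r', 0) := by
  obtain ⟨m, hm⟩ := h.sim _ (inv_mem hg)
  have e1 := hm (0, 0, r, 0) (g w0)
  rw [hr, mul_zero, Fus.perm_inv_apply, fm_w0] at e1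
  have e2 : gV tau (g⁻¹ (0, 0, r, 0)) = g⁻¹ (0, 0, r, 0) := by
    rw [← Perm.mul_apply, ← hc.inv_left.eq, Perm.mul_apply, gV_tau]; simp
  rw [gV_tau] at e2
  generalize g⁻¹ (0, 0, r, 0) = y at e1 e2
  have e3 : -y.2.1 = y.2.1 := congrArg (fun y : V K => y.2.1) e2
  have e4 : -(y.2.2.2 : K) = y.2.2.2 := congrArg (fun y : V K => (y.2.2.2 : K)) e2
  exact ⟨y.2.2.1, V.ext' e1 ((mul_eq_zero.1 (show 2 * y.2.1 = 0 by
    linear_combination -e3)).resolve_left (two hp)) rfl ((mul_eq_zero.1 (show 2 * (y.2.2.2 : K) = 0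
      by linear_combination -e4)).resolve_left (two hp))⟩

theorem t2_lin (c : K) (h : c ≠ 0) (h' : σ c = c) : (t2 c h h').Lin := fun _ _ => rfl

theorem t2_w0 (c : K) (h : c ≠ 0) (h' : σ c = c) :
    gV (t2 c h h') w0 = (⟨c⁻¹, σ_inv_fix h'⟩ : kk K) • (w0 : V K) := by
  obtain ⟨a1, a2, a3, a4⟩ := gV_t2 c h h' w0
  exact V.ext' (a1.trans (by simp [w0])) (a2.trans (by simp [w0])) (a3.trans (by simp [w0]))
    (a4.trans (by simp [w0]))

theorem t2_r (c : K) (h : c ≠ 0) (h' : σ c = c) (r : K) :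
    gV (t2 c h h') (0, 0, r, 0) = (0, 0, r, 0) := by
  obtain ⟨a1, a2, a3, a4⟩ := gV_t2 c h h' (0, 0, r, 0)
  exact V.ext' (a1.trans (by simp)) (a2.trans (by simp)) a3 (a4.trans (by simp))

theorem gV_comm (γ : Gm K) : Commute (gV γ) (gV tau) := Commute.map (comm_tau γ) gV

end Lb4

open Lb4

theorem LG.stab_t2 (h : LG p X H) (hp : p ≠ 2) {g : Perm (V K)} (hg : g ∈ X)
    (hc : Commute g (gV tau)) {γ : Perm (V K)} (hγ : γ ∈ X) (hγc : Commute γ (gV tau))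
    (hW : On (γ (g w0)) (g w0)) {e : K}
    (hE : ∀ r, tr (e * r) = 0 → fm ((0, 0, r, 0) : V K) (g w0) = 0 ∧
      γ (0, 0, r, 0) = (0, 0, r, 0)) : ∃ c h h', γ = g * gV (t2 c h h') * g⁻¹ := by
  have hl := h.lin _ (inv_mem hg)
  obtain ⟨δ, -, hδ, e1⟩ := h.cent_stab hp (mul_mem (mul_mem (inv_mem hg) hγ) hg)
    ((hc.inv_left.mul_left hγc).mul_left hc) (by simpa using hW.map hl)
  obtain ⟨r₁, r₂, hi, h1, h2⟩ := exists_ind_perp e
  have key : ∀ r, tr (e * r) = 0 → ∃ r', g⁻¹ (0, 0, r, 0) = (0, 0, r', 0) ∧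
      δ.c * sh δ.a * δ.φ r' = 1 * r' := fun r hr => by
    obtain ⟨r', e2⟩ := ev h hp hg hc (hE r hr).1
    have : gV δ (0, 0, r', 0) = (0, 0, r', 0) := by
      rw [← e1, ← e2, Perm.mul_apply, Fus.perm_apply_inv, Perm.mul_apply, (hE r hr).2]
    exact ⟨r', e2, (one_mul r').symm ▸ congrArg (fun y : V K => y.2.2.1) this⟩
  obtain ⟨s₁, a1, b1⟩ := key r₁ h1
  obtain ⟨s₂, a2, b2⟩ := key r₂ h2
  obtain ⟨e2, e3⟩ := rank_lem hδ one_ne_zero (fun a b ha hb e2 => hi a b ha hb (by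
    have : (⟨a, ha⟩ : kk K) • ((0, 0, r₁, 0) : V K) + (⟨b, hb⟩ : kk K) • ((0, 0, r₂, 0) : V K) = 0 :=
      g⁻¹.injective (by
        rw [hl.1, hl.2, hl.2, a1, a2, hl.zero]
        exact V.ext' (by simp) (by simp) e2 (by simp))
    exact congrArg (fun y : V K => y.2.2.1) this)) b1 b2
  obtain ⟨c, h3, h4, rfl⟩ := eq_t2 (RingEquiv.ext e2) e3
  exact ⟨c, h3, h4, by rw [← e1]; group⟩

theorem LG.cent_v (h : LG p X H) (h5 : 5 ≤ p) (hT : T2Le H) {g : Perm (V K)} (hg : g ∈ X)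
    (hc : Commute g (gV tau)) : (g w0).2.2.2 ≠ 0 := fun hv => by
  have hp : p ≠ 2 := by omega
  by_cases hW : On (g w0) w0
  · obtain ⟨a, b, c⟩ := on_w0.1 hW
    exact (h.lin g hg).ne_zero w0_ne (Prod.ext a (Prod.ext b (Prod.ext c hv)))
  obtain ⟨a, b, c⟩ := h.cent_s hp hg hc hW
  have t := two (K := K) hp
  have t' : σ (2 : K) = 2 := map_ofNat _ 2
  obtain ⟨a1, a2, a3, a4⟩ := gV_t2 2 t t' (g w0)
  obtain ⟨d, h1, h2, e⟩ := h.stab_t2 hp hg hc (h.hm _ (hT.t2 2 t t') (t2_lin _ _ _)) (gV_comm _)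
    ⟨⟨2, t'⟩, V.ext' (a1.trans (by simp [a])) a2 (a3.trans (by simp [c])) (a4.trans (by simp [hv]))⟩
    (e := (g w0).2.1) fun r hr => ⟨by rw [fm_swap, fm_r, hr, neg_neg], t2_r _ _ _ r⟩
  obtain ⟨m, hm⟩ := h.sim g hg
  have e1 := (sim_gV (t2_lin 2 t t')).uniq (e ▸ (sim_gV (t2_lin d h1 h2)).conj hm)
  rw [t2_μ, t2_μ] at e1
  subst e1
  rw [e, Perm.mul_apply, Fus.perm_inv_apply, Perm.mul_apply, t2_w0, (h.lin g hg).2] at a2
  have e2 : (2 : K)⁻¹ = 2 := mul_right_cancel₀ b a2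
  exact cast_ne h5 3 (by decide) (by decide) (by
    push_cast; linear_combination mul_inv_cancel₀ t - 2 * e2 : ((3 : ℕ) : K) = 0)

end Cfsg.Lib.D4F
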