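import Cfsg.Agent.D4F.Lb4
import Cfsg.Agent.D4F.HM

/-! Fusion systems over a Sylow subgroup of `³D₄(q)`: adjacent points force `q = 5`. -/

set_option autoImplicit false
set_option linter.unusedSectionVars false

namespace Cfsg.Lib.D4F

open Subgroup Equiv Lb1 Lb4

variable {K : Type*} [Field K] [Cub K] [Finite K] {p : ℕ} [Fact p.Prime]
  {H : Subgroup (Gm K)} {X : Subgroup (Perm (V K))} [CharP K p]

namespace Lb5

theorem neg_sp (hp : p ≠ 2) {y : V K} (e : gV tau y = -y) : y.1 = 0 ∧ y.2.2.1 = 0 := by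
  rw [gV_tau] at e
  have e1 : (y.1 : K) = -(y.1 : K) := congrArg (fun y : V K => (y.1 : K)) e
  have e2 : y.2.2.1 = -y.2.2.1 := congrArg (fun y : V K => y.2.2.1) e
  exact ⟨Subtype.ext ((mul_eq_zero.1 (show 2 * (y.1 : K) = 0 by
    linear_combination e1)).resolve_left (two hp)), (mul_eq_zero.1 (show 2 * y.2.2.1 = 0 by
    linear_combination e2)).resolve_left (two hp)⟩

theorem neg_map (h : LG p X H) {g : Perm (V K)} (hg : g ∈ X) (hc : Commute g (gV tau)) {y : V K}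
    (e : gV tau y = -y) : gV tau (g y) = -g y := by
  rw [← Perm.mul_apply, ← hc.eq, Perm.mul_apply, e, (h.lin g hg).neg]

/-- The action of a conjugate of `t2 c` on the negative space. -/
theorem conj_t2 (h : LG p X H) (hp : p ≠ 2) {g : Perm (V K)} (hg : g ∈ X)
    (hc : Commute g (gV tau)) (c : kk K) (h0 : (c : K) ≠ 0) {y : V K} (e : gV tau y = -y) :
    (g * gV (t2 (c : K) h0 c.2) * g⁻¹ : Perm (V K)) y =
      c • y + ((c⁻¹ - c) * (g⁻¹ y).2.2.2) • g w0 := by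
  obtain ⟨a, b⟩ := neg_sp hp (neg_map h (inv_mem hg) hc.inv_left e)
  obtain ⟨a1, a2, a3, a4⟩ := gV_t2 (c : K) h0 c.2 (g⁻¹ y)
  have : gV (t2 (c : K) h0 c.2) (g⁻¹ y) = c • g⁻¹ y + ((c⁻¹ - c) * (g⁻¹ y).2.2.2) • w0 := by
    generalize g⁻¹ y = z at *
    exact V.ext' (a1.trans (by simp [a, w0])) (a2.trans (by simp [w0, ksmul]))
      (a3.trans (by simp [b, w0])) (a4.trans (by simp [w0]; ring))
  rw [Perm.mul_apply, Perm.mul_apply, this, (h.lin g hg).1, (h.lin g hg).2, (h.lin g hg).2,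
    Fus.perm_apply_inv]

theorem cmb_inj {s : K} (hs : s ≠ 0) {a b a' b' : kk K}
    (e : a • ((0, s, 0, 0) : V K) + b • w0 = a' • ((0, s, 0, 0) : V K) + b' • w0) :
    a = a' ∧ b = b' :=
  ⟨Subtype.ext (mul_right_cancel₀ hs (by
    simpa [w0, ksmul] using congrArg (fun y : V K => y.2.1) e)),
    by simpa [w0] using congrArg (fun y : V K => y.2.2.2) e⟩

variable (X) in
/-- The elements centralising `tau` and the plane orthogonal to `s`. -/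
def G0 (s : K) : Subgroup (Perm (V K)) where
  carrier := {γ | γ ∈ X ∧ Commute γ (gV tau) ∧ ∀ r, tr (s * r) = 0 → γ (0, 0, r, 0) = (0, 0, r, 0)}
  one_mem' := ⟨one_mem _, Commute.one_left _, fun _ _ => rfl⟩
  mul_mem' := fun {a b} ha hb => ⟨mul_mem ha.1 hb.1, ha.2.1.mul_left hb.2.1, fun r hr => by
    rw [Perm.mul_apply, hb.2.2 r hr, ha.2.2 r hr]⟩
  inv_mem' := fun {a} ha => ⟨inv_mem ha.1, ha.2.1.inv_left, fun r hr =>
    Perm.inv_eq_iff_eq.2 (ha.2.2 r hr).symm⟩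

theorem G0_eq_1' : type_of% @G0.eq_1 := @G0.eq_1

theorem exists_rep (h : LG p X H) (hp : p ≠ 2) {s : K} (hs : s ≠ 0) :
    ∃ ρ : G0 X s →* Matrix (Fin 2) (Fin 2) (kk K), ∀ γ : G0 X s,
      γ.1 (0, s, 0, 0) = ρ γ 0 0 • ((0, s, 0, 0) : V K) + ρ γ 1 0 • w0 ∧
      γ.1 w0 = ρ γ 0 1 • ((0, s, 0, 0) : V K) + ρ γ 1 1 • w0 := by
  have key : ∀ γ : G0 X s, ∀ y : V K, gV tau y = -y →
      (∀ r, tr (s * r) = 0 → fm y (0, 0, r, 0) = 0) →
      ∃ a b : kk K, γ.1 y = a • ((0, s, 0, 0) : V K) + b • w0 := fun γ y h1 h2 => by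
    obtain ⟨a, b⟩ := neg_sp hp (neg_map h γ.2.1 γ.2.2.1 h1)
    obtain ⟨m, hm⟩ := h.sim _ γ.2.1
    obtain ⟨l, hl, e⟩ := of_perp (r := (γ.1 y).2.1) hs fun r hr => by
      have := hm y (0, 0, r, 0)
      rwa [γ.2.2.2 r hr, h2 r hr, mul_zero, fm_r, neg_eq_zero] at this
    exact ⟨⟨l, hl⟩, (γ.1 y).2.2.2, V.ext' (by simp [a, w0]) (by simp [e, w0, ksmul])
      (by simp [b, w0]) (by simp [w0])⟩
  choose a0 a1 ha using fun γ => key γ (0, s, 0, 0) (by rw [gV_tau]; simp)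
    fun r hr => by rw [fm_r, hr, neg_zero]
  choose b0 b1 hb using fun γ => key γ w0 tau_w0 fun r _ => by rw [fm_r]; simp [w0]
  refine ⟨⟨⟨fun γ => !![a0 γ, b0 γ; a1 γ, b1 γ], ?_⟩, fun γ δ => ?_⟩, fun γ => ⟨ha γ, hb γ⟩⟩
  · obtain ⟨e1, e2⟩ := cmb_inj hs (a' := 1) (b' := 0) ((ha 1).symm.trans (by simp))
    obtain ⟨e3, e4⟩ := cmb_inj hs (a' := 0) (b' := 1) ((hb 1).symm.trans (by simp))
    rw [e1, e2, e3, e4, Matrix.one_fin_two]
  · have hl := h.lin _ γ.2.1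
    obtain ⟨e1, e2⟩ := cmb_inj hs (a' := a0 γ * a0 δ + b0 γ * a1 δ)
      (b' := a1 γ * a0 δ + b1 γ * a1 δ) ((ha (γ * δ)).symm.trans (by
        rw [Subgroup.coe_mul, Perm.mul_apply, ha, hl.1, hl.2, hl.2, ha, hb]; module))
    obtain ⟨e3, e4⟩ := cmb_inj hs (a' := a0 γ * b0 δ + b0 γ * b1 δ)
      (b' := a1 γ * b0 δ + b1 γ * b1 δ) ((hb (γ * δ)).symm.trans (by
        rw [Subgroup.coe_mul, Perm.mul_apply, hb δ, hl.1, hl.2, hl.2, ha, hb]; module))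
    simp only [e1, e2, e3, e4, Matrix.mul_fin_two]

end Lb5

open Lb5

theorem LG.adj_five (h : LG p X H) (h5 : 5 ≤ p) (hT : T2Le H) {g : Perm (V K)} (hg : g ∈ X)
    (hc : Commute g (gV tau)) (hW : ¬ On (g w0) w0) :
    Nat.card (kk K) = 5 ∧ 4 * (g w0).2.2.2 * (g⁻¹ w0).2.2.2 = 1 := by
  have hp : p ≠ 2 := by omega
  have hp' : p.Prime := Fact.out
  obtain ⟨w1, hs, w2⟩ := h.cent_s hp hg hc hW
  set s := (g w0).2.1
  set b := (g w0).2.2.2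
  have hw : g w0 = (0, s, 0, 0) + b • w0 :=
    V.ext' (by rw [w1]; simp [w0]) (by simp [w0, s]) (by rw [w2]; simp [w0]) (by simp [w0, b])
  obtain ⟨ρ0, hρ⟩ := exists_rep h hp hs
  have rep : ∀ (γ : G0 X s) (a b c d : kk K), γ.1 (0, s, 0, 0) = a • ((0, s, 0, 0) : V K) + c • w0 →
      γ.1 w0 = b • ((0, s, 0, 0) : V K) + d • w0 → ρ0 γ = !![a, b; c, d] := fun γ a b c d h1 h2 => by
    obtain ⟨e1, e2⟩ := cmb_inj hs ((hρ γ).1.symm.trans h1)
    obtain ⟨e3, e4⟩ := cmb_inj hs ((hρ γ).2.symm.trans h2)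
    rw [← e1, ← e2, ← e3, ← e4]
    exact Matrix.eta_fin_two _
  let G := (Matrix.detMonoidHom.comp ρ0).ker
  let ρ : G →* Matrix.SpecialLinearGroup (Fin 2) (kk K) :=
    MonoidHom.mk' (fun γ => ⟨ρ0 γ.1, γ.2⟩) fun γ δ => Subtype.ext (map_mul ρ0 γ.1 δ.1)
  choose m hm using fun γ : G => h.sim _ γ.1.2.1
  let μ : G →* (kk K)ˣ := MonoidHom.mk' (fun γ => Units.mk0 ⟨m γ, (hm γ).fix⟩ fun e =>
    (hm γ).inv.1 (congrArg Subtype.val e)) fun γ δ =>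
      Units.ext (Subtype.ext ((hm (γ * δ)).uniq ((hm γ).mul (hm δ))))
  have c0 : ∀ c : (kk K)ˣ, ((c : kk K) : K) ≠ 0 := fun c e => c.ne_zero (Subtype.ext e)
  let h0 : (kk K)ˣ → G0 X s := fun c => ⟨gV (t2 _ (c0 c) c.1.2),
    h.hm _ (hT.t2 _ _ _) (t2_lin _ _ _), gV_comm _, fun r _ => t2_r _ _ _ r⟩
  have hd : ∀ c, ρ0 (h0 c) = !![(c : kk K), 0; 0, (c : kk K)⁻¹] := fun c => by
    refine rep _ _ _ _ _ ?_ (by rw [zero_smul, zero_add]; exact t2_w0 _ (c0 c) c.1.2)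
    obtain ⟨a1, a2, a3, a4⟩ := gV_t2 _ (c0 c) c.1.2 (0, s, 0, 0)
    exact V.ext' (a1.trans (by simp)) (a2.trans (by simp [ksmul])) (a3.trans (by simp))
      (a4.trans (by simp))
  let h1 : (kk K)ˣ → G := fun c => ⟨h0 c, by
    change (ρ0 (h0 c)).det = 1
    rw [hd, Matrix.det_fin_two_of]; simp⟩
  have hμ : ∀ c, μ (h1 c) = c := fun c =>
    Units.ext (Subtype.ext (((hm (h1 c)).uniq (sim_gV (t2_lin _ (c0 c) c.1.2))).trans (t2_μ ..)))
  have n2 : (2 : kk K) ≠ 0 := by exact_mod_cast cast_ne (K := kk K) h5 2 (by decide) (by decide)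
  have n3 : (3 : kk K) ≠ 0 := by exact_mod_cast cast_ne (K := kk K) h5 3 (by decide) (by decide)
  let c : (kk K)ˣ := Units.mk0 2 n2
  set α := (g⁻¹ w0).2.2.2
  set β := (g⁻¹ (0, s, 0, 0)).2.2.2
  have hα : α ≠ 0 := h.cent_v h5 hT (inv_mem hg) hc.inv_left
  have hβ : β + b * α = 1 := by
    have := congrArg (fun y => (g⁻¹ y).2.2.2) hw
    simp only [Fus.perm_inv_apply, (h.lin _ (inv_mem hg)).1, (h.lin _ (inv_mem hg)).2] at this
    exact this.symm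
  let k0 : G0 X s := ⟨g * (h0 c).1 * g⁻¹, mul_mem (mul_mem hg (h0 c).2.1) (inv_mem hg),
    (hc.mul_left (h0 c).2.2.1).mul_left hc.inv_left, fun r hr => by
      obtain ⟨r', e⟩ := ev h hp hg hc (r := r) (by rw [fm_swap, fm_r, hr, neg_neg])
      rw [Perm.mul_apply, Perm.mul_apply, e]
      exact (congrArg g (t2_r _ _ _ r')).trans (by rw [← e, Fus.perm_apply_inv])⟩
  have hk : ρ0 k0 = !![2 + (2⁻¹ - 2) * β, (2⁻¹ - 2) * α;
      (2⁻¹ - 2) * β * b, 2 + (2⁻¹ - 2) * α * b] := rep _ _ _ _ _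
    ((conj_t2 h hp hg hc _ (c0 c) (by rw [gV_tau]; simp)).trans (by
      rw [hw]; change (2 : kk K) • _ + ((2⁻¹ - 2) * β) • _ = _; module))
    ((conj_t2 h hp hg hc _ (c0 c) tau_w0).trans (by
      rw [hw]; change (2 : kk K) • _ + ((2⁻¹ - 2) * α) • _ = _; module))
  have i2 : (2 : kk K) * 2⁻¹ = 1 := mul_inv_cancel₀ n2
  let k1 : G := ⟨k0, by
    change (ρ0 k0).det = 1
    rw [hk, Matrix.det_fin_two_of]
    linear_combination (2 * (2⁻¹ - 2)) * hβ + i2⟩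
  have e0 : (ρ (k1 * h1 c⁻¹)).1 = ρ0 k0 * ρ0 (h0 c⁻¹) := map_mul ρ0 k0 (h0 c⁻¹)
  rw [hk, hd, Matrix.mul_fin_two, Units.val_inv_eq_inv_val, inv_inv, Units.val_mk0] at e0
  obtain ⟨j, hj⟩ : ∃ j, (2 : kk K)⁻¹ = j := ⟨_, rfl⟩
  replace i2 : 2 * j = 1 := hj ▸ i2
  rw [hj] at e0
  refine (lemH h5 (hp'.coprime_iff_not_dvd.2 fun hd => ?_).symm ρ μ h1 hμ hd
    (fun γ e => ?_) (fun γ e => ?_) (g := k1 * h1 c⁻¹) ?_ fun e => ?_).elim fun e1 e2 => ?_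
  rotate_right
  · refine ⟨e2, ?_⟩
    have := Fintype.ofFinite (kk K)
    have n5 := FiniteField.cast_card_eq_zero (kk K)
    rw [← Nat.card_eq_fintype_card, e2] at n5
    rw [e0] at e1
    push_cast at n5
    obtain rfl : j = 3 := by linear_combination 3 * i2 - j * n5
    simp only [Matrix.of_apply, Matrix.cons_val', Matrix.cons_val_zero, Matrix.cons_val_one,
      Matrix.cons_val_fin_one] at e1
    linear_combination -4 * e1 + 12 * hβ + 11 * n5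
  · obtain ⟨x, hx⟩ := exists_prime_orderOf_dvd_card' p hd
    have := h.cent_cop hp hT x.1.2.1 x.1.2.2.1
    rw [orderOf_coe, orderOf_coe, hx] at this
    exact hp'.one_lt.ne' (Nat.coprime_self _ |>.1 this)
  · obtain ⟨c, h2, h3, e'⟩ := h.stab_t2 hp (one_mem X) (Commute.one_left _) γ.1.2.1 γ.1.2.2.1
      (e := s) ⟨_, (hρ γ.1).2.trans (by rw [show ρ0 γ.1 0 1 = 0 from e, zero_smul, zero_add]; rfl)⟩
      fun r hr => ⟨fm_w0 _, γ.1.2.2.2 r hr⟩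
    exact ⟨Units.mk0 ⟨c, h3⟩ fun e => h2 (congrArg Subtype.val e),
      Subtype.ext (Subtype.ext (e'.trans (by rw [one_mul, inv_one, mul_one]; rfl)))⟩
  · refine h.cent_v h5 hT γ.1.2.1 γ.1.2.2.1 ?_
    rw [(hρ γ.1).2, show ρ0 γ.1 1 1 = 0 from e]
    simp
  · obtain ⟨n, hn⟩ := h.sim g hg
    rw [map_mul, hμ, mul_inv_eq_one]
    exact Units.ext (Subtype.ext (((hm k1).uniq ((sim_gV (t2_lin _ (c0 c) c.1.2)).conj hn)).trans
      (t2_μ ..)))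
  · have := congrFun (congrFun e0 0) 1
    rw [e, map_one] at this
    change 0 = _ at this
    simp [hα, n2] at this
    exact n3 (by linear_combination i2 - 2 * this)

end Cfsg.Lib.D4F
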