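import Cfsg.Agent.D4F.Lb5

/-! Fusion systems over a Sylow subgroup of `³D₄(q)`: at most three negative points. -/

set_option autoImplicit false
set_option linter.unusedSectionVars false

namespace Cfsg.Lib.D4F

open Subgroup Equiv Lb1 Lb4 Lb5

variable {K : Type*} [Field K] [Cub K] [Finite K] {p : ℕ} [Fact p.Prime]
  {H : Subgroup (Gm K)} {X : Subgroup (Perm (V K))} [CharP K p]

theorem Lb6.le3 {α : Type*} (a b c : α) : ({a, b, c} : Set α).ncard ≤ 3 :=
  (Set.ncard_insert_le _ _).trans (Nat.succ_le_succ ((Set.ncard_insert_le _ _).trans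
    (by rw [Set.ncard_singleton])))

theorem LG.np_le (h : LG p X H) (h5 : 5 ≤ p) (hT : T2Le H) (hA : Adj X) :
    (NP X).ncard ≤ 3 ∧ (HK H).ncard ≤ 12 := by
  have hp : p ≠ 2 := by omega
  obtain ⟨g, hg, hc, hW⟩ := hA
  obtain ⟨hq, hD⟩ := h.adj_five h5 hT hg hc hW
  have := Fintype.ofFinite (kk K)
  have n5 := FiniteField.cast_card_eq_zero (kk K)
  have pw := fun x : kk K => FiniteField.pow_card x
  rw [← Nat.card_eq_fintype_card, hq] at n5 pw
  push_cast at n5
  have n2 : (2 : kk K) ≠ 0 := by exact_mod_cast cast_ne (K := kk K) h5 2 (by decide) (by decide)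
  have n3 : (3 : kk K) ≠ 0 := by exact_mod_cast cast_ne (K := kk K) h5 3 (by decide) (by decide)
  have i2 : (2 : kk K)⁻¹ = 3 := inv_eq_of_mul_eq_one_right (by linear_combination n5)
  have c0 : ((2 : kk K) : K) ≠ 0 := fun e => n2 (Subtype.ext e)
  obtain ⟨ρ, hρ, hρc, r1⟩ : ∃ ρ ∈ X, Commute ρ (gV tau) ∧ ∀ y, gV tau y = -y →
      ρ y = (2 : kk K) • y + y.2.2.2 • w0 :=
    ⟨_, h.hm _ (hT.t2 _ c0 (2 : kk K).2) (t2_lin _ _ _), gV_comm _, fun y hy => by
      have := conj_t2 h hp (one_mem X) (Commute.one_left _) 2 c0 hy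
      rw [one_mul, inv_one, mul_one, i2] at this
      rw [this]; norm_num⟩
  have r2 : ∀ y, gV tau y = -y → ρ⁻¹ y = (3 : kk K) • y - y.2.2.2 • w0 := fun y hy => by
    rw [Perm.inv_eq_iff_eq, sub_eq_add_neg, (h.lin ρ hρ).1, (h.lin ρ hρ).neg, (h.lin ρ hρ).2,
      (h.lin ρ hρ).2, r1 y hy, r1 w0 tau_w0]
    change y = (3 : kk K) • _ + -(y.2.2.2 • (_ + (1 : kk K) • _))
    linear_combination (norm := module) (-n5) • y
  have rel : ∀ a ∈ X, Commute a (gV tau) → ∀ b ∈ X, Commute b (gV tau) → ¬ On (b w0) (a w0) →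
      4 * (a⁻¹ (b w0)).2.2.2 * (b⁻¹ (a w0)).2.2.2 = 1 := fun a ha hac b hb hbc hn => by
    have := (h.adj_five h5 hT (mul_mem (inv_mem ha) hb) (hac.inv_left.mul_left hbc) fun e =>
      hn (by simpa using e.map (h.lin a ha))).2
    rwa [mul_inv_rev, inv_inv] at this
  have three : ∀ a ∈ X, Commute a (gV tau) → On (a w0) w0 ∨ On (a w0) (g w0) ∨
      On (a w0) ((ρ * g) w0) := fun a ha hac => by
    by_contra! hn
    have hB := (h.adj_five h5 hT ha hac hn.1).2
    have hA := rel g hg hc a ha hac hn.2.1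
    have hE := rel _ (mul_mem hρ hg) (hρc.mul_left hc) a ha hac hn.2.2
    have l1 := h.lin _ (inv_mem hg)
    have l2 := h.lin _ (inv_mem ha)
    rw [mul_inv_rev, Perm.mul_apply, Perm.mul_apply, r1 _ (neg_map h hg hc tau_w0),
      r2 _ (neg_map h ha hac tau_w0), sub_eq_add_neg, l1.1, l1.neg, l1.2, l1.2, l2.1, l2.2,
      l2.2] at hE
    simp only [Prod.snd_add, Prod.snd_neg, Prod.smul_snd, smul_eq_mul] at hE
    generalize (g⁻¹ (a w0)).2.2.2 = A, (a⁻¹ (g w0)).2.2.2 = A', (a w0).2.2.2 = B,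
      (a⁻¹ w0).2.2.2 = B', (g w0).2.2.2 = D, (g⁻¹ w0).2.2.2 = D' at hA hB hD hE
    have a1 : A * A' = -1 := by linear_combination -hA + (A * A') * n5
    have a2 : B * B' = -1 := by linear_combination -hB + (B * B') * n5
    have a3 : D * D' = -1 := by linear_combination -hD + (D * D') * n5
    have a4 : A * D * B' + A' * B * D' = 2 := by
      linear_combination 3 * hE - 72 * a1 + 12 * (D * D') * a2 - 12 * a3 +
        (-7 * (A * D * B') + 5 * (A' * B * D') + 17) * n5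
    have a5 : (A * D * B' - 1) ^ 2 = 2 := by
      linear_combination (A * D * B') * a4 - (B * B' * (D * D')) * a1 + (D * D') * a2 - a3
    have a6 := pw (A * D * B' - 1)
    generalize A * D * B' - 1 = x at a5 a6
    have a7 : x = 0 := (mul_eq_zero.1 (show 3 * x = 0 by
      linear_combination a6 - (x ^ 3 + 2 * x) * a5)).resolve_left n3
    exact n2 (by rw [← a5, a7]; ring)
  refine ⟨(Set.ncard_le_ncard (t := {ln w0, ln (g w0), ln ((ρ * g) w0)}) ?_).trans
    (Lb6.le3 _ _ _), ?_⟩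
  · rintro _ ⟨a, ha, hac, rfl⟩
    simpa only [Set.mem_insert_iff, Set.mem_singleton_iff,
      ln_eq_iff ((h.lin a ha).ne_zero w0_ne)] using three a ha hac
  · obtain ⟨-, hs, -⟩ := h.cent_s hp hg hc hW
    refine (Set.ncard_le_ncard_of_injOn
      (t := ({1, σ, σ * σ} : Set (K ≃+* K)) ×ˢ ((kk K : Set K) \ {0}))
      (fun γ => (γ.φ, γ.c * γ.a * γ.φ (g w0).2.1 / (g w0).2.1)) (fun γ hγ => ⟨?_, ?_, ?_⟩)
      fun γ hγ δ hδ e => ?_).trans ?_
    · rcases lin_aut hγ.2.1 with e | e | e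
      exacts [Or.inl (RingEquiv.ext e), Or.inr (Or.inl (RingEquiv.ext e)),
        Or.inr (Or.inr (RingEquiv.ext e))]
    · have h1 := h.hm γ hγ.1 hγ.2.1
      rcases three _ (mul_mem h1 hg) ((gV_comm γ).mul_left hc) with e | ⟨l, e⟩ | ⟨l, e⟩
      · exact absurd (On.trans (by simpa using e.map (h.lin _ (inv_mem h1)))
          (map_inv gV γ ▸ gV_w0 γ⁻¹)) hW
      · have e1 : γ.c * γ.a * γ.φ (g w0).2.1 = l * (g w0).2.1 := congrArg (fun y : V K => y.2.1) e
        simp only [e1, mul_div_cancel_right₀ _ hs]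
        exact l.2
      · rw [Perm.mul_apply ρ, r1 _ (neg_map h hg hc tau_w0)] at e
        have e1 : γ.c * γ.a * γ.φ (g w0).2.1 = (l * 2 : kk K) * (g w0).2.1 :=
          (congrArg (fun y : V K => y.2.1) e).trans (by simp [w0, ksmul, mul_assoc])
        simp only [e1, mul_div_cancel_right₀ _ hs]
        exact (l * 2).2
    · simp [hs, γ.ha, γ.hc]
    · obtain ⟨e1, e2⟩ := Prod.mk.inj e
      rw [e1] at e2
      have e3 : γ.c * γ.a = δ.c * δ.a := mul_right_cancel₀ ((map_ne_zero _).2 hs)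
        ((div_left_inj' hs).1 e2)
      have key : ∀ γ : Gm K, γ.μ = 1 → nm (γ.c * γ.a) = γ.c := fun γ e => by
        rw [nm_mul, nm_fix γ.σc]
        rw [Gm.μ] at e
        linear_combination γ.c * e
      have e4 : γ.c = δ.c := by rw [← key γ hγ.2.2, e3, key δ hδ.2.2]
      exact Gm.ext (mul_left_cancel₀ δ.hc (e4 ▸ e3)) e4 e1
    · rw [Set.ncard_prod, Set.ncard_sdiff_singleton_of_mem (zero_mem _), ← Nat.card_coe_set_eq,
        ← Nat.card_coe_set_eq, SetLike.coe_sort_coe, hq, Nat.card_coe_set_eq]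
      exact Nat.mul_le_mul_right 4 (Lb6.le3 _ _ _)

end Cfsg.Lib.D4F
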