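import Cfsg.Agent.D4F.Lb1

/-! Fusion systems over a Sylow subgroup of `³D₄(q)`: counting the class of `tau`. -/

set_option autoImplicit false

namespace Cfsg.Lib.D4F

open Subgroup Equiv Lb1

variable {K : Type*} [Field K] [Cub K] [Finite K] {p : ℕ} [Fact p.Prime]
  {H : Subgroup (Gm K)} {X : Subgroup (Perm (V K))} [CharP K p]

theorem LG.cls_inv (h : LG p X H) (hT : T2Le H) {i : Perm (V K)} (hi : i ∈ Cls X) :
    i ∈ X ∧ i * i = 1 ∧ Sim i (-1) := by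
  obtain ⟨a, ha, rfl⟩ := hi
  obtain ⟨m, hm⟩ := h.sim a ha
  exact ⟨mul_mem (mul_mem ha (tau_mem h hT)) (inv_mem ha), by
    rw [← pow_two, conj_pow, pow_two, tau_sq]; simp, sim_tau.conj hm⟩

theorem LG.cls_le (h : LG p X H) (hp : p ≠ 2) (hT : T2Le H) :
    (Cls X).ncard ≤ 2 * Nat.card K + {i ∈ Cls X | ¬ On (i w0) w0}.ncard := by
  have k : ∀ c : Perm (V K), (Set.range fun t => xV t * c * (xV t)⁻¹).ncard ≤ Nat.card K :=
    fun c => by rw [← Set.image_univ, ← Set.ncard_univ]; exact Set.ncard_image_le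
  refine (Set.ncard_le_ncard (t := (Set.range (fun t => xV t * gV tau * (xV t)⁻¹) ∪ Set.range
    fun t => xV t * gV (tau * hb (-1) (neg_ne_zero.2 one_ne_zero)) * (xV t)⁻¹) ∪
      {i ∈ Cls X | ¬ On (i w0) w0}) fun i hi => ?_).trans ((Set.ncard_union_le _ _).trans ?_)
  · by_cases hW : On (i w0) w0
    · obtain ⟨a, b, c⟩ := h.cls_inv hT hi
      obtain ⟨t, e | e⟩ := h.inv_stab hp a b c hW
      exacts [.inl (.inl ⟨t, e.2.symm⟩), .inl (.inr ⟨t, e.symm⟩)]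
    · exact .inr ⟨hi, hW⟩
  · exact Nat.add_le_add_right ((Set.ncard_union_le _ _).trans
      ((Nat.add_le_add (k _) (k _)).trans_eq (two_mul _).symm)) _

theorem LG.cls_count (h : LG p X H) (hp : p ≠ 2) (hT : T2Le H) : (Pts X).ncard * Nat.card K ≤
    (NP X).ncard * (2 * Nat.card K + {i ∈ Cls X | ¬ On (i w0) w0}.ncard) := by
  refine le_trans ?_ (Nat.mul_le_mul_left _ (h.cls_le hp hT))
  choose! g hg eg using fun L (hL : L ∈ Pts X) => hL
  choose! a ha ea using fun i (hi : i ∈ Cls X) => hi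
  let Φ : Submodule (kk K) (V K) × K → Perm (V K) := fun u =>
    g u.1 * xV u.2 * gV tau * (g u.1 * xV u.2)⁻¹
  have hΦ : ∀ u, u.1 ∈ Pts X → Φ u ∈ Cls X := fun u hu => ⟨_, mul_mem (hg _ hu) (h.xm _), rfl⟩
  have m : ∀ u v, u.1 ∈ Pts X → v ∈ Pts X → (a (Φ u))⁻¹ * g v ∈ X := fun u v hu hv =>
    mul_mem (inv_mem (ha _ (hΦ u hu))) (hg _ hv)
  rw [← Set.ncard_univ, ← Set.ncard_prod, ← Set.ncard_prod]
  refine Set.ncard_le_ncard_of_injOn (fun u => (ln (((a (Φ u))⁻¹ * g u.1) w0), Φ u))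
    (fun u hu => ⟨?_, hΦ u hu.1⟩) fun u hu v hv e => ?_
  · obtain ⟨g', hg', c, o⟩ := h.neg_pt hp hT (m u _ hu.1 hu.1) (by
      have e1 : (a (Φ u))⁻¹ * Φ u = gV tau * (a (Φ u))⁻¹ := by
        rw [inv_mul_eq_iff_eq_mul, ← mul_assoc]; exact ea _ (hΦ u hu.1)
      have e2 : Φ u (g u.1 w0) = -g u.1 w0 := by
        simp only [Φ, mul_inv_rev, Perm.mul_apply, Fus.perm_inv_apply, ← xV_neg, xV_w0, tau_w0,
          (linV_xV _).neg, (h.lin _ (hg _ hu.1)).neg]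
      rw [Perm.mul_apply, ← Perm.mul_apply (gV tau), ← e1, Perm.mul_apply, e2,
        (h.lin _ (inv_mem (ha _ (hΦ u hu.1)))).neg])
    exact ⟨g', hg', c, ((ln_eq_iff (h.ne hg')).2 o).symm⟩
  · obtain ⟨e1, e2⟩ := Prod.mk.inj e
    rw [← e2] at e1
    have o := ((ln_eq_iff (h.ne (m u _ hu.1 hu.1))).1 e1).map (h.lin _ (ha _ (hΦ u hu.1)))
    rw [Perm.mul_apply, Perm.mul_apply, Fus.perm_apply_inv, Fus.perm_apply_inv] at o
    have e3 : u.1 = v.1 := by rw [eg _ hu.1, eg _ hv.1, (ln_eq_iff (h.ne (hg _ hu.1))).2 o]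
    refine Prod.ext e3 ?_
    have k : ∀ t : K, xV t * gV tau * (xV t)⁻¹ = xV (2 * t) * gV tau := fun t => by
      rw [← xV_neg, mul_assoc, gx rfl rfl, neg_neg, ← mul_assoc, ← xV_add, two_mul]
    simp only [Φ, e3, mul_inv_rev, mul_assoc, mul_right_inj] at e2
    simp only [← mul_assoc, k, mul_left_inj] at e2
    exact mul_left_cancel₀ (two hp) (xV_inj e2)

end Cfsg.Lib.D4F
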