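import Cfsg.Agent.D4F.Lb2
import Cfsg.Agent.D4F.Lb5
import Cfsg.Agent.D4F.Lb6
import Cfsg.Agent.D4F.Lc
import Cfsg.Agent.D4F.LJ
import Cfsg.Agent.D4F.LF
import Cfsg.Agent.D4F.L0
import Cfsg.Agent.D4F.Lb1

/-! The centraliser of `tau` fixes `W`. -/

set_option autoImplicit false

namespace Cfsg.Lib.D4F

open Subgroup Equiv

variable {K : Type*} [Field K] [Cub K] [Finite K] {p : ℕ} [Fact p.Prime] [CharP K p]
  {H : Subgroup (Gm K)} {X : Subgroup (Perm (V K))}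

theorem LG.not_adj (h : LG p X H) (hp : p ≠ 2) (hT : T2Le H) : ¬ Adj X := by
  by_cases h3 : p = 3
  · exact not_adj_three h3 h
  have h5 := (Fact.out : p.Prime).five_le_of_ne_two_of_ne_three hp h3
  intro hA
  obtain ⟨a1, a2⟩ := h.np_le h5 hT hA
  obtain ⟨g, hg, hc, hW⟩ := hA
  have hK := card_K (K := K)
  rw [(h.adj_five h5 hT hg hc hW).1] at hK
  obtain ⟨m, hm, hP⟩ := h.card_pts
  have c := h.cls_count hp hT
  have mem : ∀ i ∈ Cls X, i ∈ X ∧ i * i = 1 ∧ Sim i (-1) := by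
    rintro _ ⟨a, ha, rfl⟩
    obtain ⟨n, hn⟩ := h.sim a ha
    exact ⟨mul_mem (mul_mem ha (Lb1.tau_mem h hT)) (inv_mem ha), by
      rw [conj_mul, Lb1.tau_sq, mul_one, mul_inv_cancel], Lb1.sim_tau.conj hn⟩
  have k := (fib_eq (C := {i ∈ Cls X | ¬ On (i w0) w0}) (P := Pts X) (Set.toFinite _)
    (Set.toFinite _) (fun i => ln (i w0)) (fun i hi => ⟨i, (mem i hi.1).1, rfl⟩) (fun _ => 12)
    fun L _ => ?_).1
  · rw [Finset.sum_const, ← Set.ncard_eq_toFinset_card, smul_eq_mul] at k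
    have := c.trans (Nat.mul_le_mul a1 (Nat.add_le_add_left k _))
    rw [hP, hK] at this
    omega
  rcases Set.eq_empty_or_nonempty {a ∈ {i ∈ Cls X | ¬ On (i w0) w0} | ln (a w0) = L} with e |
    ⟨j, hj, rfl⟩
  · rw [e, Set.ncard_empty]
    exact Nat.zero_le _
  exact (h.jb (ε := -1) (mem j hj.1).1 hj.2 fun i hi => ⟨(mem i hi.1.1).1, (mem i hi.1.1).2.1,
    (mem i hi.1.1).2.2, (ln_eq_iff (h.ne (mem i hi.1.1).1)).1 hi.2⟩).1.trans a2

end Cfsg.Lib.D4F
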