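import Cfsg.Agent.D4F.Lc
import Cfsg.Agent.D4F.LF
import Cfsg.Agent.D4F.LJ
import Cfsg.Agent.D4F.Lb7

/-! The number of points and the full tori for odd `p`. -/

set_option autoImplicit false

namespace Cfsg.Lib.D4F

open Cfsg Cfsg.FusionSystem Subgroup Equiv Cfsg.Lib.Fus

variable {K : Type*} [Field K] [Cub K] [Finite K] {p : ℕ} [Fact p.Prime]
  {H : Subgroup (Gm K)} {X : Subgroup (Perm (V K))} [CharP K p]

theorem Lo1.exists_D (hp : p ≠ 2) :
    ∃ D, Nat.card K = 1 + 2 * (Nat.card (kk K) ^ 2 + Nat.card (kk K) + 1) + D := by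
  have h2 := Lb1.two (K := K) hp
  have h3 : 2 < Nat.card (kk K) := by
    rw [← Set.ncard_univ, Set.two_lt_ncard_iff]
    refine ⟨0, 1, -1, trivial, trivial, trivial, zero_ne_one, by simp, fun e => h2 ?_⟩
    have := congrArg Subtype.val e
    simp only [OneMemClass.coe_one, NegMemClass.coe_neg] at this
    linear_combination this
  refine Nat.exists_eq_add_of_le ?_
  rw [card_K (K := K)]
  obtain ⟨r, e⟩ := Nat.exists_eq_add_of_lt h3
  rw [e]
  nlinarith [Nat.zero_le (r ^ 3), Nat.zero_le (r ^ 2)]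

theorem LG.full (h : LG p X H) (hp : p ≠ 2) (hT : T2Le H) : (Pts X).ncard = 1 + Nat.card K ∧
    ∀ g ∈ X, ¬ On (g w0) w0 → ∃ t, ∃ J : Set K, J.ncard = Nat.card K - 1 ∧
      Fl X H (xV t (g w0)) J := by
  classical
  obtain ⟨D, hD⟩ := Lo1.exists_D (K := K) hp
  obtain ⟨m, hm, eN⟩ := h.card_pts
  have hc := h.cls_count hp hT
  have hNP : (NP X).ncard ≤ 1 := Set.ncard_singleton (ln (w0 : V K)) ▸ Set.ncard_le_ncard (by
    rintro _ ⟨g, hg, c, rfl⟩
    exact (ln_eq_iff (h.ne hg)).2 (by_contra fun n => h.not_adj hp hT ⟨g, hg, c, n⟩))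
  replace hc := hc.trans ((Nat.mul_le_mul_right _ hNP).trans_eq (one_mul _))
  have eP : (Pts X \ {ln w0}).ncard = m * Nat.card K := by
    have := Set.ncard_sdiff_singleton_add_one (s := Pts X) (a := ln w0) ⟨1, one_mem _, rfl⟩
    omega
  have jb : ∀ g ∈ X, ¬ On (g w0) w0 → _ := fun g hg hW => (h.jb hg hW
    (C := {a ∈ {i ∈ Cls X | ¬ On (i w0) w0} | ln (a w0) = ln (g w0)}) fun i hi =>
      have k := h.cls_inv hT hi.1.1
      ⟨k.1, k.2.1, k.2.2, (ln_eq_iff (h.ne k.1)).1 hi.2⟩).2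
  have fib := fib_eq (C := {i ∈ Cls X | ¬ On (i w0) w0}) (P := Pts X \ {ln w0}) (Set.toFinite _)
    (Set.toFinite _) (fun i => ln (i w0)) fun i hi =>
      have k := (h.cls_inv hT hi.1).1
      ⟨⟨i, k, rfl⟩, fun e => hi.2 ((ln_eq_iff (h.ne k)).1 e)⟩
  have nW : ∀ g ∈ X, ln (g w0) ∉ ({ln w0} : Set _) → ¬ On (g w0) w0 := fun g hg n e =>
    n ((ln_eq_iff (h.ne hg)).2 e)
  have b1 : ∀ L ∈ Pts X \ {ln w0},
      {a ∈ {i ∈ Cls X | ¬ On (i w0) w0} | ln (a w0) = L}.ncard ≤ Nat.card K - 1 := by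
    rintro _ ⟨⟨g, hg, rfl⟩, n⟩
    obtain k | ⟨t, J, e, k⟩ := jb g hg (nW g hg n)
    exacts [k.1.le, e ▸ k.le]
  have hQ : 0 < Nat.card K := Nat.card_pos
  obtain rfl : m = 1 := by
    let I := Set.range fun t : K => ln (xV t w1)
    have hI : I.ncard ≤ Nat.card K := by
      rw [← Set.ncard_univ, show I = _ from Set.image_univ.symm]; exact Set.ncard_image_le
    have k := (fib (fun L => 2 * (Nat.card (kk K) ^ 2 + Nat.card (kk K) + 1) +
      if L ∈ I then D else 0) (by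
      rintro _ ⟨⟨g, hg, rfl⟩, n⟩
      split_ifs with hL
      · have := b1 _ ⟨⟨g, hg, rfl⟩, n⟩
        omega
      obtain k | ⟨t, J, e, k⟩ := jb g hg (nW g hg n)
      · exact k.2
      refine e ▸ not_lt.1 fun lt => hL ⟨-t, ((ln_eq_iff (h.ne hg)).2 ?_).symm⟩
      have o := (k.big (fun o => nW g hg n ?_) lt).map (linV_xV (-t))
      · rwa [xV_neg, perm_inv_apply, ← xV_neg] at o
      have := o.map (linV_xV (-t))
      rwa [xV_w0, xV_neg, perm_inv_apply] at this)).1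
    rw [Finset.sum_add_distrib, Finset.sum_const, ← Finset.sum_filter, Finset.sum_const,
      ← Set.ncard_eq_toFinset_card _ (Set.toFinite _), eP, smul_eq_mul, smul_eq_mul] at k
    have k2 : (Finset.filter (· ∈ I) (Set.toFinite (Pts X \ {ln w0})).toFinset).card ≤
        Nat.card K := le_trans (by
      rw [← Set.ncard_coe_finset]
      exact Set.ncard_le_ncard fun L hL => (Finset.mem_filter.1 hL).2) hI
    have k3 := hc.trans (Nat.add_le_add_left (k.trans (Nat.add_le_add_left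
      (Nat.mul_le_mul_right D k2) _)) _)
    rw [eN] at k3
    generalize 2 * (Nat.card (kk K) ^ 2 + Nat.card (kk K) + 1) = B at hD k3
    have k4 : 1 + m * Nat.card K ≤ 2 + m * B + D :=
      Nat.le_of_mul_le_mul_right (k3.trans_eq (by ring)) hQ
    rw [hD] at k4
    nlinarith
  refine ⟨by rw [eN, one_mul], fun g hg hW => ?_⟩
  have k := (fib (fun _ => Nat.card K - 1) b1).2 (by
    rw [Finset.sum_const, ← Set.ncard_eq_toFinset_card _ (Set.toFinite _), eP, smul_eq_mul]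
    rw [eN] at hc
    obtain ⟨n, e⟩ := Nat.exists_eq_add_of_lt hQ
    rw [e] at hc ⊢
    simp only [zero_add, Nat.add_sub_cancel] at hc ⊢
    nlinarith) _ ⟨⟨g, hg, rfl⟩, fun e => hW ((ln_eq_iff (h.ne hg)).1 e)⟩
  obtain k' | ⟨t, J, e, k'⟩ := jb g hg hW
  exacts [(k'.1.ne k).elim, ⟨t, J, e.trans k, k'⟩]

end Cfsg.Lib.D4F
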