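import Cfsg.Agent.D4F.Defs2
import Cfsg.Agent.Chev.TwistD4

/-! Fusion systems over a Sylow subgroup of `³D₄(q)`: the model maps to `D₄`. -/

set_option autoImplicit false

namespace Cfsg.Lib.D4F

open Cfsg.Lie Cfsg.Lib.Chev

variable {K : Type*} [Field K] {G : Type*} [Group G] {x : ℕ → K → G} (h : StRel chevD4 x)
include h

theorem sw0 (r s : ℕ) (hm : (r, s) ∈ [(23, 22), (23, 19), (23, 16), (23, 15), (23, 17), (23, 20), (23, 21), (23, 14), (23, 18),
    (23, 13), (23, 12), (22, 19), (22, 16), (22, 15), (22, 17), (22, 20), (22, 21), (22, 18),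
    (22, 13), (22, 12), (19, 16), (19, 15), (19, 20), (19, 21), (19, 14), (19, 18), (16, 15),
    (16, 17), (16, 21), (16, 14), (16, 13), (15, 17), (15, 20), (15, 14), (15, 12), (17, 20),
    (17, 21), (17, 14), (17, 13), (17, 12), (20, 21), (20, 14), (20, 18), (20, 12), (21, 14),
    (21, 18), (21, 13), (18, 13), (18, 12), (13, 12)])
    (t u : K) (g : G) : x s u * (x r t * g) = x r t * (x s u * g) := by
  have := (by decide +kernel : ∀ c ∈ [(23, 22), (23, 19), (23, 16), (23, 15), (23, 17), (23, 20), (23, 21), (23, 14), (23, 18),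
    (23, 13), (23, 12), (22, 19), (22, 16), (22, 15), (22, 17), (22, 20), (22, 21), (22, 18),
    (22, 13), (22, 12), (19, 16), (19, 15), (19, 20), (19, 21), (19, 14), (19, 18), (16, 15),
    (16, 17), (16, 21), (16, 14), (16, 13), (15, 17), (15, 20), (15, 14), (15, 12), (17, 20),
    (17, 21), (17, 14), (17, 13), (17, 12), (20, 21), (20, 14), (20, 18), (20, 12), (21, 14),
    (21, 18), (21, 13), (18, 13), (18, 12), (13, 12)],
    c.1 < chevD4.nroots ∧ c.2 < chevD4.nroots ∧ c.2 ≠ c.1 ∧ c.2 ≠ chevD4.neg c.1 ∧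
      chevD4.commTerms c.1 c.2 = []) _ hm
  rw [← mul_assoc, h.comm r s this.1 this.2.1 this.2.2.1 this.2.2.2.1, ChevalleyDatum.commWord,
    this.2.2.2.2]
  simp [mul_assoc]

theorem sw1 (r s k : ℕ) (c : ℤ) (hm : (r, s, k, c) ∈ [(22, 14, 23, -1), (19, 17, 23, -1), (19, 13, 21, -1), (19, 12, 20, -1), (16, 20, 23, -1),
    (16, 18, 21, 1), (16, 12, 17, -1), (15, 21, 23, -1), (15, 18, 20, 1), (15, 13, 17, -1), (17,
    18, 22, 1), (20, 13, 22, -1), (21, 12, 22, -1), (14, 18, 19, 1), (14, 13, 16, -1), (14, 12,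
    15, -1)])
    (t u : K) (g : G) : x s u * (x r t * g) = x r t * (x s u * (x k (c * -t * u) * g)) := by
  have := (by decide +kernel : ∀ c ∈ ([(22, 14, 23, -1), (19, 17, 23, -1), (19, 13, 21, -1), (19, 12, 20, -1), (16, 20, 23, -1),
    (16, 18, 21, 1), (16, 12, 17, -1), (15, 21, 23, -1), (15, 18, 20, 1), (15, 13, 17, -1), (17,
    18, 22, 1), (20, 13, 22, -1), (21, 12, 22, -1), (14, 18, 19, 1), (14, 13, 16, -1), (14, 12,
    15, -1)] : List (ℕ × ℕ × ℕ × ℤ)),
    c.1 < chevD4.nroots ∧ c.2.1 < chevD4.nroots ∧ c.2.1 ≠ c.1 ∧ c.2.1 ≠ chevD4.neg c.1 ∧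
      chevD4.commTerms c.1 c.2.1 = [(c.2.2.1, c.2.2.2, 1, 1)]) _ hm
  rw [← mul_assoc, h.comm r s this.1 this.2.1 this.2.2.1 this.2.2.2.1, ChevalleyDatum.commWord,
    this.2.2.2.2]
  simp [mul_assoc]

theorem ad (r : ℕ) (hr : r < 24) (t u : K) (g : G) : x r t * (x r u * g) = x r (t + u) * g := by
  rw [← mul_assoc, h.add r (by rwa [show chevD4.nroots = 24 by decide +kernel])]

theorem iw_mul [Cub K] (g g' : M K) : iw x (g * g') = iw x g * iw x g' := by
  rw [← mul_one (iw x (g * g')), ← mul_one (iw x g * iw x g')]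
  simp only [iw, mul_assoc, sw0 h 23 22 (by simp), sw0 h 23 19 (by simp), sw0 h 23 16 (by simp), sw0 h 23 15 (by simp),
    sw0 h 23 17 (by simp), sw0 h 23 20 (by simp), sw0 h 23 21 (by simp), sw0 h 23 14 (by simp),
    sw0 h 23 18 (by simp), sw0 h 23 13 (by simp), sw0 h 23 12 (by simp), sw0 h 22 19 (by simp),
    sw0 h 22 16 (by simp), sw0 h 22 15 (by simp), sw0 h 22 17 (by simp), sw0 h 22 20 (by simp),
    sw0 h 22 21 (by simp), sw0 h 22 18 (by simp), sw0 h 22 13 (by simp), sw0 h 22 12 (by simp),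
    sw0 h 19 16 (by simp), sw0 h 19 15 (by simp), sw0 h 19 20 (by simp), sw0 h 19 21 (by simp),
    sw0 h 19 14 (by simp), sw0 h 19 18 (by simp), sw0 h 16 15 (by simp), sw0 h 16 17 (by simp),
    sw0 h 16 21 (by simp), sw0 h 16 14 (by simp), sw0 h 16 13 (by simp), sw0 h 15 17 (by simp),
    sw0 h 15 20 (by simp), sw0 h 15 14 (by simp), sw0 h 15 12 (by simp), sw0 h 17 20 (by simp),
    sw0 h 17 21 (by simp), sw0 h 17 14 (by simp), sw0 h 17 13 (by simp), sw0 h 17 12 (by simp),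
    sw0 h 20 21 (by simp), sw0 h 20 14 (by simp), sw0 h 20 18 (by simp), sw0 h 20 12 (by simp),
    sw0 h 21 14 (by simp), sw0 h 21 18 (by simp), sw0 h 21 13 (by simp), sw0 h 18 13 (by simp),
    sw0 h 18 12 (by simp), sw0 h 13 12 (by simp), sw1 h 22 14 23 (-1) (by simp), sw1 h 19 17 23
    (-1) (by simp), sw1 h 19 13 21 (-1) (by simp), sw1 h 19 12 20 (-1) (by simp), sw1 h 16 20 23
    (-1) (by simp), sw1 h 16 18 21 (1) (by simp), sw1 h 16 12 17 (-1) (by simp), sw1 h 15 21 23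
    (-1) (by simp), sw1 h 15 18 20 (1) (by simp), sw1 h 15 13 17 (-1) (by simp), sw1 h 17 18 22
    (1) (by simp), sw1 h 20 13 22 (-1) (by simp), sw1 h 21 12 22 (-1) (by simp), sw1 h 14 18 19
    (1) (by simp), sw1 h 14 13 16 (-1) (by simp), sw1 h 14 12 15 (-1) (by simp), ad h 23 (by
    simp), ad h 22 (by simp), ad h 19 (by simp), ad h 16 (by simp), ad h 15 (by simp), ad h 17
    (by simp), ad h 20 (by simp), ad h 21 (by simp), ad h 14 (by simp), ad h 18 (by simp), ad h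
    13 (by simp), ad h 12 (by simp)]
  iterate 11 (refine congrArg₂ _ (congrArg _ ?_) ?_; · push_cast; mdl [])
  refine congrArg₂ _ (congrArg _ ?_) rfl
  mdl []

end Cfsg.Lib.D4F
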