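import Cfsg.Agent.D4F.R1
import Cfsg.Agent.D4F.F1
import Cfsg.Agent.D4F.F4
import Cfsg.Agent.S1067

/-! Fusion systems over a Sylow subgroup of `³D₄(q)`: the model is a Sylow subgroup. -/

set_option autoImplicit false
set_option linter.unusedSectionVars false

namespace Cfsg.Lib.D4F

open Subgroup Cfsg.Lie Cfsg.Lib.Chev

variable {K : Type*} [Field K] [Cub K]

namespace R2

theorem cm_mem {S : Subgroup (M K)} {g x : M K} (hg : g ∈ S) (hx : x ∈ S) : cm g x ∈ S :=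
  mul_mem (inv_mem hg) (mul_mem (mul_mem hx hg) (inv_mem hx))

/-- The model is generated by the simple root subgroups. -/
theorem gen [Finite K] {S : Subgroup (M K)} (ha : ∀ t, ea t ∈ S) (hb : ∀ u h, eb u h ∈ S)
    (g : M K) : g ∈ S := by
  have hs : ∀ s, ∃ g ∈ S, g ∈ Q12 K ∧ g.s = s := fun s =>
    ⟨_, cm_mem (hb 1 (map_one _)) (ha s), cm_Q12 _ _, by rw [cm_s]; simp [ea, eb]⟩
  have hr' : ∀ a b, ∃ g ∈ S, g ∈ UU K ∧ g.r = cr a b := fun a b => by
    obtain ⟨g, hg, h1, rfl⟩ := hs b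
    exact ⟨_, cm_mem hg (ha a), cm_UU_left h1 _, cm_r_left h1⟩
  have hr : ∀ r, ∃ g ∈ S, g ∈ UU K ∧ g.r = r := fun r => by
    obtain ⟨a, b, c, d, rfl⟩ := exists_cr_add r
    obtain ⟨g, hg, h1, e1⟩ := hr' a b
    obtain ⟨g', hg', h2, e2⟩ := hr' c d
    exact ⟨_, mul_mem hg hg', mul_mem h1 h2, by
      rw [M.mul_r, h1.1, h2.2.1, e1, e2]; simp⟩
  have hv : ∀ v, σ v = v → ∃ g ∈ S, g ∈ Z2 K ∧ g.v = v := fun v h => by
    obtain ⟨r, e⟩ := exists_tr (one_ne_zero' K) h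
    obtain ⟨g, hg, h1, rfl⟩ := hr r
    exact ⟨_, cm_mem hg (ha 1), cm_Z2_left h1 _, (cm_v_left h1).trans e⟩
  have hz : ZZ K ≤ S := fun z h => by
    obtain ⟨g, hg, h1, e⟩ := hv 1 (map_one _)
    have h2 := cm_ZZ_left h1 (eb z.z z.hz)
    have h3 : (cm g (eb z.z z.hz)).z = z.z := by
      rw [cm_z_left (Z2_le_UU h1), e, h1.2.2.2]; simp [eb]
    exact M.ext (h2.1.trans h.1.symm) (h2.2.1.trans h.2.1.symm) (h2.2.2.1.trans h.2.2.1.symm)
      (h2.2.2.2.1.trans h.2.2.2.1.symm) (h2.2.2.2.2.trans h.2.2.2.2.symm) h3 ▸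
      cm_mem hg (hb _ _)
  have key : ∀ {y g : M K}, g ∈ S → y * g⁻¹ ∈ S → y ∈ S := fun hg h => by
    simpa using mul_mem h hg
  have h2 : Z2 K ≤ S := fun y ⟨a0, a1, a2, a3⟩ => by
    obtain ⟨g, hg, ⟨b0, b1, b2, b3⟩, e⟩ := hv y.v y.hv
    refine key hg (hz ⟨?_, ?_, ?_, ?_, ?_⟩) <;> mdl [a0, a1, a2, a3, b0, b1, b2, b3, e]
  have h3 : UU K ≤ S := fun y ⟨a0, a1, a2⟩ => by
    obtain ⟨g, hg, ⟨b0, b1, b2⟩, e⟩ := hr y.r
    refine key hg (h2 ⟨?_, ?_, ?_, ?_⟩) <;> mdl [a0, a1, a2, b0, b1, b2, e]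
  have h4 : Q12 K ≤ S := fun y ⟨a0, a1⟩ => by
    obtain ⟨g, hg, ⟨b0, b1⟩, e⟩ := hs y.s
    refine key hg (h3 ⟨?_, ?_, ?_⟩) <;> mdl [a0, a1, b0, b1, e]
  refine key (mul_mem (ha g.t) (hb g.u g.hu)) (h4 ⟨?_, ?_⟩) <;> mdl [ea, eb]

theorem hom_ext [Finite K] {G : Type*} [Group G] {φ ψ : M K →* G} (ha : ∀ t, φ (ea t) = ψ (ea t))
    (hb : ∀ u h, φ (eb u h) = ψ (eb u h)) (g : M K) : φ g = ψ g :=
  gen (S := φ.eqLocus ψ) ha hb g

section
variable {G : Type*} [Group G] {x : ℕ → K → G}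

/-- The word of `g`. -/
theorem iw_eq (g : M K) : iw x g = word x [(23, -g.z), (22, -g.v), (19, -g.s), (16, σ g.s),
    (15, σ (σ g.s)), (17, g.r), (20, -σ g.r), (21, -σ (σ g.r)), (14, g.u), (18, g.t), (13, σ g.t),
    (12, σ (σ g.t))] := by
  simp only [iw, word_cons, word_nil, mul_one, mul_assoc]

variable (h : StRel chevD4 x)
include h

theorem z0 {r : ℕ} (hr : r < 24) : x r 0 = 1 :=
  h.zero (by rwa [show chevD4.nroots = 24 by decide +kernel])

theorem iw_ea (t : K) : iw x (ea t) = x 18 t * x 13 (σ t) * x 12 (σ (σ t)) := by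
  simp [iw, ea, z0 h]

theorem iw_eb (u : K) (hu : σ u = u) : iw x (eb u hu) = x 14 u := by simp [iw, eb, z0 h]

theorem iw_ec (s : K) : iw x (ec s) = x 19 (-s) * x 16 (σ s) * x 15 (σ (σ s)) := by
  simp [iw, ec, z0 h]

theorem iw_ed (r : K) : iw x (ed r) = x 17 r * x 20 (-σ r) * x 21 (-σ (σ r)) := by
  simp [iw, ed, z0 h]

theorem iw_ee (v : K) (hv : σ v = v) : iw x (ee v hv) = x 22 (-v) := by simp [iw, ee, z0 h]

theorem iw_ew (z : K) (hz : σ z = z) : iw x (ew z hz) = x 23 (-z) := by simp [iw, ew, z0 h]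

end

theorem st (K : Type*) [Field K] : StRel chevD4 (Core.xGL chevD4 K) :=
  (Core.certD4.stRelN K rootD4).toStRel

theorem iw_inj : Function.Injective (iw (Core.xGL chevD4 K) : M K → _) := fun g g' e => by
  rw [iw_eq, iw_eq] at e
  have := fun h1 h2 h3 => (Core.certD4.model K rootD4).posInj _ _ h1 h2 h3 e
  replace this := this rfl (by decide : [23, 22, 19, 16, 15, 17, 20, 21, 14, 18, 13, 12].Nodup)
    fun p hp => (by decide +kernel : ∀ r ∈ [23, 22, 19, 16, 15, 17, 20, 21, 14, 18, 13, 12],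
      chevD4.IsPosRoot r) _ (List.mem_map_of_mem (f := Prod.fst) hp)
  simp only [List.cons.injEq, Prod.mk.injEq, true_and, neg_inj] at this
  obtain ⟨h1, h2, h3, -, -, h4, -, -, h5, h6, -⟩ := this
  exact M.ext h6 h5 h3 h4 h2 h1

theorem iw_mem_U (g : M K) : iw (Core.xGL chevD4 K) g ∈ (Core.certD4.Y K rootD4).U := by
  have key : ∀ r ∈ [23, 22, 19, 16, 15, 17, 20, 21, 14, 18, 13, 12], ∀ t,
      Core.xGL chevD4 K r t ∈ (Core.certD4.Y K rootD4).U := fun r hr t =>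
    mem_spanX (T := {r | rootD4.weyl.Pos r}) _ (rootD4.weyl_pos.2 ((by decide +kernel :
      ∀ r ∈ [23, 22, 19, 16, 15, 17, 20, 21, 14, 18, 13, 12], chevD4.IsPosRoot r) r hr))
      (x_mem_xSub _ r t)
  simp only [iw]
  repeat' apply mul_mem
  all_goals exact key _ (by decide) _

/-- The twist attached to `σ`. -/
theorem G1_eq {q : ℕ} (hq : ∀ x : K, σ x = x ^ q) :
    (twD4 (σ : K ≃+* K).toRingHom σ3).G1 = twistedD4 K q := twD4_G1 _ _ hq

theorem card_kk [Finite K] {q : ℕ} (hK : Nat.card K = q ^ 3) : Nat.card (kk K) = q :=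
  Nat.pow_left_injective three_ne_zero (card_K.symm.trans hK)

end R2

open R2

variable [Finite K] {q : ℕ} (hq : ∀ x : K, σ x = x ^ q) (hK : Nat.card K = q ^ 3)
include hq hK

theorem exists_io : ∃ ι : M K →* twistedD4 K q,
    ∀ g, (ι g : GL chevD4.Idx K) = iw (Core.xGL chevD4 K) g := by
  let φ : M K →* GL chevD4.Idx K := MonoidHom.mk' _ (iw_mul (st K))
  refine ⟨φ.codRestrict _ (gen (S := (twistedD4 K q).comap φ) (fun t => ?_) fun u hu => ?_),
    fun _ => rfl⟩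
  · change iw (Core.xGL chevD4 K) _ ∈ twistedD4 K q
    rw [iw_ea (st K), ← G1_eq hq]
    simpa [mul_assoc] using (endD4 (σ : K ≃+* K).toRingHom σ3).word_mem_G1 Core.certD4
      (clD4 _ σ3 _) (i := (0 : Fin 4)) ⟨t, rfl⟩
  · change iw (Core.xGL chevD4 K) _ ∈ twistedD4 K q
    rw [iw_eb (st K), ← G1_eq hq]
    simpa using (endD4 (σ : K ≃+* K).toRingHom σ3).word_mem_G1 Core.certD4
      (clD4 _ σ3 _) (i := (1 : Fin 4)) ⟨u, hu, rfl⟩

variable {ι : M K →* twistedD4 K q}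
  (hι : ∀ g, (ι g : GL chevD4.Idx K) = iw (Core.xGL chevD4 K) g)
include hι

theorem io_inj : Function.Injective ι := fun g g' e =>
  iw_inj (by rw [← hι, ← hι, e])

theorem io_idx {p : ℕ} [Fact p.Prime] [CharP K p] : ¬ p ∣ ι.range.index := by
  have := Fintype.ofFinite K
  have hp : p.Prime := Fact.out
  have hK' : Fintype.card K = q ^ 3 := by rw [← hK, Nat.card_eq_fintype_card]
  have h1 := Agent.S1067.result ((isPrimePow_pow_iff three_ne_zero).1
    (hK' ▸ FiniteField.isPrimePow_card K)) hK'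
  have h2 := two_le_of_card hK'
  have h3 : p ∣ q := by
    obtain ⟨n, -, hn⟩ := FiniteField.card K p
    exact hp.dvd_of_dvd_pow (by rw [← hK', hn]; exact dvd_pow_self p n.ne_zero)
  rw [← ι.range.card_mul_index, ← Nat.card_congr (MonoidHom.ofInjective (io_inj hq hK hι)).toEquiv,
    card_M, card_kk hK, mul_assoc, mul_assoc] at h1
  rw [Nat.eq_of_mul_eq_mul_left (by positivity) h1]
  have h4 : ∀ n, n ≠ 0 → ¬ p ∣ q ^ n - 1 := fun n hn h => hp.one_lt.ne' (Nat.dvd_one.1 (by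
    have := Nat.dvd_sub (h3.trans (dvd_pow_self q hn)) h
    rwa [Nat.sub_sub_self (Nat.one_le_pow _ _ (by omega))] at this))
  refine fun h => (hp.dvd_mul.1 h).elim (h4 2 (by decide)) fun h =>
    (hp.dvd_mul.1 h).elim (h4 6 (by decide)) fun h => hp.one_lt.ne' (Nat.dvd_one.1 ?_)
  exact (Nat.dvd_add_right (dvd_add (h3.trans (dvd_pow_self q (by decide)))
    (h3.trans (dvd_pow_self q (by decide))))).1 h

/-- The image of the model is the group of fixed points in `U`. -/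
theorem R2.surj {u : GL chevD4.Idx K}
    (hu : u ∈ (Core.certD4.Y K rootD4).U ⊓ (twD4 (σ : K ≃+* K).toRingHom σ3).F) :
    ∃ g, (ι g : GL chevD4.Idx K) = u := by
  have := Fintype.ofFinite K
  have hK' : Fintype.card K = q ^ 3 := by rw [← hK, Nat.card_eq_fintype_card]
  have hY := Core.certD4.faithful K rootD4
  have h1 := (twD4 (σ : K ≃+* K).toRingHom σ3).card_U hY (twD4_card_UL _ σ3 hK' hq)
  rw [rootD4.card_posRoots, show chevD4.nroots / 2 / 1 = 12 by decide +kernel] at h1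
  have h2 : ((twistedD4 K q).subtype.comp ι).range ≤
      (Core.certD4.Y K rootD4).U ⊓ (twD4 (σ : K ≃+* K).toRingHom σ3).F := by
    rintro _ ⟨g, rfl⟩
    exact ⟨(congrArg (· ∈ _) (hι g)).mpr (iw_mem_U g),
      (twD4 _ σ3).G1_le_F ((G1_eq hq).ge (ι g).2)⟩
  have h3 : Function.Injective ((twistedD4 K q).subtype.comp ι) :=
    (subtype_injective (twistedD4 K q)).comp (io_inj hq hK hι)
  exact (eq_of_le_of_card_ge h2 (by
    rw [h1, ← Nat.card_congr (MonoidHom.ofInjective h3).toEquiv, card_M, card_kk hK])).ge hu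

end Cfsg.Lib.D4F
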