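import Cfsg.Agent.D4F.R2

/-! Fusion systems over a Sylow subgroup of `³D₄(q)`: the torus. -/

set_option autoImplicit false
set_option linter.unusedSectionVars false

namespace Cfsg.Lib.D4F

open Subgroup Cfsg.Lie Cfsg.Lib.Chev R2

variable {K : Type*} [Field K] [Cub K] [Finite K]

namespace R3

theorem act {h : GL chevD4.Idx K} {c : Fin 4 → Kˣ} (ha : ActsBy rootD4 (Core.xGL chevD4 K) h c)
    (hc : c ∈ (subD4 (σ : K ≃+* K).toRingHom).fixT) {γ : Gm K} (hφ : γ.φ = 1) (h0 : γ.a = c 0)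
    (h1 : γ.c = c 1) (g : M K) :
    h * iw (Core.xGL chevD4 K) g * h⁻¹ = iw (Core.xGL chevD4 K) (Gm.aut γ g) := by
  let φ : M K →* GL chevD4.Idx K := MonoidHom.mk' _ (iw_mul (st K))
  have key : ∀ (i : Fin 4) (r : ℕ), chevD4.simple i = r → ∀ t,
      h * Core.xGL chevD4 K r t * h⁻¹ = Core.xGL chevD4 K r (c i * t) := by
    rintro i _ rfl t
    rw [ha _ (rootD4.simple_lt i i.2), rootD4.rc_simple i]
    exact congrArg (fun a : Kˣ => Core.xGL chevD4 K _ (a * t))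
      (chr_single (ι := Fin chevD4.rank) c i)
  have h2 : (c 2 : K) = σ (c 0 : K) := (mem_fixT_D4 _).1 hc 0
  have h3 : (c 3 : K) = σ (c 2 : K) := (mem_fixT_D4 _).1 hc 2
  refine hom_ext (φ := (MulAut.conj h).toMonoidHom.comp φ) (ψ := φ.comp (Gm.aut γ).toMonoidHom)
    (fun t => ?_) (fun u hu => ?_) g
  · have e : Gm.aut γ (ea t) = ea (γ.a * t) := by
      ext <;> simp [Gm.aut_t, Gm.aut_u, Gm.aut_s, Gm.aut_r, Gm.aut_v, Gm.aut_z, ea, hφ]
    change h * iw _ (ea t) * h⁻¹ = iw _ (Gm.aut γ (ea t))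
    rw [e, iw_ea (st K), iw_ea (st K), map_mul, map_mul, h0, ← h2, ← h3,
      ← key 0 18 (by decide +kernel), ← key 2 13 (by decide +kernel),
      ← key 3 12 (by decide +kernel)]
    group
  · have e : Gm.aut γ (eb u hu) = eb (γ.c * u) (by simp [hu]) := by
      ext <;> simp [Gm.aut_t, Gm.aut_u, Gm.aut_s, Gm.aut_r, Gm.aut_v, Gm.aut_z, eb, hφ]
    change h * iw _ (eb u hu) * h⁻¹ = iw _ (Gm.aut γ (eb u hu))
    rw [e, iw_eb (st K), iw_eb (st K), h1, key 1 14 (by decide +kernel)]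

theorem exists_sqrt {a : K} (ha : a ≠ 0) : ∃ s, s ≠ 0 ∧ s ^ 2 = sh a ∧ nm s = nm a := by
  have h1 : Function.Injective fun s : K => sh s / s := fun s t e => by
    by_cases hs : s = 0
    · simpa [hs, eq_comm (a := (0 : K))] using e
    by_cases ht : t = 0
    · simpa [ht] using e
    have e1 : sh s * t = sh t * s := (div_eq_div_iff hs ht).1 e
    obtain ⟨w, rfl⟩ : ∃ w, s = w * t := ⟨s / t, (div_mul_cancel₀ s ht).symm⟩
    have hw : w ≠ 0 := left_ne_zero_of_mul hs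
    have e2 : sh w = w := mul_right_cancel₀ (mul_ne_zero (sh_eq_zero.not.2 ht) ht) (by
      rw [sh_mul] at e1; linear_combination e1)
    have e3 : nm w = 1 := mul_right_cancel₀ hw (by rw [← sh_sh, e2, e2, one_mul])
    have e4 : w * w = 1 := by rw [← e3, ← mul_sh, e2]
    rcases mul_self_eq_one_iff.1 e4 with rfl | rfl
    · exact one_mul t
    · rw [sh_neg, sh_one] at e2
      rw [← e2, one_mul]
  obtain ⟨s, rfl⟩ := Finite.injective_iff_surjective.1 h1 a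
  have hs : s ≠ 0 := fun e => ha (by simp [e])
  have h2 : sh s ≠ 0 := sh_eq_zero.not.2 hs
  refine ⟨s, hs, mul_right_cancel₀ h2 ?_, mul_right_cancel₀ (nm_eq_zero.not.2 hs) ?_⟩
  · rw [← sh_mul, div_mul_cancel₀ _ hs, sh_sh, ← mul_sh]; ring
  · rw [← nm_mul (sh s / s), div_mul_cancel₀ _ hs, nm_sh, sq]

end R3

variable {q : ℕ} (hq : ∀ x : K, σ x = x ^ q) (hK : Nat.card K = q ^ 3)
  {ι : M K →* twistedD4 K q} (hι : ∀ g, (ι g : GL chevD4.Idx K) = iw (Core.xGL chevD4 K) g)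
include hq hK hι

theorem io_tor (γ : Gm K) (h : γ.φ = 1) : ∃ h, ∀ g, h * ι g * h⁻¹ = ι (Gm.aut γ g) := by
  obtain ⟨s, hs, h1, h2⟩ := R3.exists_sqrt γ.ha
  have ha := γ.ha
  have hc := γ.hc
  have hn : nm γ.a ≠ 0 := nm_eq_zero.not.2 ha
  let f := (σ : K ≃+* K).toRingHom
  let b : Kˣ := Units.mk0 (γ.c * γ.a * s) (by simp [ha, hc, hs])
  let e : Kˣ := Units.mk0 (γ.c ^ 2 * nm γ.a) (by simp [ha, hc])
  let c : Fin 4 → Kˣ := ![b, e, Units.map (f : K →* K) b,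
    Units.map (f : K →* K) (Units.map (f : K →* K) b)]
  have hf : c ∈ (subD4 f).fixT := (mem_fixT_D4 f).2 (forall_fin4 rfl
    (show γ.c ^ 2 * nm γ.a = σ (γ.c ^ 2 * nm γ.a) by simp) rfl (σ3 _).symm)
  have hA : ∀ i j : Fin 4, chevD4.cartan i (chevD4.simple j) = (cartanD4.getD i []).getD j 0 := by
    decide +kernel
  have key : ∀ j : Fin 4, cartanHom chevD4 Kˣ c j =
      ∏ i : Fin 4, c i ^ (cartanD4.getD i []).getD j 0 := fun j => by
    simp only [← hA]; rfl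
  refine ⟨⟨_, (G1_eq hq).le (hHom_mem_twD4 f σ3 c hf)⟩, fun g => Subtype.ext ?_⟩
  change _ * (ι g : GL chevD4.Idx K) * _ = _
  rw [hι, hι]
  refine R3.act ((Core.certD4.stRelN K rootD4).actsBy_hHom rootD4 c)
    (((endD4 f σ3).torMap_cartanHom c).trans (congrArg _ hf)) h ?_ ?_ g
  · rw [key]
    simp [cartanD4, Fin.prod_univ_succ, c, b, e]
    field_simp
    rw [h1, ← mul_sh]
  · rw [key]
    have e1 : γ.c * γ.a * s * σ (γ.c * γ.a * s) * σ (σ (γ.c * γ.a * s)) = γ.c ^ 3 * nm γ.a ^ 2 := by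
      change nm _ = _
      rw [nm_mul, nm_mul, nm_fix γ.σc, h2]; ring
    simp [cartanD4, Fin.prod_univ_succ, c, b, e, f, -map_mul]
    have e2 : σ (γ.c * γ.a * s) ≠ 0 := (map_ne_zero _).2 b.ne_zero
    have e3 : σ (σ (γ.c * γ.a * s)) ≠ 0 := (map_ne_zero _).2 e2
    generalize σ (σ (γ.c * γ.a * s)) = z at *
    generalize σ (γ.c * γ.a * s) = y at *
    field_simp
    exact mul_left_cancel₀ hc (by linear_combination e1)

end Cfsg.Lib.D4F
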