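import Cfsg.Agent.D4F.R3
import Cfsg.Agent.Chev.AutBN

/-! Fusion systems over a Sylow subgroup of `³D₄(q)`: the normaliser of the Sylow subgroup. -/

set_option autoImplicit false

namespace Cfsg.Lib.D4F

open Subgroup Cfsg.Lie Cfsg.Lib.Chev R2

variable {K : Type*} [Field K] [Cub K] [Finite K] {q : ℕ} (hq : ∀ x : K, σ x = x ^ q)
  (hK : Nat.card K = q ^ 3) {ι : M K →* twistedD4 K q}
  (hι : ∀ g, (ι g : GL chevD4.Idx K) = iw (Core.xGL chevD4 K) g)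
include hq hK hι

theorem io_nrm (h : twistedD4 K q) (hn : ∀ g, h * ι g * h⁻¹ ∈ ι.range) :
    ∃ x, ∃ γ : Gm K, γ.φ = 1 ∧ ∀ g, h * ι g * h⁻¹ = ι (x * Gm.aut γ g * x⁻¹) := by
  have hY := Core.certD4.faithful K rootD4
  have h1 := (G1_eq hq).ge h.2
  have h2 := (twD4 _ σ3).mem_B_of_conj hY ((twD4 _ σ3).G1_le_F h1) fun u hu => by
    obtain ⟨g, rfl⟩ := surj hq hK hι hu
    obtain ⟨g', e⟩ := hn g
    exact (congrArg (· ∈ _) ((hι g').symm.trans (congrArg Subtype.val e))).mp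
      (RGD.U_le_B _ (iw_mem_U g'))
  obtain ⟨u, hu, d, hd, e⟩ := ((twD4 _ σ3).mem_B_inf_iff hY).1 ⟨h2, h1⟩
  obtain ⟨x, rfl⟩ := surj hq hK hι hu
  obtain ⟨c, hc⟩ := (Core.certD4.stRelN K rootD4).toStRelW.exists_actsBy rootD4 hd.1
  have hf := (endD4 _ σ3).mem_fixT_of_actsBy Core.certD4 (clD4 _ σ3 _) hd.1
    ((twD4 _ σ3).G1_le_F hd.2) hc
  refine ⟨x, ⟨c (0 : Fin 4), c (1 : Fin 4), 1, Units.ne_zero _, Units.ne_zero _,
    ((mem_fixT_D4 _).1 hf 1).symm, fun _ => rfl⟩, rfl, fun g => Subtype.ext ?_⟩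
  rw [map_mul, map_mul, map_inv]
  change (h : GL chevD4.Idx K) * ι g * (h : GL chevD4.Idx K)⁻¹ =
    ι x * ι _ * (ι x : GL chevD4.Idx K)⁻¹
  rw [hι (Gm.aut _ g), ← R3.act hc hf rfl rfl rfl, e, hι g]
  group

end Cfsg.Lib.D4F
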