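import Cfsg.Agent.D4F.R2

/-! Fusion systems over a Sylow subgroup of `³D₄(q)`: the Weyl elements. -/

set_option autoImplicit false
set_option linter.unusedSectionVars false

namespace Cfsg.Lib.D4F

open Subgroup Cfsg.Lie Cfsg.Lib.Chev R2

variable {K : Type*} [Field K] [Cub K] [Finite K]

namespace R5

theorem nc (i r s s' : ℕ) (e : ℤ) (h : i < chevD4.rank ∧ s < chevD4.nroots ∧
    chevD4.simple i = r ∧ chevD4.reflectRoot i s = s' ∧ Core.certD4.eta i s = e) (u : K) :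
    MulAut.conj (nel chevD4 (Core.xGL chevD4 K) r 1) (Core.xGL chevD4 K s u) =
      Core.xGL chevD4 K s' (e * u) := by
  obtain ⟨hi, hs, rfl, rfl, rfl⟩ := h
  rw [MulAut.conj_apply, mul_inv_eq_iff_eq_mul, Units.ext_iff]
  simp only [Units.val_mul, Core.certD4.coe_xGL rootD4, Core.certD4.coe_nel rootD4,
    Core.certD4.nMat_simple_mul_x rootD4 hi hs one_ne_zero, one_zpow, mul_one]

theorem n2 (g : M K) (hg : g.u = 0) :
    MulAut.conj (nel chevD4 (Core.xGL chevD4 K) 14 1) (iw (Core.xGL chevD4 K) g) =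
      iw (Core.xGL chevD4 K) (ee (-g.z) (by simp) * ew g.v g.hv * ea g.s * ed g.r * ec (-g.t)) := by
  simp only [iw_mul (st K), iw_ew (st K), iw_ee (st K), iw_ec (st K), iw_ed (st K), iw_ea (st K)]
  simp only [iw, map_mul, hg, z0 (st K) (by decide : 14 < 24), mul_one,
    nc 1 14 23 22 (-1) (by decide +kernel), nc 1 14 22 23 1 (by decide +kernel),
    nc 1 14 19 18 (-1) (by decide +kernel), nc 1 14 16 13 1 (by decide +kernel),
    nc 1 14 15 12 1 (by decide +kernel), nc 1 14 17 17 1 (by decide +kernel),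
    nc 1 14 20 20 1 (by decide +kernel), nc 1 14 21 21 1 (by decide +kernel),
    nc 1 14 18 19 1 (by decide +kernel), nc 1 14 13 16 (-1) (by decide +kernel),
    nc 1 14 12 15 (-1) (by decide +kernel)]
  simp

theorem n1 (g : M K) (hg : g.t = 0) :
    MulAut.conj (nel chevD4 (Core.xGL chevD4 K) 18 1 * (nel chevD4 (Core.xGL chevD4 K) 13 1 *
      nel chevD4 (Core.xGL chevD4 K) 12 1)) (iw (Core.xGL chevD4 K) g) =
      iw (Core.xGL chevD4 K) (ew g.z g.hz * eb (-g.v) (by simp) * ed (-g.s) * ec g.r *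
        ee g.u g.hu) := by
  simp only [iw_mul (st K), iw_ew (st K), iw_ee (st K), iw_ec (st K), iw_ed (st K), iw_eb (st K)]
  simp only [iw, map_mul, MulAut.mul_apply, hg, map_zero, z0 (st K) (by decide : 18 < 24),
    z0 (st K) (by decide : 13 < 24), z0 (st K) (by decide : 12 < 24), mul_one,
    nc 3 12 23 23 1 (by decide +kernel), nc 3 12 22 21 (-1) (by decide +kernel),
    nc 3 12 19 20 1 (by decide +kernel), nc 3 12 16 17 1 (by decide +kernel),
    nc 3 12 15 14 (-1) (by decide +kernel), nc 3 12 17 16 (-1) (by decide +kernel),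
    nc 3 12 20 19 (-1) (by decide +kernel), nc 3 12 21 22 1 (by decide +kernel),
    nc 3 12 14 15 1 (by decide +kernel),
    nc 2 13 23 23 1 (by decide +kernel), nc 2 13 22 20 (-1) (by decide +kernel),
    nc 2 13 19 21 1 (by decide +kernel), nc 2 13 16 14 (-1) (by decide +kernel),
    nc 2 13 15 17 1 (by decide +kernel), nc 2 13 17 15 (-1) (by decide +kernel),
    nc 2 13 20 22 1 (by decide +kernel), nc 2 13 21 19 (-1) (by decide +kernel),
    nc 2 13 14 16 1 (by decide +kernel),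
    nc 0 18 23 23 1 (by decide +kernel), nc 0 18 22 17 1 (by decide +kernel),
    nc 0 18 19 14 1 (by decide +kernel), nc 0 18 16 21 (-1) (by decide +kernel),
    nc 0 18 15 20 (-1) (by decide +kernel), nc 0 18 17 22 (-1) (by decide +kernel),
    nc 0 18 20 15 1 (by decide +kernel), nc 0 18 21 16 1 (by decide +kernel),
    nc 0 18 14 19 (-1) (by decide +kernel)]
  simp

theorem prod_mem {i : Fin 4} (ho : (listD4 i).Pairwise fun r s => orthChk chevD4 r s = true)
    (h : ((listD4 i).map fun r => (r, (1 : K))) ∈ wordsD4 (σ : K ≃+* K).toRingHom i) :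
    ((listD4 i).map fun r => nel chevD4 (Core.xGL chevD4 K) r 1).prod ∈
      (twD4 (σ : K ≃+* K).toRingHom σ3).G1 := by
  have h1 := (st K).prod_nel rootD4 (w := (listD4 i).map fun r => (r, (1 : K)))
    (by simpa [List.map_map, Function.comp_def] using ho)
  simp only [List.map_map, Function.comp_def, inv_one] at h1
  rw [h1]
  exact mul_mem (mul_mem ((endD4 _ σ3).word_mem_G1 Core.certD4 (clD4 _ σ3 _) h)
    ((endD4 _ σ3).negWord_mem_G1 Core.certD4 (clD4 _ σ3 _) h))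
    ((endD4 _ σ3).word_mem_G1 Core.certD4 (clD4 _ σ3 _) h)

end R5

open R5

variable {q : ℕ} (hq : ∀ x : K, σ x = x ^ q) (hK : Nat.card K = q ^ 3)
  {ι : M K →* twistedD4 K q} (hι : ∀ g, (ι g : GL chevD4.Idx K) = iw (Core.xGL chevD4 K) g)
include hq hK hι

theorem io_mv1 : ∃ h, (∀ g ∈ Q1 K, ∃ g' ∈ Q1 K, h * ι g * h⁻¹ = ι g') ∧
    ∃ g ∈ Z2 K, ∃ g' ∉ Z2 K, h * ι g * h⁻¹ = ι g' := by
  have h1 := (G1_eq hq).le (prod_mem (K := K) (i := 0) (by decide +kernel) ⟨1, by simp [listD4]⟩)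
  simp only [listD4, Matrix.cons_val_zero, List.map_cons, List.map_nil, List.prod_cons,
    List.prod_nil, mul_one] at h1
  have key : ∀ g : M K, g.t = 0 → (⟨_, h1⟩ : twistedD4 K q) * ι g * ⟨_, h1⟩⁻¹ = ι _ := fun g hg =>
    Subtype.ext (((congrArg (MulAut.conj _) (hι g)).trans (n1 g hg)).trans (hι _).symm)
  refine ⟨_, fun g hg => ⟨_, ?_, key g hg⟩, ee 1 (map_one _), ⟨rfl, rfl, rfl, rfl⟩, _,
    fun h => ?_, key _ rfl⟩
  · simp [mem_Q1, M.mul_t, ew, eb, ed, ec, ee]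
  · simpa [M.mul_u, ew, eb, ed, ec, ee] using h.2.1

theorem io_mv2 : ∃ h, (∀ g ∈ Q2 K, ∃ g' ∈ Q2 K, h * ι g * h⁻¹ = ι g') ∧
    ∃ g ∈ ZZ K, ∃ g' ∉ ZZ K, h * ι g * h⁻¹ = ι g' := by
  have h1 := (G1_eq hq).le (prod_mem (K := K) (i := 1) (by decide +kernel) ⟨1, map_one _, rfl⟩)
  simp only [listD4, Matrix.cons_val_one, Matrix.cons_val_zero, List.map_cons, List.map_nil,
    List.prod_cons, List.prod_nil, mul_one] at h1
  have key : ∀ g : M K, g.u = 0 → (⟨_, h1⟩ : twistedD4 K q) * ι g * ⟨_, h1⟩⁻¹ = ι _ := fun g hg =>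
    Subtype.ext (((congrArg (MulAut.conj _) (hι g)).trans (n2 g hg)).trans (hι _).symm)
  refine ⟨_, fun g hg => ⟨_, ?_, key g hg⟩, ew 1 (map_one _), ⟨rfl, rfl, rfl, rfl, rfl⟩, _,
    fun h => ?_, key _ rfl⟩
  · simp [mem_Q2, M.mul_u, ew, ea, ed, ec, ee]
  · simpa [M.mul_v, M.mul_t, ew, ea, ed, ec, ee] using h.2.2.2.2

end Cfsg.Lib.D4F
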