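import Cfsg.Agent.D4F.Defs2
import Cfsg.Agent.Chev.TwistD4

/-! Fusion systems over a Sylow subgroup of `³D₄(q)`: field automorphisms. -/

set_option autoImplicit false
set_option linter.unusedSectionVars false

namespace Cfsg.Lib.D4F

open Subgroup Cfsg.Lie Cfsg.Lib.Chev Cfsg.Lib.Chev.Core

variable {K : Type*} [Field K] [Cub K] [Finite K] {q : ℕ}

theorem R6.map_mem (φ : K →+* K) {g : GL chevD4.Idx K} (hg : g ∈ twistedD4 K q) :
    mapGL chevD4 φ g ∈ twistedD4 K q := by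
  rw [twistedD4, Core.certD4.genSubgroup_eq (R := rootD4)] at hg ⊢
  refine mem_comap.1 ((closure_le (K := comap (mapGL chevD4 φ) _)).2 ?_ hg)
  rintro _ ⟨_, ⟨t, ht, r, hr, rfl⟩ | ⟨t, r, hr, rfl⟩, rfl⟩
  · exact subset_closure ⟨_, Or.inl ⟨φ t, by rw [← map_pow, ht], r, hr, rfl⟩, by
      simp [Core.certD4.mapGL_xGL φ rootD4]⟩
  · exact subset_closure ⟨_, Or.inr ⟨φ t, r, hr, rfl⟩, by simp [Core.certD4.mapGL_xGL φ rootD4]⟩

variable (hq : ∀ x : K, σ x = x ^ q) (hK : Nat.card K = q ^ 3)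
  {ι : M K →* twistedD4 K q} (hι : ∀ g, (ι g : GL chevD4.Idx K) = iw (Core.xGL chevD4 K) g)
include hq hK hι

theorem io_fld : ∃ ρ : RingAut K →* MulAut (twistedD4 K q),
    ∀ γ : Gm K, γ.a = 1 → γ.c = 1 → ∀ g, ρ γ.φ (ι g) = ι (Gm.aut γ g) := by
  refine ⟨MonoidHom.mk' (fun φ =>
    { toFun := fun g => ⟨_, R6.map_mem (φ : K ≃+* K).toRingHom g.2⟩
      invFun := fun g => ⟨_, R6.map_mem (φ : K ≃+* K).symm.toRingHom g.2⟩
      left_inv := fun g => Subtype.ext (Units.ext (Matrix.ext fun i j => φ.symm_apply_apply _))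
      right_inv := fun g => Subtype.ext (Units.ext (Matrix.ext fun i j => φ.apply_symm_apply _))
      map_mul' := fun g h => Subtype.ext (map_mul _ _ _) }) fun φ ψ => rfl,
    fun γ ha hc g => Subtype.ext ?_⟩
  change mapGL chevD4 γ.φ.toRingHom (ι g) = _
  rw [hι, hι]
  simp [iw, Core.certD4.mapGL_xGL _ rootD4, Gm.aut_t, Gm.aut_u, Gm.aut_s, Gm.aut_r, Gm.aut_v,
    Gm.aut_z, ha, hc, sh_one, nm_one]

end Cfsg.Lib.D4F
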